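import Cfsg.Agent.H578.Two
import Cfsg.Agent.H578.CR
import Cfsg.Agent.H578.Three
import Cfsg.Agent.H578.PermCol
set_option linter.all false

/-!
# Base size two for completely reducible linear groups of odd order (helper578)
-/

set_option autoImplicit false

universe u w

namespace Cfsg.Agent.H578

theorem irr2odd {V : Type u} [AddCommGroup V] [Finite V] [Nontrivial V] (G : Subgroup (AU V))
    (hG : Group.IsSolvable G) (hodd : Odd (Nat.card G)) (hirr : Irr G) :
    HasBase (Fin 2) G := by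
  refine induct (Fin 2) (fun a _ => Odd a) (fun _ _ _ _ h _ h' => Odd.of_dvd_nat h' h) 2
    ?_ ?_ ?_ (Nat.card V) V G rfl hG hodd hirr
  · intro W _ _ _ H _ hodd _ hb
    exact reg2odd H hodd hb
  · intro G Ω _ _ _ _ _ hodd hp
    exact PermCol.prim_odd hodd hp
  · intro V _ _ _ G hG hodd hirr hprim
    obtain ⟨D⟩ := exists_dat hirr hprim hG
    exact D.prim2odd hodd

theorem base2odd_fun {A : Type w} {V : Type u} [Group A] [Finite A] [AddCommGroup V] [Finite V]
    (φ : A →* AU V) (hA : Group.IsSolvable A) (hodd : Odd (Nat.card A)) (hcr : CRed φ) :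
    ∃ v : Fin 2 → V, ∀ a : A, (∀ i, (φ a).1 (v i) = v i) → φ a = 1 :=
  cr_base (Fin 2) (A := A) (fun W _ _ _ φ hirr =>
    irr2odd φ.range (Group.isSolvable_of_surjective (f := φ.rangeRestrict)
      φ.rangeRestrict_surjective) (Odd.of_dvd_nat hodd (Subgroup.card_range_dvd φ)) hirr)
      _ V φ rfl hcr

theorem base2odd {A : Type w} {V : Type u} [Group A] [Finite A] [AddCommGroup V] [Finite V]
    [DistribMulAction A V] [FaithfulSMul A V] (hA : Group.IsSolvable A)
    (hodd : Odd (Nat.card A))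
    (hcr : ∀ U : AddSubgroup V, (∀ a : A, ∀ v ∈ U, a • v ∈ U) →
      ∃ W : AddSubgroup V, (∀ a : A, ∀ w ∈ W, a • w ∈ W) ∧ U ⊓ W = ⊥ ∧ U ⊔ W = ⊤) :
    ∃ v w : V, ∀ a : A, a • v = v → a • w = w → a = 1 := by
  obtain ⟨v, hv⟩ := base2odd_fun (actHom A V) hA hodd hcr
  refine ⟨v 0, v 1, fun a h0 h1 => actHom_eq_one A V (hv a fun i => ?_)⟩
  fin_cases i
  · exact h0
  · exact h1

end Cfsg.Agent.H578
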