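import Cfsg.Agent.H578.Three
import Cfsg.Agent.H578.CR
import Cfsg.Agent.H578.PermCol
set_option linter.all false

/-!
# Base size three for completely reducible solvable linear groups (helper578)
-/

set_option autoImplicit false

universe u w

namespace Cfsg.Agent.H578

theorem irr3 {V : Type u} [AddCommGroup V] [Finite V] [Nontrivial V] (G : Subgroup (AU V))
    (hG : Group.IsSolvable G) (hirr : Irr G) : HasBase (Fin 3) G := by
  refine induct (Fin 3) (fun _ _ => True) (fun _ _ _ _ _ _ _ => trivial) 5 ?_ ?_ ?_ (Nat.card V)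
    V G rfl hG trivial hirr
  · intro W _ _ _ H hH _ _ hb
    exact reg5 H hH hb
  · intro G Ω _ _ _ _ _ _ hp
    exact PermCol.prim5 hp
  · intro V _ _ _ G hG _ hirr hprim
    obtain ⟨D⟩ := exists_dat hirr hprim hG
    exact D.prim3

theorem base3 {A : Type w} {V : Type u} [Group A] [Finite A] [AddCommGroup V] [Finite V]
    [DistribMulAction A V] [FaithfulSMul A V] (hA : Group.IsSolvable A)
    (hcr : ∀ U : AddSubgroup V, (∀ a : A, ∀ v ∈ U, a • v ∈ U) →
      ∃ W : AddSubgroup V, (∀ a : A, ∀ w ∈ W, a • w ∈ W) ∧ U ⊓ W = ⊥ ∧ U ⊔ W = ⊤) :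
    ∃ v₁ v₂ v₃ : V, ∀ a : A, a • v₁ = v₁ → a • v₂ = v₂ → a • v₃ = v₃ → a = 1 := by
  obtain ⟨v, hv⟩ := cr_base (Fin 3) (A := A) (fun W _ _ _ φ hirr =>
    irr3 φ.range (Group.isSolvable_of_surjective (f := φ.rangeRestrict)
      φ.rangeRestrict_surjective) hirr) _ V (actHom A V) rfl hcr
  refine ⟨v 0, v 1, v 2, fun a h0 h1 h2 => actHom_eq_one A V (hv a fun i => ?_)⟩
  fin_cases i
  · exact h0
  · exact h1
  · exact h2

end Cfsg.Agent.H578
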