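import Cfsg.Agent.H578.Two
import Cfsg.Agent.H578.Three
import Cfsg.Agent.H578.PermCol
import Mathlib
set_option linter.all false

-- part: H578/Quad2
section
/-!
# Quadratic functions, second version (helper578)
-/

set_option autoImplicit false
set_option linter.unusedSectionVars false

universe u

namespace Cfsg.Agent.H578

variable {V : Type u} [AddCommGroup V]

namespace Dat

variable {G : Subgroup (AU V)} {D : Dat G} [Nontrivial V]

/-- elements acting as scalars commute with `Q` -/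
theorem BQ {v : V} {x y : AU V} (hx : x ∈ D.B v) (hy : y ∈ D.Q v) : x * y = y * x := by
  obtain ⟨hxE, k, hk, hxk⟩ := hx
  have hki : (k⁻¹).1 ∈ D.K := D.isF.units.inv_mem (x := k) hk
  have h1 := hy.2 (k⁻¹ * x) (D.E.mul_mem (D.KE _ hki) hxE) (by
    rw [au_mul_apply, hxk, au_inv_apply])
  have h2 := D.EKu hy.1 hk
  calc x * y = k * (k⁻¹ * x * y) := by group
    _ = k * (y * (k⁻¹ * x)) := by rw [h1]
    _ = (k * y) * (k⁻¹ * x) := by group
    _ = (y * k) * (k⁻¹ * x) := by rw [h2]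
    _ = y * x := by group

/-- the situation -/
structure Sit2 (D : Dat G) (v : V) (g : AU V) : Prop where
  hg : g ∈ G
  hgv : g.1 v = v
  hv : v ≠ 0
  gK : ∀ a ∈ D.K, ∀ x, g.1 (a x) = a (g.1 x)
  dfB : ∀ x ∈ D.E, df g x ∈ D.B v
  gQ : ∀ x ∈ D.Q v, g.1 (x.1 v) = x.1 v

namespace Sit2

variable {v : V} {g : AU V} (h : D.Sit2 v g)
include h

theorem conjK {k : AU V} (hk : k.1 ∈ D.K) : g * k * g⁻¹ = k := by
  have h1 : g * k = k * g := au_ext fun x => h.gK k.1 hk x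
  rw [h1, mul_inv_cancel_right]

theorem df_Q {x : AU V} (hx : x ∈ D.Q v) : df g x = 1 := by
  have hdx := (h.dfB x hx.1).1
  have hdv : (df g x).1 v = v := by
    apply au_injective x
    have := df_apply g x v
    rw [h.hgv, h.gQ x hx] at this
    exact this.symm
  have hK : (df g x).1 ∈ D.K := by
    apply D.center _ hdx
    intro y hy
    rw [← cm_eq_one]
    have hdy := h.dfB y hy
    have h1 := h.conjK (cm_K hx.1 hy)
    rw [cm_conj] at h1
    have e1 : g * x * g⁻¹ = x * df g x := by unfold df; group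
    have e2 : g * y * g⁻¹ = y * df g y := by unfold df; group
    have c1 : cm x (df g y) = 1 := cm_eq_one.mpr (BQ hdy hx).symm
    have c2 : cm (df g x) (df g y) = 1 := by
      rw [cm_eq_one]
      obtain ⟨hdyE, k, hk, hyk⟩ := hdy
      have hki : (k⁻¹).1 ∈ D.K := D.isF.units.inv_mem (x := k) hk
      have hcK := cm_K hdx hdyE
      rw [← cm_eq_one]
      apply Units.ext
      apply D.isF.eq_of_apply hcK D.K.one_mem h.hv
      have e3 : (df g x * df g y).1 v = k.1 v := by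
        rw [au_mul_apply, hyk, D.EK' hdx hk, hdv]
      have e4 : (df g y * df g x).1 v = k.1 v := by
        rw [au_mul_apply, hdv, hyk]
      have e5 : (cm (df g x) (df g y) * (df g y * df g x)).1 v = (df g x * df g y).1 v := by
        rw [← cm_mul]
      rw [au_mul_apply, e3, e4] at e5
      apply au_injective k
      have e6 : k.1 ((cm (df g x) (df g y)).1 v) = (cm (df g x) (df g y)).1 (k.1 v) :=
        DFunLike.congr_fun (D.isF.comm _ hk _ hcK) v
      rw [e6, e5]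
      rfl
    rw [e1, e2, cm_mul_right (D.E.mul_mem hx.1 hdx) hy hdy.1, cm_mul_left hx.1 hdx hy,
      cm_mul_left hx.1 hdx hdy.1, c1, c2, mul_one, mul_one] at h1
    exact mul_eq_left.mp h1
  exact Units.ext (D.isF.eq_of_apply hK D.K.one_mem h.hv hdv)

theorem df_mul {x y : AU V} (hx : x ∈ D.E) (hy : y ∈ D.E) :
    ∃ k : AU V, k.1 ∈ D.K ∧ df g (x * y) = k * (df g x * df g y) := by
  have hdx := h.dfB x hx
  refine ⟨cm y⁻¹ (df g x), cm_K (D.E.inv_mem hy) hdx.1, ?_⟩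
  unfold cm df; group

/-- the bimultiplicative form -/
theorem cm_df_mul_left {x y z : AU V} (hx : x ∈ D.E) (hy : y ∈ D.E) (hz : z ∈ D.E) :
    cm (df g (x * y)) z = cm (df g x) z * cm (df g y) z := by
  obtain ⟨k, hk, h1⟩ := h.df_mul hx hy
  have hdx := (h.dfB x hx).1
  have hdy := (h.dfB y hy).1
  rw [h1, cm_mul_left (D.KE k hk) (D.E.mul_mem hdx hdy) hz, cm_K_left hk hz, one_mul,
    cm_mul_left hdx hdy hz]

theorem cm_df_Q_left {x z : AU V} (hx : x ∈ D.Q v) : cm (df g x) z = 1 := by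
  rw [h.df_Q hx]; unfold cm; group

theorem cm_df_Q_right {x z : AU V} (hx : x ∈ D.E) (hz : z ∈ D.Q v) : cm (df g x) z = 1 :=
  cm_eq_one.mpr (BQ (h.dfB x hx) hz)

theorem exists_ζ {x : AU V} (hx : x ∈ D.E) :
    ∃ k : AU V, k.1 ∈ D.K ∧ (df g x).1 v = k.1 v := (h.dfB x hx).2

/-- the eigenvalue equation -/
theorem ζ_apply {x k : AU V} (hx : x ∈ D.E) (hk : k.1 ∈ D.K) (hxk : (df g x).1 v = k.1 v) :
    g.1 (x.1 v) = k.1 (x.1 v) := by
  rw [df_apply, h.hgv, hxk, D.EK' hx hk]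

theorem ζ_unique {x k : AU V} (hx : x ∈ D.E) (hk : k.1 ∈ D.K)
    (hxk : g.1 (x.1 v) = k.1 (x.1 v)) : (df g x).1 v = k.1 v := by
  apply au_injective x
  rw [D.EK' hx hk, ← hxk, df_apply g x v, h.hgv]

theorem ζ_apply_Q {x k q : AU V} (hx : x ∈ D.E) (hk : k.1 ∈ D.K) (hxk : (df g x).1 v = k.1 v)
    (hq : q ∈ D.Q v) : g.1 ((x * q).1 v) = k.1 ((x * q).1 v) := by
  rw [au_mul_apply, df_apply, h.gQ q hq, ← au_mul_apply (df g x) q, BQ (h.dfB x hx) hq,
    au_mul_apply, hxk, D.EK' hq.1 hk, D.EK' hx hk]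

theorem ζ_mul {x y k l : AU V} (hx : x ∈ D.E) (hy : y ∈ D.E) (hk : k.1 ∈ D.K) (hl : l.1 ∈ D.K)
    (hxk : (df g x).1 v = k.1 v) (hyl : (df g y).1 v = l.1 v) :
    (df g (x * y)).1 v = (k * l * cm (df g x) y).1 v := by
  have hdx := (h.dfB x hx).1
  have hcK := cm_K hdx hy
  apply h.ζ_unique (D.E.mul_mem hx hy) (D.K.mul_mem (D.K.mul_mem hk hl) hcK)
  have h1 : g.1 ((x * y).1 v) = x.1 ((df g x * y).1 (l.1 v)) := by
    rw [au_mul_apply, df_apply, h.ζ_apply hy hl hyl, au_mul_apply (df g x) y, D.EK' hy hl]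
  have h3 : (df g x * y).1 (l.1 v) = (cm (df g x) y).1 ((y * df g x).1 (l.1 v)) := by
    rw [cm_mul (df g x) y, au_mul_apply (cm (df g x) y)]
  have h4 : (y * df g x).1 (l.1 v) = l.1 (k.1 (y.1 v)) := by
    rw [au_mul_apply, D.EK' hdx hl, hxk, D.EK' hy hl, D.EK' hy hk]
  rw [h1, h3, h4, D.EK' hx hcK, D.EK' hx hl, D.EK' hx hk]
  rw [au_mul_apply, au_mul_apply, ← au_mul_apply x y]
  have hcomm : ∀ {a b : AU V}, a.1 ∈ D.K → b.1 ∈ D.K → ∀ z : V, a.1 (b.1 z) = b.1 (a.1 z) :=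
    fun {a b} ha hb z => DFunLike.congr_fun (D.isF.comm _ ha _ hb) z
  rw [hcomm hl hk, hcomm hcK hk, hcomm hcK hl]

end Sit2

/-- **The quadratic argument.** -/
theorem quad_end [Finite V] {v : V} {g : AU V} (h : D.Sit2 v g) {X : Type u} [AddCommGroup X]
    (S : D.Sec v X) (P : X → Prop)
    (hquad : ∀ (M : Type u) [CommGroup M] (ζ : X → M) (B : X → X → M),
        (∀ x y z, B (x + y) z = B x z * B y z) → (∀ x y z, B x (y + z) = B x y * B x z) →
        (∀ x y, ζ (x + y) = ζ x * ζ y * B x y) → (∀ x, x ≠ 0 → P x → ζ x = 1) →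
        ζ 0 = 1 → ∀ x, ζ x = 1)
    (hP : ∀ μ, μ ≠ 0 → P μ → (df g (S.f μ)).1 v = v) : g = 1 := by
  have hfdec : ∀ μ ν : X, ∃ r ∈ D.Q v, S.f (μ + ν) = S.f μ * S.f ν * r := by
    intro μ ν
    refine ⟨(S.f μ * S.f ν)⁻¹ * S.f (μ + ν), ?_, by group⟩
    rw [← S.eq_iff (D.E.mul_mem (S.fE μ) (S.fE ν)) (S.fE _), S.pf,
      S.pr_mul _ (S.fE μ) _ (S.fE ν), S.pf, S.pf]
  choose ζ hζK hζ using fun μ => h.exists_ζ (S.fE μ)
  let _ : CommGroup D.isF.units := { (inferInstance : Group D.isF.units) with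
    mul_comm := fun a b => Subtype.ext (Units.ext (D.isF.comm _ a.2 _ b.2)) }
  have hunique : ∀ {a b : AU V}, a.1 ∈ D.K → b.1 ∈ D.K → a.1 v = b.1 v → a = b :=
    fun {a b} ha hb hab => Units.ext (D.isF.eq_of_apply ha hb h.hv hab)
  have hζ1 := hquad D.isF.units (fun μ => ⟨ζ μ, hζK μ⟩)
    (fun μ ν => ⟨cm (df g (S.f μ)) (S.f ν), cm_K (h.dfB _ (S.fE μ)).1 (S.fE ν)⟩) ?_ ?_ ?_ ?_ ?_
  · apply fix_imp_one h.hg h.hgv h.hv
    intro e he
    have hq : (S.f (S.pr e))⁻¹ * e ∈ D.Q v := by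
      rw [← S.eq_iff (S.fE _) he, S.pf]
    have h1 := h.ζ_apply_Q (S.fE (S.pr e)) (hζK _) (hζ _) hq
    have h2 : ζ (S.pr e) = 1 := congrArg Subtype.val (hζ1 (S.pr e))
    rw [mul_inv_cancel_left, h2] at h1
    exact h1
  · intro μ μ' ν
    apply Subtype.ext
    change cm (df g (S.f (μ + μ'))) (S.f ν) = cm (df g (S.f μ)) (S.f ν) * cm (df g (S.f μ')) (S.f ν)
    obtain ⟨r, hr, h1⟩ := hfdec μ μ'
    rw [h1, h.cm_df_mul_left (D.E.mul_mem (S.fE μ) (S.fE μ')) hr.1 (S.fE ν),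
      h.cm_df_Q_left hr, mul_one, h.cm_df_mul_left (S.fE μ) (S.fE μ') (S.fE ν)]
  · intro μ ν ν'
    apply Subtype.ext
    change cm (df g (S.f μ)) (S.f (ν + ν')) = cm (df g (S.f μ)) (S.f ν) * cm (df g (S.f μ)) (S.f ν')
    obtain ⟨r, hr, h1⟩ := hfdec ν ν'
    have hd := (h.dfB _ (S.fE μ)).1
    rw [h1, cm_mul_right hd (D.E.mul_mem (S.fE ν) (S.fE ν')) hr.1,
      h.cm_df_Q_right (S.fE μ) hr, mul_one, cm_mul_right hd (S.fE ν) (S.fE ν')]
  · intro μ ν
    apply Subtype.ext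
    change ζ (μ + ν) = ζ μ * ζ ν * cm (df g (S.f μ)) (S.f ν)
    obtain ⟨r, hr, h1⟩ := hfdec μ ν
    have hcK := cm_K (h.dfB _ (S.fE μ)).1 (S.fE ν)
    have hζmul := h.ζ_mul (S.fE μ) (S.fE ν) (hζK μ) (hζK ν) (hζ μ) (hζ ν)
    have hprodK : (ζ μ * ζ ν * cm (df g (S.f μ)) (S.f ν)).1 ∈ D.K :=
      D.K.mul_mem (D.K.mul_mem (hζK μ) (hζK ν)) hcK
    have hE := D.E.mul_mem (S.fE μ) (S.fE ν)
    have h2 := h.ζ_apply_Q hE hprodK hζmul hr
    apply hunique (hζK _) hprodK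
    rw [← hζ (μ + ν)]
    apply h.ζ_unique (S.fE _) hprodK
    rw [h1, h2]
  · intro μ hμ0 hμ
    apply Subtype.ext
    change ζ μ = 1
    apply hunique (hζK _) D.K.one_mem
    rw [← hζ μ, hP μ hμ0 hμ]
    rfl
  · apply Subtype.ext
    change ζ 0 = 1
    apply hunique (hζK _) D.K.one_mem
    rw [← hζ 0, S.f0]
    have : df g 1 = 1 := by unfold df; group
    rw [this]

end Dat

end Cfsg.Agent.H578
end

-- part: H578/W0
section
/-!
# The vector attached to the frame (helper578)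
-/

set_option autoImplicit false
set_option linter.unusedSectionVars false

universe u

namespace Cfsg.Agent.H578

variable {V : Type u} [AddCommGroup V]

namespace Dat

variable {G : Subgroup (AU V)} {D : Dat G} [Nontrivial V] [Finite V]

/-- no automorphism negates an element if `-1` is not a square -/
theorem neg_of_aut {θ : AU V} (hθ : θ.1 ∈ D.K)
    (hgen : ∀ k : AU V, k.1 ∈ D.K → ∃ n : ℕ, k = θ ^ n) (hneg : ∀ a ∈ D.K, a * a ≠ -1)
    {g δ : AU V} (hg : g ∈ G) (hδ : δ.1 ∈ D.K) (h : g * δ * g⁻¹ = -δ) : False := by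
  obtain ⟨s, hs⟩ := hgen δ hδ
  have hθ'K : (g * θ * g⁻¹).1 ∈ D.K := D.GK g hg _ hθ
  obtain ⟨m, hm⟩ := hgen _ hθ'K
  have hpow : ∀ k : AU V, k.1 ∈ D.K → g * k * g⁻¹ = k ^ m := by
    intro k hk
    obtain ⟨n, rfl⟩ := hgen k hk
    rw [← conj_pow, hm, ← pow_mul, ← pow_mul, mul_comm]
  have hne := neg_one_ne hneg
  rcases Nat.even_or_odd m with ⟨t, ht⟩ | ⟨t, ht⟩
  · -- `θ` has odd order
    have hθ''K : (g⁻¹ * θ * g).1 ∈ D.K := by
      have := D.GK g⁻¹ (G.inv_mem hg) _ hθ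
      have e : cj g⁻¹ θ.1 = (g⁻¹ * θ * g).1 := by
        change (g⁻¹).1 * θ.1 * ((g⁻¹)⁻¹).1 = _
        rw [inv_inv]; rfl
      rwa [e] at this
    obtain ⟨s', hs'⟩ := hgen _ hθ''K
    have h1 : θ = θ ^ (2 * (t * s')) := by
      have h2 := hpow _ hθ''K
      have h3 : g * (g⁻¹ * θ * g) * g⁻¹ = θ := by group
      rw [h3, hs', ← pow_mul] at h2
      conv_lhs => rw [h2]
      congr 1
      rw [ht]; ring
    obtain ⟨a, ha⟩ := hgen (-1) (D.K.neg_mem D.K.one_mem)
    have h2 : (-1 : AU V) = (θ ^ (t * s' * a)) ^ 2 := by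
      rw [ha, ← pow_mul]
      conv_lhs => rw [h1]
      rw [← pow_mul]
      congr 1
      ring
    have hK := D.isF.units.pow_mem (x := θ) hθ (t * s' * a)
    apply hneg _ hK
    rw [pow_two] at h2
    exact (congrArg Units.val h2).symm
  · have h1 := hpow δ hδ
    rw [h, ht, pow_succ] at h1
    have h2 : (δ ^ t) ^ 2 = -1 := by
      rw [← pow_mul, mul_comm]
      apply mul_right_cancel (b := δ)
      rw [← h1, neg_one_mul]
    have hK := D.isF.units.pow_mem (x := δ) hδ t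
    apply hneg _ hK
    rw [pow_two] at h2
    exact congrArg Units.val h2

/-- **The vector `θ v + i v`.** -/
theorem w0_fix {v : V} {i : AU V} (hF : D.IsFrame v i) (hcop : (Nat.card G).Coprime (Nat.card V))
    {θ : AU V} (hθ : θ.1 ∈ D.K) (hgen : ∀ k : AU V, k.1 ∈ D.K → ∃ n : ℕ, k = θ ^ n) :
    ∃ w₀ ∈ D.V0 v, ∀ g ∈ G, g.1 v = v → g.1 w₀ = w₀ →
      (∀ a ∈ D.K, ∀ x, g.1 (a x) = a (g.1 x)) ∧ ∀ x ∈ D.Q v, g.1 (x.1 v) = x.1 v := by
  have hspan : ∀ g ∈ G, g.1 v = v → g.1 (θ.1 v) = θ.1 v → g.1 (i.1 v) = i.1 v →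
      (∀ a ∈ D.K, ∀ x, g.1 (a x) = a (g.1 x)) ∧ ∀ x ∈ D.Q v, g.1 (x.1 v) = x.1 v := by
    intro g hg hgv hgθ hgi
    have hgK := comm_K_of_gen hF.ne hg hgv hθ hgen hgθ
    refine ⟨hgK, fun x hx => ?_⟩
    obtain ⟨k₁, hk₁, k₂, hk₂, e⟩ := hF.span x hx
    rw [e, map_add, hgK _ hk₁, hgK _ hk₂, hgv, hgi]
  rcases hF.dich with h1 | ⟨hii, hneg⟩
  · refine ⟨θ.1 v, D.K_V0 hθ (D.self_mem_V0 v), fun g hg hgv hgw => ?_⟩
    apply hspan g hg hgv hgw
    rw [h1]
    exact hgv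
  · refine ⟨θ.1 v + i.1 v, (D.V0 v).add_mem (D.K_V0 hθ (D.self_mem_V0 v))
      (D.Q_V0 hF.iQ (D.self_mem_V0 v)), fun g hg hgv hgw => ?_⟩
    have hiE := hF.iQ.1
    obtain ⟨x, hx⟩ : ∃ x, x = g * i * g⁻¹ := ⟨_, rfl⟩
    have hxQ : x ∈ D.Q v := by rw [hx]; exact conj_Q hg hgv hF.iQ
    have hxx : x * x = -1 := by
      rw [hx]
      calc g * i * g⁻¹ * (g * i * g⁻¹) = g * (i * i) * g⁻¹ := by group
        _ = -1 := by rw [hii]; rw [mul_neg, mul_one, neg_mul, mul_inv_cancel]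
    have hgi : g.1 (i.1 v) = x.1 v := by
      rw [hx, au_mul_apply, au_mul_apply, inv_fix hgv]
    obtain ⟨θ', hθ'⟩ : ∃ θ', θ' = g * θ * g⁻¹ := ⟨_, rfl⟩
    have hθ'K : θ'.1 ∈ D.K := by rw [hθ']; exact D.GK g hg _ hθ
    have hgθ : g.1 (θ.1 v) = θ'.1 v := by
      rw [hθ', au_mul_apply, au_mul_apply, inv_fix hgv]
    obtain ⟨d, hd⟩ : ∃ d : AddMonoid.End V, d = θ.1 - θ'.1 := ⟨_, rfl⟩
    have hdK : d ∈ D.K := by rw [hd]; exact D.K.sub_mem hθ hθ'K
    have hxv : x.1 v = i.1 v + d v := by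
      rw [map_add, hgθ, hgi] at hgw
      have : x.1 v = θ.1 v + i.1 v - θ'.1 v := by rw [← hgw]; abel
      rw [this, hd]
      change _ = i.1 v + (θ.1 v - θ'.1 v)
      abel
    have hiv : i.1 (i.1 v) = -v := by rw [← au_mul_apply, hii]; rfl
    have hxxv : x.1 (x.1 v) = -v := by rw [← au_mul_apply, hxx]; rfl
    -- it suffices that `d = 0`
    suffices hd0 : d = 0 by
      have h1 : g.1 (θ.1 v) = θ.1 v := by
        rw [hgθ]
        rw [hd0] at hd
        rw [sub_eq_zero.mp hd.symm]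
      have h2 : g.1 (i.1 v) = i.1 v := by
        rw [hgi, hxv, hd0]
        exact add_zero _
      exact hspan g hg hgv h1 h2
    by_contra hd0
    obtain ⟨δ, hδ⟩ := D.isF.exists_unit hdK hd0
    have hδd : δ.1 = d := hδ
    have hδK : δ.1 ∈ D.K := by rw [hδd]; exact hdK
    rw [← hδd] at hxv
    have e0 : x.1 (i.1 v) + δ.1 (i.1 v) + δ.1 (δ.1 v) = -v := by
      have h1 := hxxv
      rw [hxv, map_add, D.EK' hxQ.1 hδK, hxv, map_add] at h1
      rw [← h1]; abel
    rcases comm_or_anti hiE hxQ.1 hii with hc | hc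
    · have e1 : x.1 (i.1 v) = i.1 (i.1 v) + δ.1 (i.1 v) := by
        rw [← au_mul_apply x i, ← hc, au_mul_apply, hxv, map_add, D.EK' hiE hδK]
      rw [e1, hiv] at e0
      have e2 : δ.1 (i.1 v) + δ.1 (i.1 v) + δ.1 (δ.1 v) = 0 := by
        have : -v + δ.1 (i.1 v) + δ.1 (i.1 v) + δ.1 (δ.1 v) =
          -v + (δ.1 (i.1 v) + δ.1 (i.1 v) + δ.1 (δ.1 v)) := by abel
        rw [this] at e0
        exact add_eq_left.mp e0
      have e3 : i.1 v + i.1 v + δ.1 v = 0 := by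
        apply au_injective δ
        rw [map_add, map_add, e2, map_zero]
      -- `2` is invertible
      have h2K : (2 : AddMonoid.End V) ∈ D.K := by
        have : (2 : AddMonoid.End V) = 1 + 1 := by norm_num
        rw [this]; exact D.K.add_mem D.K.one_mem D.K.one_mem
      have h20 : (2 : AddMonoid.End V) ≠ 0 := by
        intro h0
        apply neg_one_ne hneg
        apply Units.ext
        change (1 : AddMonoid.End V) = -1
        have : (1 : AddMonoid.End V) + 1 = 0 := by rw [← h0]; norm_num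
        exact eq_neg_of_add_eq_zero_left this
      obtain ⟨t, ht⟩ := D.isF.exists_unit h2K h20
      have ht' : t.1 = 2 := ht
      have htK : t.1 ∈ D.K := by rw [ht']; exact h2K
      have htiK : (t⁻¹).1 ∈ D.K := D.isF.units.inv_mem (x := t) htK
      have e4 : t.1 (i.1 v) = -(δ.1 v) := by
        rw [ht']
        have : (2 : AddMonoid.End V) (i.1 v) = i.1 v + i.1 v := by
          have : (2 : AddMonoid.End V) = 1 + 1 := by norm_num
          rw [this]; rfl
        rw [this]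
        exact eq_neg_of_add_eq_zero_left e3
      obtain ⟨k, hk⟩ : ∃ k, k = -(t⁻¹ * δ) := ⟨_, rfl⟩
      have hkK : k.1 ∈ D.K := by rw [hk]; exact D.K.neg_mem (D.K.mul_mem htiK hδK)
      have e5 : i.1 v = k.1 v := by
        apply au_injective t
        rw [e4, hk, au_neg_apply, map_neg, ← au_mul_apply, mul_inv_cancel_left]
      rw [e5, D.EK' hiE hkK, e5] at hiv
      exact hneg k.1 hkK (D.isF.eq_of_apply (D.K.mul_mem hkK hkK) (D.K.neg_mem D.K.one_mem)
        hF.ne hiv)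
    · have e1 : x.1 (i.1 v) = v - δ.1 (i.1 v) := by
        have h1 : x * i = -(i * x) := by rw [hc, neg_neg]
        rw [← au_mul_apply x i, h1, au_neg_apply, au_mul_apply, hxv, map_add, hiv,
          D.EK' hiE hδK]
        abel
      rw [e1] at e0
      have e2 : δ.1 (δ.1 v) = -v - v := by
        rw [← e0]; abel
      have h20 : δ.1 * δ.1 = -1 - 1 := D.isF.eq_of_apply (D.K.mul_mem hδK hδK)
        (D.K.sub_mem (D.K.neg_mem D.K.one_mem) D.K.one_mem) hF.ne e2
      have hδ'K : (g * δ * g⁻¹).1 ∈ D.K := D.GK g hg _ hδK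
      have h21 : (g * δ * g⁻¹).1 * (g * δ * g⁻¹).1 = δ.1 * δ.1 := by
        have h3 : (g * δ * g⁻¹).1 * (g * δ * g⁻¹).1 = cj g (δ.1 * δ.1) := by
          rw [cj_mul]; rfl
        rw [h3, h20, sub_eq_add_neg, cj_add, cj_neg, cj_one']
      have h22 : ((g * δ * g⁻¹).1 - δ.1) * ((g * δ * g⁻¹).1 + δ.1) = 0 := by
        rw [sub_mul, mul_add, mul_add, h21, D.isF.comm _ hδ'K _ hδK]
        abel
      rcases D.isF.mul_eq_zero (D.K.sub_mem hδ'K hδK) h22 with h3 | h3
      · -- `g` centralises `δ`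
        have h4 : cj g d = d := by
          have h5 : (g * δ * g⁻¹).1 = δ.1 := sub_eq_zero.mp h3
          rw [← hδd]
          exact h5
        have h5 : cj g θ.1 = θ.1 - d := by
          have h6 : cj g θ.1 = θ'.1 := by rw [hθ']; rfl
          rw [h6, hd]; abel
        have h6 : ∀ n : ℕ, cj (g ^ n) θ.1 = θ.1 - n • d := by
          intro n
          induction n with
          | zero => rw [pow_zero, cj_one, zero_smul, sub_zero]
          | succ n ih =>
            have h7 : cj g (n • d) = n • cj g d := map_nsmul (cjHom g) n d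
            rw [pow_succ', ← cj_cj, ih, sub_eq_add_neg, cj_add, cj_neg, h7, h4, h5, succ_nsmul]
            abel
        have h7 : g ^ Nat.card G = 1 := by
          have : (⟨g, hg⟩ : G) ^ Nat.card G = 1 := pow_card_eq_one'
          exact congrArg Subtype.val this
        have h8 := h6 (Nat.card G)
        rw [h7, cj_one] at h8
        have h9 : Nat.card G • d = 0 := by
          have : θ.1 = θ.1 - Nat.card G • d → Nat.card G • d = 0 := fun h => by
            rw [eq_comm, sub_eq_self] at h; exact h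
          exact this h8
        have h10 : Nat.card G • (d v) = 0 := by
          exact DFunLike.congr_fun h9 v
        have h11 : Nat.card V • (d v) = 0 := card_nsmul_eq_zero'
        have h12 : addOrderOf (d v) = 1 := by
          apply Nat.eq_one_of_dvd_coprimes hcop
          · exact addOrderOf_dvd_of_nsmul_eq_zero h10
          · exact addOrderOf_dvd_of_nsmul_eq_zero h11
        have h13 : d v = 0 := AddMonoid.addOrderOf_eq_one_iff.mp h12
        exact hd0 (D.isF.eq_zero hdK hF.ne h13)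
      · apply neg_of_aut hθ hgen hneg hg hδK
        apply Units.ext
        exact eq_neg_of_add_eq_zero_left h3

end Dat

end Cfsg.Agent.H578
end

-- part: H578/Comb4
section
/-!
# Four colours with additional properties (helper578)
-/

set_option autoImplicit false

namespace Cfsg.Agent.H578.Comb

/-- **A rigid colouring of a finite abelian group by 4 colours, with generation properties.** -/
theorem c4' (X : Type*) [AddCommGroup X] [Finite X] :
    ∃ κ : X → Fin 4, (∀ T : X →+ X, Function.Injective T →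
      (∀ x, x ≠ 0 → κ (T x) = κ x) → ∀ x, T x = x) ∧
      (∀ X0 X1 X2 : AddSubgroup X, X1 ⊓ X2 ≤ X0 → X0 ≤ X1 → X0 ≤ X2 →
        (∀ x, x ≠ 0 → κ x = 0 → x ∈ X0) → (∀ x, x ≠ 0 → κ x = 1 → x ∈ X1) →
        (∀ x, x ≠ 0 → κ x = 2 → x ∈ X2) → X0 = ⊤) ∧
      (∀ x y, κ x = 0 → κ y = 0 → x = y) := by
  classical
  obtain ⟨N, n, hn, ⟨e⟩⟩ := exists_coord X
  let P0 : X → Prop := fun x => ∃ i : Fin N, i.val = 0 ∧ x = ind e {i}
  let P1 : X → Prop := fun x => ∃ i : Fin N, x = ind e {i}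
  let P2 : X → Prop := fun x => ∃ i j : Fin N, j.val = i.val + 1 ∧ x = ind e {i, j}
  let κ : X → Fin 4 := fun x => if P0 x then 0 else if P1 x then 1 else if P2 x then 2 else 3
  have hκ0 : ∀ x, κ x = 0 → P0 x := by
    intro x hx
    by_contra h0
    simp only [κ, if_neg h0] at hx
    split_ifs at hx <;> exact absurd hx (by decide)
  have hκ1 : ∀ x, κ x = 1 → ¬ P0 x ∧ P1 x := by
    intro x hx
    by_cases h0 : P0 x
    · simp only [κ, if_pos h0] at hx
      exact absurd hx (by decide)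
    by_cases h1 : P1 x
    · exact ⟨h0, h1⟩
    · simp only [κ, if_neg h0, if_neg h1] at hx
      split_ifs at hx <;> exact absurd hx (by decide)
  have hκ2 : ∀ x, κ x = 2 → P2 x := by
    intro x hx
    by_contra h2
    simp only [κ, if_neg h2] at hx
    split_ifs at hx <;> exact absurd hx (by decide)
  have hne : ∀ i, ind e {i} ≠ 0 := by
    intro i h
    rw [← ind_empty e] at h
    have := ind_inj e hn h
    exact absurd this (Finset.singleton_ne_empty i)
  have hκe0 : ∀ i : Fin N, i.val = 0 → κ (ind e {i}) = 0 := fun i h0 => if_pos ⟨i, h0, rfl⟩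
  have hκe1 : ∀ i : Fin N, i.val ≠ 0 → κ (ind e {i}) = 1 := by
    intro i h0
    have h1 : ¬ P0 (ind e {i}) := by
      rintro ⟨j, hj, hj'⟩
      have := ind_inj e hn hj'
      rw [Finset.singleton_inj] at this
      subst this
      exact h0 hj
    simp only [κ, if_neg h1]
    exact if_pos ⟨i, rfl⟩
  have hκe2 : ∀ i j : Fin N, j.val = i.val + 1 →
      κ (ind e {i, j}) = 2 ∧ ind e {i, j} ≠ 0 ∧ ind e {i} + ind e {j} = ind e {i, j} := by
    intro i j hij
    have hne' : i ≠ j := by intro h; rw [h] at hij; omega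
    have hp0 : ¬ P0 (ind e {i, j}) := by
      rintro ⟨k, -, hk⟩
      have := ind_inj e hn hk
      have := congrArg Finset.card this
      rw [Finset.card_pair hne', Finset.card_singleton] at this
      omega
    have hp1 : ¬ P1 (ind e {i, j}) := by
      rintro ⟨k, hk⟩
      have := ind_inj e hn hk
      have := congrArg Finset.card this
      rw [Finset.card_pair hne', Finset.card_singleton] at this
      omega
    refine ⟨?_, ?_, ind_pair e hne'⟩
    · simp only [κ, if_neg hp0, if_neg hp1]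
      exact if_pos ⟨i, j, hij, rfl⟩
    · intro h
      rw [← ind_empty e] at h
      have := congrArg Finset.card (ind_inj e hn h)
      rw [Finset.card_pair hne', Finset.card_empty] at this
      omega
  refine ⟨κ, ?_, ?_, ?_⟩
  rotate_left
  · intro X0 X1 X2 h12 h01 h02 h0 h1 h2
    have key : ∀ k, ∀ i : Fin N, i.val = k → ind e {i} ∈ X0 := by
      intro k
      induction k with
      | zero => intro i hi; exact h0 _ (hne i) (hκe0 i hi)
      | succ k ih =>
        intro i hi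
        obtain ⟨i', hi'⟩ : ∃ i' : Fin N, i'.val = k := ⟨⟨k, by have := i.isLt; omega⟩, rfl⟩
        have a1 := ih i' hi'
        obtain ⟨b1, b2, b3⟩ := hκe2 i' i (by omega)
        apply h12
        refine ⟨h1 _ (hne i) (hκe1 i (by omega)), ?_⟩
        have b4 := h2 _ b2 b1
        rw [← b3] at b4
        exact (X2.add_mem_cancel_left (h02 a1)).mp b4
    rw [eq_top_iff]
    intro x _
    have hx : x = ∑ i, (e x i).val • ind e {i} := by
      apply e.injective
      rw [map_sum]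
      funext j
      rw [Finset.sum_apply]
      rw [Finset.sum_eq_single j]
      · rw [map_nsmul, Pi.smul_apply, ind_apply, if_pos (Finset.mem_singleton_self j)]
        have : NeZero (n j) := ⟨by have := hn j; omega⟩
        rw [nsmul_eq_mul, mul_one, ZMod.natCast_zmod_val]
      · intro b _ hb
        rw [map_nsmul, Pi.smul_apply, ind_apply, if_neg (by simpa using fun h => hb h.symm)]
        simp
      · intro h; exact absurd (Finset.mem_univ j) h
    rw [hx]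
    exact X0.sum_mem fun i _ => X0.nsmul_mem (key i.val i rfl) _
  · intro x y hx hy
    obtain ⟨i, hi, rfl⟩ := hκ0 x hx
    obtain ⟨j, hj, rfl⟩ := hκ0 y hy
    rw [Fin.ext (hi.trans hj.symm)]
  intro T hT hc
  -- the images of the basis elements
  have hσ : ∀ i : Fin N, ∃ j : Fin N, T (ind e {i}) = ind e {j} ∧ (i.val = 0 → j.val = 0) := by
    intro i
    have hci := hc _ (hne i)
    by_cases h0 : i.val = 0
    · have h1 : κ (ind e {i}) = 0 := if_pos ⟨i, h0, rfl⟩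
      rw [h1] at hci
      obtain ⟨j, hj, hj'⟩ := hκ0 _ hci
      exact ⟨j, hj', fun _ => hj⟩
    · have h1 : ¬ P0 (ind e {i}) := by
        rintro ⟨j, hj, hj'⟩
        have := ind_inj e hn hj'
        rw [Finset.singleton_inj] at this
        subst this
        exact h0 hj
      have h2 : κ (ind e {i}) = 1 := by
        simp only [κ, if_neg h1]
        exact if_pos ⟨i, rfl⟩
      rw [h2] at hci
      obtain ⟨-, j, hj⟩ := hκ1 _ hci
      exact ⟨j, hj, fun h => absurd h h0⟩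
  choose σ hσ1 hσ2 using hσ
  have hσinj : Function.Injective σ := by
    intro i j hij
    have h1 : T (ind e {i}) = T (ind e {j}) := by rw [hσ1, hσ1, hij]
    have := ind_inj e hn (hT h1)
    rwa [Finset.singleton_inj] at this
  have hadj : ∀ i j : Fin N, j.val = i.val + 1 →
      ((σ j).val = (σ i).val + 1 ∨ (σ i).val = (σ j).val + 1) := by
    intro i j hij
    have hne' : i ≠ j := by intro h; rw [h] at hij; omega
    have hp0 : ¬ P0 (ind e {i, j}) := by
      rintro ⟨k, -, hk⟩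
      have := ind_inj e hn hk
      have := congrArg Finset.card this
      rw [Finset.card_pair hne', Finset.card_singleton] at this
      omega
    have hp1 : ¬ P1 (ind e {i, j}) := by
      rintro ⟨k, hk⟩
      have := ind_inj e hn hk
      have := congrArg Finset.card this
      rw [Finset.card_pair hne', Finset.card_singleton] at this
      omega
    have h2 : κ (ind e {i, j}) = 2 := by
      simp only [κ, if_neg hp0, if_neg hp1]
      exact if_pos ⟨i, j, hij, rfl⟩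
    have h3 : ind e {i, j} ≠ 0 := by
      intro h
      rw [← ind_empty e] at h
      have := congrArg Finset.card (ind_inj e hn h)
      rw [Finset.card_pair hne', Finset.card_empty] at this
      omega
    have h4 := hc _ h3
    rw [h2, ← ind_pair e hne', map_add, hσ1, hσ1,
      ind_pair e (fun h => hne' (hσinj h))] at h4
    obtain ⟨k, l, hkl, h5⟩ := hκ2 _ h4
    have h6 := ind_inj e hn h5
    have hi : σ i = k ∨ σ i = l := by
      have : σ i ∈ ({k, l} : Finset (Fin N)) := by rw [← h6]; simp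
      simpa using this
    have hj : σ j = k ∨ σ j = l := by
      have : σ j ∈ ({k, l} : Finset (Fin N)) := by rw [← h6]; simp
      simpa using this
    have hne'' : σ i ≠ σ j := fun h => hne' (hσinj h)
    rcases hi with hi | hi <;> rcases hj with hj | hj
    · exact absurd (hi.trans hj.symm) hne''
    · left; rw [hi, hj]; exact hkl
    · right; rw [hi, hj]; exact hkl
    · exact absurd (hi.trans hj.symm) hne''
  have hid : ∀ i, σ i = i := by
    rcases path_aut σ hσinj hadj with h | h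
    · intro i; exact Fin.ext (h i)
    · intro i
      have hN : 0 < N := i.pos
      have h1 := h ⟨0, hN⟩
      have h2 := hσ2 ⟨0, hN⟩ rfl
      rw [h2] at h1
      simp at h1
      have h3 := i.isLt
      have h4 := (σ i).isLt
      exact Fin.ext (by omega)
  intro x
  refine eq_id_of_fix e hn T (fun i => ?_) x
  rw [hσ1, hid]

/-- **Three nonzero colours and a zero colour for an elementary abelian 2-group.** -/
theorem c3 (X : Type*) [AddCommGroup X] [Finite X] (h2 : ∀ x : X, x + x = 0) :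
    ∃ κ : X → Fin 4, (∀ T : X →+ X, Function.Injective T →
      (∀ x, x ≠ 0 → κ (T x) = κ x) → ∀ x, T x = x) ∧
      (∀ (M : Type*) [CommGroup M] (ζ : X → M) (B : X → X → M),
        (∀ x y z, B (x + y) z = B x z * B y z) → (∀ x y z, B x (y + z) = B x y * B x z) →
        (∀ x y, ζ (x + y) = ζ x * ζ y * B x y) → (∀ x, x ≠ 0 → κ x ≠ 3 → ζ x = 1) →
        ζ 0 = 1 → ∀ x, ζ x = 1) ∧
      (∀ X0 : AddSubgroup X, (∀ x, x ≠ 0 → κ x ≠ 3 → x ∈ X0) → X0 = ⊤) := by
  classical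
  have hft := Fintype.ofFinite X
  by_cases hcard : Nat.card X ≤ 4
  · -- an injective colouring
    obtain ⟨f, hf⟩ : ∃ f : X → Fin 4, Function.Injective f := by
      rw [Nat.card_eq_fintype_card] at hcard
      exact Function.Embedding.nonempty_of_card_le (by simpa using hcard) |>.elim
        fun g => ⟨g, g.injective⟩
    let κ : X → Fin 4 := fun x => Equiv.swap (f 0) 3 (f x)
    have hκ : Function.Injective κ := (Equiv.injective _).comp hf
    have hκ3 : ∀ x, x ≠ 0 → κ x ≠ 3 := by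
      intro x hx h
      apply hx
      apply hκ
      rw [h]
      exact (Equiv.swap_apply_left (f 0) 3).symm
    refine ⟨κ, ?_, ?_, ?_⟩
    · intro T _ h x
      by_cases hx : x = 0
      · rw [hx, map_zero]
      · exact hκ (h x hx)
    · intro M _ ζ B _ _ _ h h0 x
      by_cases hx : x = 0
      · rw [hx, h0]
      · exact h x hx (hκ3 x hx)
    · intro X0 h
      rw [eq_top_iff]
      intro x _
      by_cases hx : x = 0
      · rw [hx]; exact X0.zero_mem
      · exact h x hx (hκ3 x hx)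
  · obtain ⟨κ, h1, -, h3⟩ := c4' X
    -- swap the colours 0 and 3
    let κ' : X → Fin 4 := fun x => Equiv.swap 0 3 (κ x)
    have hκ' : ∀ x, κ' x = 3 ↔ κ x = 0 := by
      intro x
      change Equiv.swap 0 3 (κ x) = 3 ↔ _
      constructor
      · intro h
        have := congrArg (Equiv.swap 0 3) h
        rw [Equiv.swap_apply_self, Equiv.swap_apply_right] at this
        exact this
      · intro h
        rw [h, Equiv.swap_apply_left]
    have hpick : ∀ s : Finset X, s.card ≤ 4 → ∃ a, a ∉ s := by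
      intro s hs
      by_contra hcon
      push Not at hcon
      apply hcard
      rw [Nat.card_eq_fintype_card, ← Finset.card_univ]
      exact (Finset.card_le_card (fun x _ => hcon x)).trans hs
    -- the exceptional element
    obtain ⟨e, he⟩ : ∃ e : X, ∀ x, x ≠ 0 → x ≠ e → κ' x ≠ 3 := by
      by_cases hex : ∃ e, κ e = 0
      · obtain ⟨e, he⟩ := hex
        exact ⟨e, fun x _ hx h => hx (h3 x e ((hκ' x).mp h) he)⟩
      · push Not at hex
        exact ⟨0, fun x _ _ h => hex x ((hκ' x).mp h)⟩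
    have hcancel : ∀ x y : X, x + y + y = x := by
      intro x y
      rw [add_assoc, h2, add_zero]
    have hadd0 : ∀ x y : X, x + y = 0 → x = y := by
      intro x y h
      have := hcancel x y
      rw [h, zero_add] at this
      exact this.symm
    refine ⟨κ', ?_, ?_, ?_⟩
    · intro T hT h
      apply h1 T hT
      intro x hx
      have := h x hx
      exact (Equiv.injective _) this
    · intro M _ ζ B hB1 hB2 hζ h h0 x
      by_cases hx0 : x = 0
      · rw [hx0, h0]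
      by_cases hxe : x = e
      · subst hxe
        -- `ζ x = B x a` for all `a ∉ {0, x}`
        have hBaa : ∀ a, ζ a = 1 → B a a = 1 := by
          intro a ha
          have := hζ a a
          rw [h2, h0, ha, one_mul, one_mul] at this
          exact this.symm
        have key : ∀ a, a ≠ 0 → a ≠ x → ζ x = B x a := by
          intro a ha hax
          have ha1 : ζ a = 1 := h a ha (he a ha hax)
          have hxa : x + a ≠ 0 := fun h => hax (hadd0 x a h).symm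
          have hxa' : x + a ≠ x := fun h => ha (by simpa using h)
          have ha2 : ζ (x + a) = 1 := h _ hxa (he _ hxa hxa')
          have h5 := hζ (x + a) a
          rw [hcancel, ha1, ha2, one_mul, one_mul, hB1, hBaa a ha1, mul_one] at h5
          exact h5
        obtain ⟨a, ha⟩ := hpick {0, x} (le_trans (Finset.card_le_two) (by norm_num))
        obtain ⟨b, hb⟩ := hpick {0, x, a, a + x} (by
          exact Finset.card_le_four)
        simp only [Finset.mem_insert, Finset.mem_singleton, not_or] at ha hb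
        have hab0 : a + b ≠ 0 := fun h => hb.2.2.1 (hadd0 a b h).symm
        have habx : a + b ≠ x := by
          intro h
          apply hb.2.2.2
          rw [← h, ← add_assoc, h2, zero_add]
        have e1 := key a ha.1 ha.2
        have e2 := key b hb.1 hb.2.1
        have e3 := key (a + b) hab0 habx
        rw [hB2, ← e1, ← e2] at e3
        exact (mul_eq_left.mp e3.symm)
      · exact h x hx0 (he x hx0 hxe)
    · intro X0 h
      rw [eq_top_iff]
      intro x _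
      by_cases hx0 : x = 0
      · rw [hx0]; exact X0.zero_mem
      by_cases hxe : x = e
      · subst hxe
        obtain ⟨a, ha⟩ := hpick {0, x} (le_trans (Finset.card_le_two) (by norm_num))
        simp only [Finset.mem_insert, Finset.mem_singleton, not_or] at ha
        have hxa : x + a ≠ 0 := fun h => ha.2 (hadd0 x a h).symm
        have hxa' : x + a ≠ x := fun h => ha.1 (by simpa using h)
        have h5 := X0.add_mem (h _ hxa (he _ hxa hxa')) (h _ ha.1 (he _ ha.1 ha.2))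
        rw [hcancel] at h5
        exact h5
      · exact h x hx0 (he x hx0 hxe)

end Cfsg.Agent.H578.Comb
end

-- part: H578/TwoA
section
/-!
# `E / K` a 2-group, large field (helper578)
-/

set_option autoImplicit false
set_option linter.unusedSectionVars false

universe u

namespace Cfsg.Agent.H578

variable {V : Type u} [AddCommGroup V]

namespace Dat

variable {G : Subgroup (AU V)} {D : Dat G} [Nontrivial V] [Finite V]

theorem exists_sec_norm (hE2 : ∀ x ∈ D.E, (x ^ 2).1 ∈ D.K) (v : V) :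
    ∃ (X : Type u) (_ : AddCommGroup X) (_ : Finite X), (∀ x : X, x + x = 0) ∧
      ∃ S : D.Sec v X, ∀ μ, S.f μ * S.f μ = 1 ∨ S.f μ * S.f μ = -1 := by
  classical
  obtain ⟨X, i1, i2, ⟨S⟩⟩ := D.exists_sec v
  refine ⟨X, i1, i2, fun μ => ?_, ?_⟩
  · rw [← S.pf μ, ← S.pr_mul _ (S.fE μ) _ (S.fE μ), S.pr_zero _ (D.E.mul_mem (S.fE μ) (S.fE μ)),
      ← pow_two]
    exact D.K_le_Q (hE2 _ (S.fE μ))
  · have h1 : ∀ μ, ∃ k : AU V, k.1 ∈ D.K ∧ ((k * S.f μ) * (k * S.f μ) = 1 ∨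
        (k * S.f μ) * (k * S.f μ) = -1) := by
      intro μ
      obtain ⟨k, hk, h⟩ := D.star _ (S.fE μ) 2 Nat.prime_two (hE2 _ (S.fE μ))
      refine ⟨k, hk, ?_⟩
      rcases h with h | ⟨-, h⟩
      · left; rw [← pow_two]; exact h
      · right; rw [← pow_two]; exact h
    choose k hk hkk using h1
    refine ⟨⟨S.pr, fun μ => if μ = 0 then 1 else k μ * S.f μ, S.pr_mul, S.pr_zero, ?_, ?_,
      if_pos rfl⟩, ?_⟩
    · intro μ
      split_ifs
      · exact D.E.one_mem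
      · exact D.E.mul_mem (D.KE _ (hk μ)) (S.fE μ)
    · intro μ
      split_ifs with h0
      · rw [h0]; exact S.pr_one
      · rw [S.pr_mul _ (D.KE _ (hk μ)) _ (S.fE μ), S.pf,
          (S.pr_zero _ (D.KE _ (hk μ))).mpr (D.K_le_Q (hk μ)), zero_add]
    · intro μ
      change (if μ = 0 then 1 else k μ * S.f μ) * (if μ = 0 then 1 else k μ * S.f μ) = 1 ∨
        (if μ = 0 then 1 else k μ * S.f μ) * (if μ = 0 then 1 else k μ * S.f μ) = -1
      split_ifs
      · left; exact one_mul 1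
      · exact hkk μ

/-- commutators are `±1` -/
theorem cm_pm (hE2 : ∀ x ∈ D.E, (x ^ 2).1 ∈ D.K) {x y : AU V} (hx : x ∈ D.E) (hy : y ∈ D.E) :
    cm x y = 1 ∨ cm x y = -1 := by
  have h1 : cm x y * cm x y = 1 := by
    have h2 := cm_mul_left hx hx hy
    rw [← h2, ← pow_two]
    exact cm_K_left (hE2 x hx) hy
  rcases D.isF.sq_eq_one (cm_K hx hy) (congrArg Units.val h1) with h | h
  · left; exact Units.ext h
  · right; exact Units.ext h

theorem mul_pm (hE2 : ∀ x ∈ D.E, (x ^ 2).1 ∈ D.K) {x y : AU V} (hx : x ∈ D.E) (hy : y ∈ D.E) :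
    x * y = y * x ∨ x * y = -(y * x) := by
  rcases cm_pm hE2 hx hy with h | h
  · left; rw [cm_mul x y, h, one_mul]
  · right; rw [cm_mul x y, h, neg_one_mul]

/-- squares -/
theorem sq_pm (hE2 : ∀ x ∈ D.E, (x ^ 2).1 ∈ D.K) {x y : AU V} (hx : x ∈ D.E) (hy : y ∈ D.E)
    (h1 : x * x = 1 ∨ x * x = -1) (h2 : (x * y) * (x * y) = 1 ∨ (x * y) * (x * y) = -1) :
    y * y = 1 ∨ y * y = -1 := by
  have h3 : (x * y) * (x * y) = (x * x) * (y * y) ∨ (x * y) * (x * y) = -((x * x) * (y * y)) := by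
    rcases mul_pm hE2 hx hy with h | h
    · left
      calc (x * y) * (x * y) = x * (y * x) * y := by group
        _ = x * (x * y) * y := by rw [h]
        _ = _ := by group
    · right
      have h' : y * x = -(x * y) := by rw [h, neg_neg]
      calc (x * y) * (x * y) = x * (y * x) * y := by group
        _ = x * (-(x * y)) * y := by rw [h']
        _ = -(x * (x * y) * y) := by rw [mul_neg, neg_mul]
        _ = _ := by simp only [mul_assoc]
  have hn : ∀ a b : AU V, -a = -b → a = b := fun a b h => neg_injective h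
  rcases h1 with h1 | h1 <;> rcases h2 with h2 | h2 <;> rcases h3 with h3 | h3 <;>
    rw [h1, h2] at h3
  · left; rw [one_mul] at h3; exact h3.symm
  · right; rw [one_mul] at h3; apply hn; rw [neg_neg]; exact h3.symm
  · right; rw [one_mul] at h3; exact h3.symm
  · left; rw [one_mul] at h3; exact (hn _ _ h3).symm
  · right; rw [neg_one_mul] at h3; apply hn; rw [neg_neg]; exact h3.symm
  · left; rw [neg_one_mul, neg_neg] at h3; exact h3.symm
  · left; rw [neg_one_mul] at h3; exact (hn _ _ h3).symm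
  · right; rw [neg_one_mul, neg_neg] at h3; exact h3.symm

/-- **Large fields.** -/
theorem prim2_big (hE2 : ∀ x ∈ D.E, (x ^ 2).1 ∈ D.K)
    (hcop : (Nat.card G).Coprime (Nat.card V)) {θ : AU V} (hθ : θ.1 ∈ D.K)
    (hgen : ∀ k : AU V, k.1 ∈ D.K → ∃ n : ℕ, k = θ ^ n) (h8 : θ ^ 8 ≠ 1) :
    HasBase (Fin 2) G := by
  classical
  obtain ⟨v, i, hF⟩ := D.exists_frame
  obtain ⟨w₀, hw₀V, hw₀⟩ := w0_fix hF hcop hθ hgen
  obtain ⟨X, _, _, hX2, S, hSf⟩ := exists_sec_norm hE2 v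
  obtain ⟨κ, hrig, hquad, hgenX⟩ := Comb.c3.{u, u} X hX2
  have : Fintype X := Fintype.ofFinite X
  have hv := hF.ne
  have hvV := D.self_mem_V0 v
  obtain ⟨c, hc⟩ : ∃ c : Fin 4 → AddMonoid.End V, c = ![1, θ.1, (θ ^ 2).1, 0] := ⟨_, rfl⟩
  have hθ2 : (θ ^ 2).1 ∈ D.K := D.isF.units.pow_mem (x := θ) hθ 2
  have hcK : ∀ j, c j ∈ D.K := by
    intro j; rw [hc]; fin_cases j
    · exact D.K.one_mem
    · exact hθ
    · exact hθ2
    · exact D.K.zero_mem
  let u : X → V := fun μ => if μ = 0 then w₀ else c (κ μ) v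
  have hu : ∀ μ, u μ ∈ D.V0 v := by
    intro μ
    change (if μ = 0 then w₀ else c (κ μ) v) ∈ D.V0 v
    split_ifs
    · exact hw₀V
    · exact D.K_V0 (hcK _) hvV
  refine ⟨![v, ∑ μ, (S.f μ).1 (u μ)], fun g hg h => ?_⟩
  have hgv : g.1 v = v := h 0
  have hg1 : g.1 (∑ μ, (S.f μ).1 (u μ)) = ∑ μ, (S.f μ).1 (u μ) := h 1
  obtain ⟨T, hTi, hT⟩ := exists_T hg hgv S
  have k1 := comp hg hgv S hTi hT (s := Finset.univ) (fun μ => Finset.mem_univ μ) hu hg1
  have hgw₀ : g.1 w₀ = w₀ := by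
    have := k1 0
    rw [map_zero, S.f0] at this
    have e : u 0 = w₀ := if_pos rfl
    rw [e] at this
    exact this.symm
  obtain ⟨hgK, hgQ⟩ := hw₀ g hg hgv hgw₀
  -- the elements `x μ`
  let x : X → AU V := fun μ => (S.f (T μ))⁻¹ * (g * S.f μ * g⁻¹)
  have hxQ : ∀ μ, x μ ∈ D.Q v := by
    intro μ
    rw [← S.eq_iff (S.fE _) (D.GE g hg _ (S.fE μ)), S.pf, hT _ (S.fE μ), S.pf]
  have hgf : ∀ μ, ∀ y : V, g.1 ((S.f μ).1 y) = (S.f (T μ)).1 ((x μ).1 (g.1 y)) := by
    intro μ y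
    have e1 : g * S.f μ = S.f (T μ) * x μ * g := by
      change g * S.f μ = S.f (T μ) * ((S.f (T μ))⁻¹ * (g * S.f μ * g⁻¹)) * g
      group
    rw [← au_mul_apply, e1, au_mul_apply, au_mul_apply]
  have hxx : ∀ μ, x μ * x μ = 1 ∨ x μ * x μ = -1 := by
    intro μ
    apply sq_pm hE2 (S.fE (T μ)) (hxQ μ).1 (hSf _)
    have e1 : S.f (T μ) * x μ = g * S.f μ * g⁻¹ := by
      change S.f (T μ) * ((S.f (T μ))⁻¹ * (g * S.f μ * g⁻¹)) = _
      group
    have e2 : (g * S.f μ * g⁻¹) * (g * S.f μ * g⁻¹) = g * (S.f μ * S.f μ) * g⁻¹ := by group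
    rw [e1, e2]
    rcases hSf μ with h | h
    · left; rw [h]; group
    · right; rw [h, mul_neg, mul_one, neg_mul, mul_inv_cancel]
  -- the scalars
  have hsc : ∀ μ, ∀ ρ : AU V, ρ.1 ∈ D.K → (x μ).1 v = ρ.1 v → ρ ^ 4 = 1 := by
    intro μ ρ hρ e
    have e1 : (x μ * x μ).1 v = (ρ * ρ).1 v := by
      rw [au_mul_apply, e, D.EK' (hxQ μ).1 hρ, e, au_mul_apply]
    have hρρ : (ρ * ρ).1 ∈ D.K := D.K.mul_mem hρ hρ
    rcases hxx μ with h1 | h1
    · rw [h1] at e1
      have : ρ * ρ = 1 := Units.ext (D.isF.eq_of_apply hρρ D.K.one_mem hv e1.symm)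
      calc ρ ^ 4 = (ρ * ρ) * (ρ * ρ) := by rw [show 4 = 2 + 2 from rfl, pow_add, pow_two]
        _ = 1 := by rw [this, one_mul]
    · rw [h1] at e1
      have : ρ * ρ = -1 := Units.ext (D.isF.eq_of_apply hρρ (D.K.neg_mem D.K.one_mem) hv e1.symm)
      calc ρ ^ 4 = (ρ * ρ) * (ρ * ρ) := by rw [show 4 = 2 + 2 from rfl, pow_add, pow_two]
        _ = 1 := by rw [this, neg_mul_neg, one_mul]
  have hxv0 : ∀ μ, (x μ).1 v ≠ 0 := fun μ h0 => hv (au_injective (x μ) (by rw [h0, map_zero]))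
  have hcol : ∀ μ, μ ≠ 0 → κ (T μ) = κ μ ∧ (κ μ ≠ 3 → (x μ).1 v = v) := by
    intro μ hμ
    have hTμ : T μ ≠ 0 := fun h0 => hμ (hTi (by rw [h0, map_zero]))
    have e1 := k1 μ
    have f1 : u μ = c (κ μ) v := if_neg hμ
    have f3 : u (T μ) = c (κ (T μ)) v := if_neg hTμ
    rw [f1, f3, hgf, hgK _ (hcK _), hgv, D.EK' (hxQ μ).1 (hcK _)] at e1
    have e3 : c (κ (T μ)) v = c (κ μ) ((x μ).1 v) := au_injective _ e1
    have c0 : c 0 = 1 := by rw [hc]; rfl
    have c1 : c 1 = θ.1 := by rw [hc]; rfl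
    have c2 : c 2 = (θ ^ 2).1 := by rw [hc]; rfl
    have c3 : c 3 = 0 := by rw [hc]; rfl
    have hz : ∀ y : V, (0 : AddMonoid.End V) y = 0 := fun _ => rfl
    have hθv : ∀ {a : AU V} {y : V}, y ≠ 0 → a.1 y ≠ 0 := fun {a y} hy h0 =>
      hy (au_injective a (by rw [h0, map_zero]))
    have hcne : ∀ j, j ≠ 3 → ∀ y : V, y ≠ 0 → c j y ≠ 0 := by
      intro j hj y hy
      have : ∀ j : Fin 4, j = 0 ∨ j = 1 ∨ j = 2 ∨ j = 3 := by decide
      rcases this j with rfl | rfl | rfl | rfl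
      · rw [c0]; exact hy
      · rw [c1]; exact hθv hy
      · rw [c2]; exact hθv hy
      · exact absurd rfl hj
    have h4 : θ ^ 4 ≠ 1 := fun h => h8 (by rw [show 8 = 4 * 2 by norm_num, pow_mul, h, one_pow])
    have hinv : ∀ a : AU V, a.1 ∈ D.K → (x μ).1 v = a.1 v → a ^ 4 = 1 := hsc μ
    have hinv' : ∀ a : AU V, a.1 ∈ D.K → v = a.1 ((x μ).1 v) → a ^ 4 = 1 := by
      intro a ha e
      have hai : (a⁻¹).1 ∈ D.K := D.isF.units.inv_mem (x := a) ha
      have := hsc μ a⁻¹ hai (by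
        apply au_injective a
        rw [au_apply_inv]; exact e.symm)
      rwa [inv_pow, inv_eq_one] at this
    by_cases h3 : κ μ = 3
    · refine ⟨?_, fun h => absurd h3 h⟩
      rw [h3, c3, hz] at e3
      by_contra h4
      exact hcne _ (by rw [h3] at h4; exact h4) v hv e3
    by_cases h3' : κ (T μ) = 3
    · rw [h3', c3, hz] at e3
      exact absurd e3.symm (hcne _ h3 _ (hxv0 μ))
    have hj : ∀ j : Fin 4, j ≠ 3 → j = 0 ∨ j = 1 ∨ j = 2 := by decide
    have hp : ∀ y : V, (θ ^ 2).1 y = θ.1 (θ.1 y) := fun y => by rw [pow_two, au_mul_apply]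
    rcases hj _ h3 with a | a | a <;> rcases hj _ h3' with b | b | b <;>
      rw [a, b] at e3 ⊢ <;> simp only [c0, c1, c2] at e3
    · exact ⟨rfl, fun _ => e3.symm⟩
    · exact absurd (hinv θ hθ e3.symm) h4
    · exact absurd (by have := hinv (θ ^ 2) hθ2 e3.symm; rwa [← pow_mul] at this) h8
    · exact absurd (hinv' θ hθ e3) h4
    · exact ⟨rfl, fun _ => (au_injective θ e3).symm⟩
    · rw [hp] at e3
      exact absurd (hinv θ hθ (au_injective θ e3).symm) h4
    · exact absurd (by have := hinv' (θ ^ 2) hθ2 e3; rwa [← pow_mul] at this) h8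
    · rw [hp] at e3
      exact absurd (hinv' θ hθ (au_injective θ e3)) h4
    · exact ⟨rfl, fun _ => (au_injective (θ ^ 2) e3).symm⟩
  have hTid : ∀ μ, T μ = μ := hrig T hTi fun μ hμ => (hcol μ hμ).1
  have hxdf : ∀ μ, x μ = df g (S.f μ) := by
    intro μ
    change (S.f (T μ))⁻¹ * (g * S.f μ * g⁻¹) = (S.f μ)⁻¹ * (g * S.f μ * g⁻¹)
    rw [hTid]
  have hdfQ : ∀ y ∈ D.E, df g y ∈ D.Q v := by
    intro y hy
    change y⁻¹ * (g * y * g⁻¹) ∈ D.Q v
    rw [← S.eq_iff hy (D.GE g hg y hy), hT y hy, hTid]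
  have hdfr : ∀ r ∈ D.Q v, (df g r).1 v = v := by
    intro r hr
    apply au_injective r
    have e1 := df_apply g r v
    rw [hgv, hgQ r hr] at e1
    exact e1.symm
  -- `df g y` acts as a scalar
  have hmul : ∀ y ∈ D.E, ∀ z ∈ D.E, df g y ∈ D.B v → df g z ∈ D.B v → df g (y * z) ∈ D.B v := by
    intro y hy z hz h2 h3
    have e : df g (y * z) = cm z⁻¹ (df g y) * (df g y * df g z) := by unfold df cm; group
    rw [e]
    exact (D.B v).mul_mem (D.K_le_B (cm_K (D.E.inv_mem hz) h2.1)) ((D.B v).mul_mem h2 h3)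
  have hinvB : ∀ y ∈ D.E, df g y ∈ D.B v → df g y⁻¹ ∈ D.B v := by
    intro y hy h2
    have e : df g y⁻¹ = cm y (df g y)⁻¹ * (df g y)⁻¹ := by unfold df cm; group
    rw [e]
    exact (D.B v).mul_mem (D.K_le_B (cm_K hy (D.E.inv_mem h2.1))) ((D.B v).inv_mem h2)
  let X0 : AddSubgroup X :=
    { carrier := {μ | ∃ y ∈ D.E, S.pr y = μ ∧ df g y ∈ D.B v}
      zero_mem' := ⟨1, D.E.one_mem, S.pr_one, by
        have : df g 1 = 1 := by unfold df; group
        rw [this]; exact (D.B v).one_mem⟩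
      add_mem' := by
        rintro μ ν ⟨y, hy, rfl, h2⟩ ⟨z, hz, rfl, h3⟩
        exact ⟨y * z, D.E.mul_mem hy hz, S.pr_mul y hy z hz, hmul y hy z hz h2 h3⟩
      neg_mem' := by
        rintro μ ⟨y, hy, rfl, h2⟩
        exact ⟨y⁻¹, D.E.inv_mem hy, S.pr_inv hy, hinvB y hy h2⟩ }
  have htop : X0 = ⊤ := by
    apply hgenX X0
    intro μ hμ h3
    refine ⟨S.f μ, S.fE μ, S.pf μ, ?_⟩
    rw [← hxdf]
    exact ⟨(hxQ μ).1, 1, D.K.one_mem, (hcol μ hμ).2 h3⟩
  have hdfB : ∀ y ∈ D.E, df g y ∈ D.B v := by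
    intro y hy
    obtain ⟨y', hy', h1, h2⟩ : S.pr y ∈ X0 := by rw [htop]; trivial
    have h3 : y'⁻¹ * y ∈ D.Q v := by
      rw [← S.eq_iff hy' hy, h1]
    have h4 : y = y' * (y'⁻¹ * y) := by group
    rw [h4]
    exact hmul y' hy' _ h3.1 h2 ⟨(hdfQ _ h3.1).1, 1, D.K.one_mem, hdfr _ h3⟩
  have hS : D.Sit2 v g := ⟨hg, hgv, hv, hgK, hdfB, hgQ⟩
  apply quad_end hS S (fun μ => κ μ ≠ 3) (fun M _ ζ B a1 a2 a3 a4 a5 => hquad M ζ B a1 a2 a3 a4 a5)
  intro μ hμ h3
  rw [← hxdf]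
  exact (hcol μ hμ).2 h3

end Dat

end Cfsg.Agent.H578
end

-- part: H578/PF
section
/-!
# The partial frame theorem (helper578)
-/

set_option autoImplicit false
set_option linter.unusedSectionVars false

universe u

namespace Cfsg.Agent.H578

variable {V : Type u} [AddCommGroup V]

theorem df_mul {A : Type*} [Group A] (g x y : A) :
    (x * y)⁻¹ * (g * (x * y) * g⁻¹) =
      cm y⁻¹ (x⁻¹ * (g * x * g⁻¹)) * ((x⁻¹ * (g * x * g⁻¹)) * (y⁻¹ * (g * y * g⁻¹))) := by
  unfold cm; group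

theorem df_inv {A : Type*} [Group A] (g x : A) :
    (x⁻¹)⁻¹ * (g * x⁻¹ * g⁻¹) = cm x (x⁻¹ * (g * x * g⁻¹))⁻¹ * (x⁻¹ * (g * x * g⁻¹))⁻¹ := by
  unfold cm; group

namespace Dat

variable {G : Subgroup (AU V)} {D : Dat G} [Nontrivial V]

theorem fix_of_B {v u : V} {x k : AU V} (hx : x ∈ D.E) (hk : k.1 ∈ D.K) (h : x.1 v = k.1 v)
    (hu : u ∈ D.V0 v) : x.1 u = k.1 u := by
  have hki : (k⁻¹).1 ∈ D.K := D.isF.units.inv_mem (x := k) hk
  have h1 := hu (k⁻¹ * x) (D.E.mul_mem (D.KE _ hki) hx) (by rw [au_mul_apply, h, au_inv_apply])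
  rw [au_mul_apply] at h1
  rw [← au_apply_inv k (x.1 u), h1]

/-- **The partial frame theorem.** -/
theorem pf [Finite V] {v : V} (hv : v ≠ 0) {w₀ : V} (hw₀ : w₀ ∈ D.V0 v)
    (h1 : ∀ g ∈ G, g.1 v = v → g.1 w₀ = w₀ → (∀ a ∈ D.K, ∀ x, g.1 (a x) = a (g.1 x)) ∧
      ∀ x ∈ D.Q v, g.1 (x.1 v) = x.1 v)
    (b : Fin 4 → V) (hbV : ∀ c, b c ∈ D.V0 v) (hb0 : ∀ c, b c ≠ 0)
    (hbg : ∀ g ∈ G, g.1 v = v → g.1 w₀ = w₀ → ∀ c, g.1 (b c) = b c)
    (hbo : ∀ x ∈ D.Q v, ∀ c d, x.1 (b c) = b d → c = d)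
    (hS0 : ∀ x ∈ D.Q v, x.1 (b 0) = b 0 → x ∈ D.B v)
    (hS12 : ∀ x ∈ D.Q v, ∀ k l : AU V, k.1 ∈ D.K → l.1 ∈ D.K → x.1 (b 1) = k.1 (b 1) →
      x.1 (b 2) = l.1 (b 2) → x ∈ D.B v) : HasBase (Fin 2) G := by
  classical
  obtain ⟨X, _, _, ⟨S⟩⟩ := D.exists_sec v
  obtain ⟨κ, hκ1, hκ2, -⟩ := Comb.c4' X
  have : Fintype X := Fintype.ofFinite X
  let u : X → V := fun μ => if μ = 0 then w₀ else b (κ μ)
  have hu : ∀ μ, u μ ∈ D.V0 v := by
    intro μ
    change (if μ = 0 then w₀ else b (κ μ)) ∈ D.V0 v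
    split_ifs
    · exact hw₀
    · exact hbV _
  refine ⟨![v, ∑ μ, (S.f μ).1 (u μ)], fun g hg h => ?_⟩
  have hgv : g.1 v = v := h 0
  have hg1 : g.1 (∑ μ, (S.f μ).1 (u μ)) = ∑ μ, (S.f μ).1 (u μ) := h 1
  obtain ⟨T, hTi, hT⟩ := exists_T hg hgv S
  have k1 := comp hg hgv S hTi hT (s := Finset.univ) (fun μ => Finset.mem_univ μ) hu hg1
  have hgw : g.1 w₀ = w₀ := by
    have := k1 0
    rw [map_zero, S.f0] at this
    have e : u 0 = w₀ := if_pos rfl
    rw [e] at this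
    exact this.symm
  obtain ⟨hgK, hgQ⟩ := h1 g hg hgv hgw
  have hgb := hbg g hg hgv hgw
  let x : X → AU V := fun μ => (S.f (T μ))⁻¹ * (g * S.f μ * g⁻¹)
  have hxQ : ∀ μ, x μ ∈ D.Q v := by
    intro μ
    rw [← S.eq_iff (S.fE _) (D.GE g hg _ (S.fE μ)), S.pf, hT _ (S.fE μ), S.pf]
  have hgf : ∀ μ, ∀ y : V, g.1 ((S.f μ).1 y) = (S.f (T μ)).1 ((x μ).1 (g.1 y)) := by
    intro μ y
    have e1 : g * S.f μ = S.f (T μ) * x μ * g := by
      change g * S.f μ = S.f (T μ) * ((S.f (T μ))⁻¹ * (g * S.f μ * g⁻¹)) * g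
      group
    rw [← au_mul_apply, e1, au_mul_apply, au_mul_apply]
  have hxb : ∀ μ, μ ≠ 0 → (x μ).1 (b (κ μ)) = b (κ (T μ)) := by
    intro μ hμ
    have hTμ : T μ ≠ 0 := fun h0 => hμ (hTi (by rw [h0, map_zero]))
    have e1 := k1 μ
    have f1 : u μ = b (κ μ) := if_neg hμ
    have f3 : u (T μ) = b (κ (T μ)) := if_neg hTμ
    rw [f1, f3, hgf, hgb] at e1
    exact (au_injective _ e1).symm
  have hTid : ∀ μ, T μ = μ := hκ1 T hTi fun μ hμ =>
    (hbo _ (hxQ μ) _ _ (hxb μ hμ)).symm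
  have hdfQ : ∀ y ∈ D.E, df g y ∈ D.Q v := by
    intro y hy
    change y⁻¹ * (g * y * g⁻¹) ∈ D.Q v
    rw [← S.eq_iff hy (D.GE g hg y hy), hT y hy, hTid]
  have hxdf : ∀ μ, x μ = df g (S.f μ) := by
    intro μ
    change (S.f (T μ))⁻¹ * (g * S.f μ * g⁻¹) = (S.f μ)⁻¹ * (g * S.f μ * g⁻¹)
    rw [hTid]
  have hdfb : ∀ μ, μ ≠ 0 → (df g (S.f μ)).1 (b (κ μ)) = b (κ μ) := by
    intro μ hμ
    rw [← hxdf, hxb μ hμ, hTid]
  -- the subgroups attached to a vector
  let C : V → Subgroup (AU V) := fun c =>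
    { carrier := {y | y ∈ D.Q v ∧ ∃ k : AU V, k.1 ∈ D.K ∧ y.1 c = k.1 c}
      one_mem' := ⟨(D.Q v).one_mem, 1, D.K.one_mem, rfl⟩
      mul_mem' := by
        rintro y z ⟨hy, k, hk, h1⟩ ⟨hz, l, hl, h2⟩
        refine ⟨(D.Q v).mul_mem hy hz, k * l, D.K.mul_mem hk hl, ?_⟩
        rw [au_mul_apply, h2, D.EK' hy.1 hl, h1, au_mul_apply]
        exact DFunLike.congr_fun (D.isF.comm _ hl _ hk) c
      inv_mem' := by
        rintro y ⟨hy, k, hk, h1⟩
        have hki := D.isF.units.inv_mem (x := k) hk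
        refine ⟨(D.Q v).inv_mem hy, k⁻¹, hki, ?_⟩
        apply au_injective y
        rw [au_apply_inv, D.EK' hy.1 hki, h1, au_inv_apply] }
  have hKC : ∀ c, ∀ k : AU V, k.1 ∈ D.K → k ∈ C c := fun c k hk =>
    ⟨D.K_le_Q hk, k, hk, rfl⟩
  have hcmC : ∀ c, ∀ y ∈ D.E, ∀ z ∈ D.E, cm y z ∈ C c := fun c y hy z hz =>
    hKC c _ (cm_K hy hz)
  have hdfr : ∀ r ∈ D.Q v, (df g r).1 v = v := by
    intro r hr
    apply au_injective r
    have e1 := df_apply g r v
    rw [hgv, hgQ r hr] at e1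
    exact e1.symm
  have hPr : ∀ c ∈ D.V0 v, ∀ r ∈ D.Q v, df g r ∈ C c := by
    intro c hc r hr
    have hd := hdfQ r hr.1
    exact ⟨hd, 1, D.K.one_mem, by
      rw [hc _ hd.1 (hdfr r hr)]; rfl⟩
  have hPmul : ∀ c, ∀ y ∈ D.E, ∀ z ∈ D.E, df g y ∈ C c → df g z ∈ C c → df g (y * z) ∈ C c := by
    intro c y hy z hz h2 h3
    unfold df at h2 h3 ⊢
    rw [df_mul]
    exact (C c).mul_mem (hcmC c _ (D.E.inv_mem hz) _ h2.1.1) ((C c).mul_mem h2 h3)
  have hPinv : ∀ c, ∀ y ∈ D.E, df g y ∈ C c → df g y⁻¹ ∈ C c := by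
    intro c y hy h2
    unfold df at h2 ⊢
    rw [df_inv]
    exact (C c).mul_mem (hcmC c _ hy _ (D.E.inv_mem h2.1.1)) ((C c).inv_mem h2)
  let XX : V → AddSubgroup X := fun c =>
    { carrier := {μ | ∃ y ∈ D.E, S.pr y = μ ∧ df g y ∈ C c}
      zero_mem' := ⟨1, D.E.one_mem, S.pr_one, by
        have : df g 1 = 1 := by unfold df; group
        rw [this]; exact (C c).one_mem⟩
      add_mem' := by
        rintro μ ν ⟨y, hy, rfl, h2⟩ ⟨z, hz, rfl, h3⟩
        exact ⟨y * z, D.E.mul_mem hy hz, S.pr_mul y hy z hz, hPmul c y hy z hz h2 h3⟩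
      neg_mem' := by
        rintro μ ⟨y, hy, rfl, h2⟩
        exact ⟨y⁻¹, D.E.inv_mem hy, S.pr_inv hy, hPinv c y hy h2⟩ }
  have htr : ∀ c ∈ D.V0 v, ∀ μ ∈ XX c, df g (S.f μ) ∈ C c := by
    rintro c hc μ ⟨y, hy, rfl, h2⟩
    have h3 : y⁻¹ * S.f (S.pr y) ∈ D.Q v := by
      rw [← S.eq_iff hy (S.fE _), S.pf]
    have h4 : S.f (S.pr y) = y * (y⁻¹ * S.f (S.pr y)) := by group
    rw [h4]
    exact hPmul c y hy _ h3.1 h2 (hPr c hc _ h3)
  have htop : XX v = ⊤ := by
    apply hκ2 (XX v) (XX (b 1)) (XX (b 2))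
    · rintro μ ⟨hμ1, hμ2⟩
      have e1 := htr _ (hbV 1) μ hμ1
      have e2 := htr _ (hbV 2) μ hμ2
      obtain ⟨hq, k, hk, hk1⟩ := e1
      obtain ⟨-, l, hl, hl1⟩ := e2
      exact ⟨S.f μ, S.fE μ, S.pf μ, hq, (hS12 _ hq k l hk hl hk1 hl1).2⟩
    · rintro μ ⟨y, hy, hy1, hq, k, hk, hk1⟩
      exact ⟨y, hy, hy1, hq, k, hk, fix_of_B hq.1 hk hk1 (hbV 1)⟩
    · rintro μ ⟨y, hy, hy1, hq, k, hk, hk1⟩
      exact ⟨y, hy, hy1, hq, k, hk, fix_of_B hq.1 hk hk1 (hbV 2)⟩
    · intro μ hμ hc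
      have e1 := hdfb μ hμ
      rw [hc] at e1
      exact ⟨S.f μ, S.fE μ, S.pf μ, hdfQ _ (S.fE μ), (hS0 _ (hdfQ _ (S.fE μ)) e1).2⟩
    · intro μ hμ hc
      have e1 := hdfb μ hμ
      rw [hc] at e1
      exact ⟨S.f μ, S.fE μ, S.pf μ, hdfQ _ (S.fE μ), 1, D.K.one_mem, e1⟩
    · intro μ hμ hc
      have e1 := hdfb μ hμ
      rw [hc] at e1
      exact ⟨S.f μ, S.fE μ, S.pf μ, hdfQ _ (S.fE μ), 1, D.K.one_mem, e1⟩
  have hdfv : ∀ μ, (df g (S.f μ)).1 v = v := by
    intro μ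
    by_cases hμ : μ = 0
    · have : df g (S.f μ) = 1 := by rw [hμ, S.f0]; unfold df; group
      rw [this]; rfl
    · have hμX : μ ∈ XX v := by rw [htop]; trivial
      obtain ⟨hq, k, hk, hk1⟩ := htr v (D.self_mem_V0 v) μ hμX
      have e1 := fix_of_B hq.1 hk hk1 (hbV (κ μ))
      rw [hdfb μ hμ] at e1
      have e2 : k = 1 := Units.ext (D.isF.eq_of_apply hk D.K.one_mem (hb0 (κ μ)) e1.symm)
      rw [hk1, e2]; rfl
  apply fix_imp_one hg hgv hv
  intro e he
  have hq : (S.f (S.pr e))⁻¹ * e ∈ D.Q v := by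
    rw [← S.eq_iff (S.fE _) he, S.pf]
  have e1 : e.1 v = (S.f (S.pr e)).1 (((S.f (S.pr e))⁻¹ * e).1 v) := by
    rw [← au_mul_apply, mul_inv_cancel_left]
  rw [e1, df_apply, hgQ _ hq,
    D.Q_V0 hq (D.self_mem_V0 v) _ (hdfQ _ (S.fE _)).1 (hdfv _)]

end Dat

end Cfsg.Agent.H578
end

-- part: H578/OddI
section
/-!
# Primitive coprime linear groups, `E / K` not a 2-group: preparations (helper578)
-/

set_option autoImplicit false
set_option linter.unusedSectionVars false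

universe u

namespace Cfsg.Agent.H578

variable {V : Type u} [AddCommGroup V]

theorem cm_swap {A : Type*} [Group A] (x y : A) : cm y x = (cm x y)⁻¹ := by
  unfold cm; group

namespace IsF

variable {K : Subring (AddMonoid.End V)}

/-- roots of unity of prime order -/
theorem roots [Nontrivial V] [Finite V] (h : IsF K) {r : ℕ} (hr : r.Prime) {ω k : AU V}
    (hω : ω.1 ∈ K) (hk : k.1 ∈ K) (hω1 : ω ≠ 1) (hωr : ω ^ r = 1) (hkr : k ^ r = 1) :
    ∃ l : ℕ, k = ω ^ l := by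
  have hfe : Finite (AddMonoid.End V) := finite_end
  have hrf : Fact r.Prime := ⟨hr⟩
  let _ : CommRing K := { (inferInstance : Ring K) with
    mul_comm := fun a b => Subtype.ext (h.comm a.1 a.2 b.1 b.2) }
  have : IsDomain K := h.isDomain
  have hprim : IsPrimitiveRoot (⟨ω.1, hω⟩ : K) r := by
    refine IsPrimitiveRoot.mk_of_lt _ hr.pos ?_ ?_
    · apply Subtype.ext
      change ω.1 ^ r = 1
      rw [← Units.val_pow_eq_pow_val, hωr]; rfl
    · intro l hl hlr h1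
      have h2 : ω ^ l = 1 := by
        apply Units.ext
        rw [Units.val_pow_eq_pow_val]
        exact congrArg Subtype.val h1
      have h3 : orderOf ω ∣ l := orderOf_dvd_of_pow_eq_one h2
      have h4 : orderOf ω = r := orderOf_eq_prime hωr hω1
      rw [h4] at h3
      exact absurd (Nat.le_of_dvd hl h3) (by omega)
  have : NeZero r := ⟨hr.ne_zero⟩
  obtain ⟨l, -, hl⟩ := hprim.eq_pow_of_pow_eq_one (ξ := ⟨k.1, hk⟩) (by
    apply Subtype.ext
    change k.1 ^ r = 1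
    rw [← Units.val_pow_eq_pow_val, hkr]; rfl)
  refine ⟨l, Units.ext ?_⟩
  rw [Units.val_pow_eq_pow_val]
  exact (congrArg Subtype.val hl).symm

/-- eigenvectors for different eigenvalues are independent -/
theorem eig_indep [Nontrivial V] (h : IsF K) {z : AU V} (hz : ∀ a ∈ K, ∀ x, z.1 (a x) = a (z.1 x))
    {ι : Type*} {s : Finset ι} {lam : ι → AddMonoid.End V} (hlam : ∀ i ∈ s, lam i ∈ K)
    (hinj : ∀ i ∈ s, ∀ j ∈ s, lam i = lam j → i = j) {u : ι → V}
    (hu : ∀ i ∈ s, z.1 (u i) = lam i (u i)) (h0 : ∑ i ∈ s, u i = 0) : ∀ i ∈ s, u i = 0 := by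
  classical
  induction s using Finset.induction_on generalizing u with
  | empty => simp
  | insert i₀ s hi₀ ih =>
    rw [Finset.sum_insert hi₀] at h0
    have hK0 := hlam i₀ (Finset.mem_insert_self i₀ s)
    have hKs : ∀ i ∈ s, lam i ∈ K := fun i hi => hlam i (Finset.mem_insert_of_mem hi)
    have hus : ∀ i ∈ s, z.1 (u i) = lam i (u i) := fun i hi => hu i (Finset.mem_insert_of_mem hi)
    have h1 : ∑ i ∈ s, (lam i - lam i₀) (u i) = 0 := by
      have h2 : z.1 (u i₀ + ∑ i ∈ s, u i) = 0 := by rw [h0, map_zero]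
      have h3 : lam i₀ (u i₀ + ∑ i ∈ s, u i) = 0 := by rw [h0, map_zero]
      rw [map_add, map_sum] at h2 h3
      rw [hu i₀ (Finset.mem_insert_self i₀ s)] at h2
      rw [← h3] at h2
      have h4 := add_left_cancel h2
      have h5 : ∑ i ∈ s, (lam i - lam i₀) (u i) = ∑ i ∈ s, (z.1 (u i) - lam i₀ (u i)) := by
        refine Finset.sum_congr rfl fun i hi => ?_
        rw [hus i hi]; rfl
      rw [h5, Finset.sum_sub_distrib, h4, sub_self]
    have h2 := ih hKs (fun i hi j hj => hinj i (Finset.mem_insert_of_mem hi) j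
      (Finset.mem_insert_of_mem hj)) (u := fun i => (lam i - lam i₀) (u i)) (fun i hi => by
        rw [hz _ (K.sub_mem (hKs i hi) hK0), hus i hi]
        exact DFunLike.congr_fun (h.comm _ (K.sub_mem (hKs i hi) hK0) _ (hKs i hi)) (u i)) h1
    have h3 : ∀ i ∈ s, u i = 0 := by
      intro i hi
      by_contra hne
      have h4 := h.eq_zero (K.sub_mem (hKs i hi) hK0) hne (h2 i hi)
      have h5 := hinj i (Finset.mem_insert_of_mem hi) i₀ (Finset.mem_insert_self i₀ s)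
        (sub_eq_zero.mp h4)
      exact hi₀ (h5 ▸ hi)
    intro i hi
    rcases Finset.mem_insert.mp hi with rfl | hi
    · rw [Finset.sum_eq_zero h3, add_zero] at h0
      exact h0
    · exact h3 i hi

end IsF

namespace Dat

variable {G : Subgroup (AU V)} {D : Dat G}

theorem cm_pow_left {x y : AU V} (hx : x ∈ D.E) (hy : y ∈ D.E) (n : ℕ) :
    cm (x ^ n) y = cm x y ^ n := by
  induction n with
  | zero => rw [pow_zero, pow_zero]; unfold cm; group
  | succ n ih => rw [pow_succ, cm_mul_left (D.E.pow_mem hx n) hx hy, ih, pow_succ]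

theorem cm_pow_right {x y : AU V} (hx : x ∈ D.E) (hy : y ∈ D.E) (n : ℕ) :
    cm x (y ^ n) = cm x y ^ n := by
  induction n with
  | zero => rw [pow_zero, pow_zero]; unfold cm; group
  | succ n ih => rw [pow_succ, cm_mul_right hx (D.E.pow_mem hy n) hy, ih, pow_succ]

theorem cm_inv_left {x y : AU V} (hx : x ∈ D.E) (hy : y ∈ D.E) :
    cm x⁻¹ y = (cm x y)⁻¹ := by
  have h := cm_mul_left (D.E.inv_mem hx) hx hy
  rw [inv_mul_cancel] at h
  have h1 : cm (1 : AU V) y = 1 := by unfold cm; group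
  rw [h1] at h
  exact eq_inv_of_mul_eq_one_left h.symm

theorem cm_inv_right {x y : AU V} (hx : x ∈ D.E) (hy : y ∈ D.E) :
    cm x y⁻¹ = (cm x y)⁻¹ := by
  have h := cm_mul_right hx (D.E.inv_mem hy) hy
  rw [inv_mul_cancel] at h
  have h1 : cm x (1 : AU V) = 1 := by unfold cm; group
  rw [h1] at h
  exact eq_inv_of_mul_eq_one_left h.symm

/-- product of two elements of odd prime exponent -/
theorem mul_pow_odd {x y : AU V} (hx : x ∈ D.E) (hy : y ∈ D.E) {r : ℕ} (hr : Odd r)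
    (hxr : x ^ r = 1) (hyr : y ^ r = 1) : (x * y) ^ r = 1 := by
  have hcK := cm_K hy hx
  have hc : y * x = cm y x * (x * y) := cm_mul y x
  have h1 := class2_pow x y (cm y x) hc (D.EKu hx hcK).symm (D.EKu hy hcK).symm r
  have h2 : cm y x ^ r = 1 := by
    rw [← cm_pow_left hy hx, hyr]; unfold cm; group
  obtain ⟨m, hm⟩ := hr
  have h3 : r * (r - 1) / 2 = r * m := by
    rw [show r - 1 = 2 * m by omega, show r * (2 * m) = 2 * (r * m) by ring]
    omega
  rw [h1, h3, pow_mul, h2, one_pow, hxr, hyr, one_mul, one_mul]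

theorem eq_one_of_fix {v : V} (hv : v ≠ 0) {k : AU V} (hk : k.1 ∈ D.K) (h : k.1 v = v) : k = 1 :=
  Units.ext (D.isF.eq_of_apply hk D.K.one_mem hv h)

variable [Nontrivial V] [Finite V]

/-- the elements `z`, `f` of odd prime order -/
theorem exists_zf {v₀ : V} (hv₀ : D.IsMax v₀) {x : AU V} (hx : x ∈ D.E) (hx2 : (x ^ 2).1 ∉ D.K) :
    ∃ r : ℕ, r.Prime ∧ r ≠ 2 ∧ ∃ z ∈ D.E, ∃ f ∈ D.E, z.1 v₀ = v₀ ∧ z ^ r = 1 ∧ f ^ r = 1 ∧
      cm z f ≠ 1 := by
  obtain ⟨s, hs, -, hsE⟩ := D.sqf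
  have h1 : x ^ 2 ∉ D.isF.units := hx2
  obtain ⟨r, hr, hrs, hxr⟩ := exists_prime_power_not_mem h1 hs
    (D.isF.units.pow_mem (hsE x hx) 2 |> fun h => by
      rw [← pow_mul, mul_comm, pow_mul] at h; exact h)
  have hr2 : r ≠ 2 := by
    rintro rfl
    apply hxr
    rw [← pow_mul, Nat.mul_div_cancel' hrs]
    exact hsE x hx
  obtain ⟨t, rfl⟩ := hrs
  rw [Nat.mul_div_cancel_left t hr.pos] at hxr
  have hrt : Nat.Coprime r t := by
    rw [Nat.squarefree_mul_iff] at hs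
    exact hs.1
  have hyE : (x ^ 2) ^ t ∈ D.E := D.E.pow_mem (D.E.pow_mem hx 2) t
  have hyr : (((x ^ 2) ^ t) ^ r).1 ∈ D.K := by
    have h2 : ((x ^ 2) ^ t) ^ r = (x ^ (r * t)) ^ 2 := by
      rw [← pow_mul, ← pow_mul, ← pow_mul]; congr 1; ring
    rw [h2]
    exact D.isF.units.pow_mem (hsE x hx) 2
  have hstar : ∀ y ∈ D.E, (y ^ r).1 ∈ D.K → ∃ k : AU V, k.1 ∈ D.K ∧ (k * y) ^ r = 1 := by
    intro y hy hyr
    obtain ⟨k, hk, h | ⟨h, -⟩⟩ := D.star y hy r hr hyr
    · exact ⟨k, hk, h⟩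
    · exact absurd h hr2
  obtain ⟨k, hk, hky⟩ := hstar _ hyE hyr
  obtain ⟨y, hy⟩ : ∃ y, y = k * (x ^ 2) ^ t := ⟨_, rfl⟩
  have hyE' : y ∈ D.E := by rw [hy]; exact D.E.mul_mem (D.KE k hk) hyE
  have hy1 : y ^ r = 1 := by rw [hy]; exact hky
  have hyK : y.1 ∉ D.K := by
    intro h
    apply hxr
    have h2 : y ∈ D.isF.units := h
    rw [hy] at h2
    exact (D.isF.units.mul_mem_cancel_left (x := k) hk).mp h2
  have hcop : ∀ c : AU V, c ^ r = 1 → c ^ t = 1 → c = 1 := by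
    intro c h1 h2
    have := mem_of_coprime (Z := (⊥ : Subgroup (AU V))) hrt (by
      rw [Subgroup.mem_bot]; exact h1) (by rw [Subgroup.mem_bot]; exact h2)
    rwa [Subgroup.mem_bot] at this
  -- `z`
  obtain ⟨z, hz, hzv, hzr, hz1⟩ : ∃ z ∈ D.E, z.1 v₀ = v₀ ∧ z ^ r = 1 ∧ z ≠ 1 := by
    by_contra hcon
    push Not at hcon
    have hyQ : y ∈ D.Q v₀ := by
      refine ⟨hyE', fun a ha hav => ?_⟩
      have h2 : a ^ (r * t) = 1 := by
        apply eq_one_of_fix hv₀.ne (hsE a ha)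
        have : ∀ n : ℕ, (a ^ n).1 v₀ = v₀ := by
          intro n
          induction n with
          | zero => rfl
          | succ n ih => rw [pow_succ, au_mul_apply, hav, ih]
        exact this _
      have h3 : a ^ t = 1 := by
        apply hcon (a ^ t) (D.E.pow_mem ha t)
        · have : ∀ n : ℕ, (a ^ n).1 v₀ = v₀ := by
            intro n
            induction n with
            | zero => rfl
            | succ n ih => rw [pow_succ, au_mul_apply, hav, ih]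
          exact this _
        · rw [← pow_mul, mul_comm, h2]
      have h4 : cm a y ^ t = 1 := by
        rw [← cm_pow_left ha hyE', h3]; unfold cm; group
      have h5 : cm a y ^ r = 1 := by
        rw [← cm_pow_right ha hyE', hy1]; unfold cm; group
      exact (cm_eq_one.mp (hcop _ h5 h4)).symm
    obtain ⟨-, l, hl, h2⟩ := B_of_pow hv₀ hyQ hr hy1
    have hli : (l⁻¹).1 ∈ D.K := D.isF.units.inv_mem (x := l) hl
    have hc : Commute l⁻¹ y := (D.EKu hyE' hli).symm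
    have h3 : (l⁻¹ * y).1 v₀ = v₀ := by rw [au_mul_apply, h2, au_inv_apply]
    have h4 : (l⁻¹ * y) ^ r = 1 := by
      have h5 : (l⁻¹ * y) ^ r = l⁻¹ ^ r := by rw [hc.mul_pow, hy1, mul_one]
      apply eq_one_of_fix hv₀.ne
      · rw [h5]; exact D.isF.units.pow_mem (x := l⁻¹) hli r
      · have : ∀ n : ℕ, ((l⁻¹ * y) ^ n).1 v₀ = v₀ := by
          intro n
          induction n with
          | zero => rfl
          | succ n ih => rw [pow_succ, au_mul_apply, h3, ih]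
        exact this _
    have h5 := hcon _ (D.E.mul_mem (D.KE _ hli) hyE') h3 h4
    apply hyK
    have h6 : y = l := (inv_mul_eq_one.mp h5).symm
    rw [h6]; exact hl
  have hzK : z.1 ∉ D.K := fun h => hz1 (eq_one_of_fix hv₀.ne h hzv)
  obtain ⟨f', hf', hzf'⟩ : ∃ f' ∈ D.E, cm z f' ≠ 1 := by
    by_contra hcon
    push Not at hcon
    exact hzK (D.center z hz fun y hy => cm_eq_one.mp (hcon y hy))
  have hc1 : cm z f' ^ r = 1 := by
    rw [← cm_pow_left hz hf', hzr]; unfold cm; group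
  obtain ⟨l, hl, hlf⟩ := hstar (f' ^ t) (D.E.pow_mem hf' t) (by
    rw [← pow_mul, mul_comm]; exact hsE f' hf')
  refine ⟨r, hr, hr2, z, hz, l * f' ^ t, D.E.mul_mem (D.KE l hl) (D.E.pow_mem hf' t), hzv, hzr,
    hlf, ?_⟩
  rw [cm_mul_right hz (D.KE l hl) (D.E.pow_mem hf' t), cm_K_right hl hz, one_mul,
    cm_pow_right hz hf']
  intro h
  exact hzf' (hcop _ hc1 h)

end Dat

end Cfsg.Agent.H578
end

-- part: H578/OddII
section
/-!
# Primitive coprime linear groups, `E / K` not a 2-group (helper578)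
-/

set_option autoImplicit false
set_option linter.unusedSectionVars false

universe u

namespace Cfsg.Agent.H578

variable {V : Type u} [AddCommGroup V]

namespace Dat

/-- the setup for an odd prime `r` -/
structure OS {G : Subgroup (AU V)} (D : Dat G) (r : ℕ) (v₀ : V) (z f : AU V) : Prop where
  hr : r.Prime
  hr2 : r ≠ 2
  mx : D.IsMax v₀
  hz : z ∈ D.E
  hf : f ∈ D.E
  zv : z.1 v₀ = v₀
  zr : z ^ r = 1
  fr : f ^ r = 1
  zf : cm z f ≠ 1
  two : (1 : AU V) ≠ -1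

variable {G : Subgroup (AU V)} {D : Dat G} {r : ℕ} {v₀ : V} {z f : AU V}

namespace OS

variable (h : D.OS r v₀ z f)
include h

theorem odd : Odd r := h.hr.eq_two_or_odd'.resolve_left h.hr2

theorem two_lt : 2 < r := lt_of_le_of_ne h.hr.two_le h.hr2.symm

theorem wK : (cm z f).1 ∈ D.K := cm_K h.hz h.hf

theorem wr : cm z f ^ r = 1 := by
  rw [← cm_pow_left h.hz h.hf, h.zr]; unfold cm; group

theorem wpow {i j : ℕ} (hi : i < r) (hj : j < r) (hij : cm z f ^ i = cm z f ^ j) : i = j := by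
  have hrf : Fact r.Prime := ⟨h.hr⟩
  have h1 : orderOf (cm z f) = r := orderOf_eq_prime h.wr h.zf
  exact pow_injOn_Iio_orderOf (by rw [h1]; exact hi) (by rw [h1]; exact hj) hij

variable [Nontrivial V] [Finite V]

theorem root {k : AU V} (hk : k.1 ∈ D.K) (hkr : k ^ r = 1) : ∃ l : ℕ, k = cm z f ^ l :=
  D.isF.roots h.hr h.wK hk h.zf h.wr hkr

theorem zK : ∀ a ∈ D.K, ∀ x, z.1 (a x) = a (z.1 x) := fun _ ha x => D.EK' h.hz ha x

/-- `z` acts on `x u` -/
theorem z_apply {x : AU V} (hx : x ∈ D.E) {u : V} {k : AU V} (hk : k.1 ∈ D.K)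
    (hu : z.1 u = k.1 u) : z.1 (x.1 u) = (cm z x * k).1 (x.1 u) := by
  have h1 : z * x = cm z x * (x * z) := cm_mul z x
  rw [← au_mul_apply, h1, au_mul_apply, au_mul_apply, hu, D.EK' hx hk, au_mul_apply]

theorem z_apply₀ {x : AU V} (hx : x ∈ D.E) : z.1 (x.1 v₀) = (cm z x).1 (x.1 v₀) := by
  have := h.z_apply hx (u := v₀) (k := 1) D.K.one_mem (by rw [h.zv]; rfl)
  rwa [mul_one] at this

theorem cm_fpow (j : ℕ) : cm z (f ^ j) = cm z f ^ j := cm_pow_right h.hz h.hf j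

/-- the stabiliser of `v₀` is generated by `z` and the elements commuting with `f` -/
theorem dec {a : AU V} (ha : a ∈ D.E) (hav : a.1 v₀ = v₀) :
    ∃ l : ℕ, ∃ b ∈ D.E, a = z ^ l * b ∧ b.1 v₀ = v₀ ∧ cm b f = 1 := by
  have h1 : cm a f ^ r = 1 := by
    rw [← cm_pow_right ha h.hf, h.fr]; unfold cm; group
  obtain ⟨l, hl⟩ := h.root (cm_K ha h.hf) h1
  have hzl : ((z ^ l)⁻¹).1 v₀ = v₀ := by
    apply au_injective (z ^ l)
    rw [au_apply_inv]
    have : ∀ n : ℕ, (z ^ n).1 v₀ = v₀ := by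
      intro n
      induction n with
      | zero => rfl
      | succ n ih => rw [pow_succ, au_mul_apply, h.zv, ih]
    exact (this l).symm
  refine ⟨l, (z ^ l)⁻¹ * a, D.E.mul_mem (D.E.inv_mem (D.E.pow_mem h.hz l)) ha, by group, ?_, ?_⟩
  · rw [au_mul_apply, hav, hzl]
  · rw [cm_mul_left (D.E.inv_mem (D.E.pow_mem h.hz l)) ha h.hf,
      cm_inv_left (D.E.pow_mem h.hz l) h.hf, cm_pow_left h.hz h.hf, hl, inv_mul_cancel]

/-- the vector -/
theorem vne : v₀ + f.1 v₀ ≠ 0 := by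
  intro h0
  have h1 : f.1 v₀ = -v₀ := eq_neg_of_add_eq_zero_right h0
  have h2 := h.z_apply₀ h.hf
  rw [h1, map_neg, map_neg, h.zv] at h2
  have h3 := neg_injective h2
  exact h.zf (eq_one_of_fix h.mx.ne h.wK h3.symm)

/-- components with respect to `z` -/
theorem comps {u u' : ℕ → V} (hu : ∀ j < r, z.1 (u j) = (cm z f ^ j).1 (u j))
    (hu' : ∀ j < r, z.1 (u' j) = (cm z f ^ j).1 (u' j))
    (h0 : ∑ j ∈ Finset.range r, u j = ∑ j ∈ Finset.range r, u' j) : ∀ j < r, u j = u' j := by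
  have h1 := D.isF.eig_indep h.zK (s := Finset.range r) (lam := fun j => (cm z f ^ j).1)
    (u := fun j => u j - u' j)
    (fun j _ => D.isF.units.pow_mem (x := cm z f) h.wK j)
    (fun i hi j hj hij => h.wpow (Finset.mem_range.mp hi) (Finset.mem_range.mp hj)
      (Units.ext hij))
    (fun j hj => by
      rw [map_sub, hu j (Finset.mem_range.mp hj), hu' j (Finset.mem_range.mp hj), map_sub])
    (by rw [Finset.sum_sub_distrib, h0, sub_self])
  intro j hj
  exact sub_eq_zero.mp (h1 j (Finset.mem_range.mpr hj))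

/-- the stabiliser of `v₀ + f v₀` -/
theorem stab_v {x : AU V} (hx : x ∈ D.E) (hxv : x.1 (v₀ + f.1 v₀) = v₀ + f.1 v₀) :
    x.1 v₀ = v₀ ∧ cm x f = 1 := by
  -- eigenvalues of `z`
  have hc := cm_K h.hz hx
  have hcr : cm z x ^ r = 1 := by
    rw [← cm_pow_left h.hz hx, h.zr]; unfold cm; group
  obtain ⟨l, hl⟩ := h.root hc hcr
  have e1 := h.z_apply₀ hx
  have e2 := h.z_apply₀ (D.E.mul_mem hx h.hf)
  rw [cm_mul_right h.hz hx h.hf, au_mul_apply] at e2
  have e3 := h.z_apply₀ h.hf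
  rw [map_add] at hxv
  -- apply `z - 1`
  have e4 : (cm z x).1 (x.1 v₀) + (cm z x * cm z f).1 (x.1 (f.1 v₀)) =
      v₀ + (cm z f).1 (f.1 v₀) := by
    rw [← e1, ← e2, ← map_add, hxv, map_add, h.zv, e3]
  by_cases hc1 : cm z x = 1
  · -- `x` commutes with `z`
    rw [hc1, one_mul] at e4
    have e5 : ((cm z f).1 - 1) (x.1 (f.1 v₀)) = ((cm z f).1 - 1) (f.1 v₀) := by
      change (cm z f).1 (x.1 (f.1 v₀)) - x.1 (f.1 v₀) = (cm z f).1 (f.1 v₀) - f.1 v₀
      have a1 : x.1 v₀ + (cm z f).1 (x.1 (f.1 v₀)) = v₀ + (cm z f).1 (f.1 v₀) := e4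
      rw [sub_eq_sub_iff_add_eq_add]
      have a2 : x.1 v₀ = v₀ + f.1 v₀ - x.1 (f.1 v₀) := by rw [← hxv]; abel
      rw [a2] at a1
      have a3 : (cm z f).1 (x.1 (f.1 v₀)) =
          (v₀ + f.1 v₀ - x.1 (f.1 v₀) + (cm z f).1 (x.1 (f.1 v₀))) -
            (v₀ + f.1 v₀ - x.1 (f.1 v₀)) := by abel
      rw [a3, a1]; abel
    have hne : (cm z f).1 - 1 ≠ 0 := fun h0 => h.zf (Units.ext (sub_eq_zero.mp h0))
    obtain ⟨k, hk⟩ := D.isF.exists_unit (D.K.sub_mem h.wK D.K.one_mem) hne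
    rw [← hk] at e5
    have e6 := au_injective k e5
    have e7 : x.1 v₀ = v₀ := by
      rw [e6] at hxv
      exact add_right_cancel hxv
    refine ⟨e7, ?_⟩
    apply eq_one_of_fix (v := f.1 (x.1 v₀)) ?_ (cm_K hx h.hf)
    · rw [← au_mul_apply f x, ← au_mul_apply, ← cm_mul, au_mul_apply, e6, au_mul_apply f x, e7]
    · intro h0
      apply h.mx.ne
      apply au_injective x
      apply au_injective f
      rw [h0, map_zero, map_zero]
  · exfalso
    -- either `cm z x = w` or `cm z x * w = 1`; in each case compare components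
    have hr2 := h.two_lt
    -- the four eigenvalues are `c, c w` and `1, w`
    have key : ∀ i j : ℕ, ∀ u : V, z.1 u = (cm z f ^ i).1 u → z.1 u = (cm z f ^ j).1 u → u ≠ 0 →
        cm z f ^ i = cm z f ^ j := by
      intro i j u h1 h2 hu
      rw [h1] at h2
      exact Units.ext (D.isF.eq_of_apply (D.isF.units.pow_mem (x := cm z f) h.wK i)
        (D.isF.units.pow_mem (x := cm z f) h.wK j) hu h2)
    -- `(z - c)(z - c w)` kills `v₀ + f v₀`
    have hcK := hc
    have hcw : (cm z x * cm z f).1 ∈ D.K := D.K.mul_mem hc h.wK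
    have p1 : z.1 (z.1 (x.1 v₀ + x.1 (f.1 v₀))) - (cm z x).1 (z.1 (x.1 v₀ + x.1 (f.1 v₀))) -
        (cm z x * cm z f).1 (z.1 (x.1 v₀ + x.1 (f.1 v₀))) +
        (cm z x).1 ((cm z x * cm z f).1 (x.1 v₀ + x.1 (f.1 v₀))) = 0 := by
      have q1 : (cm z x).1 ((cm z x * cm z f).1 (x.1 v₀)) =
          (cm z x * cm z f).1 ((cm z x).1 (x.1 v₀)) :=
        DFunLike.congr_fun (D.isF.comm _ hcK _ hcw) _
      rw [map_add z.1, e1, e2, map_add z.1, h.zK _ hcK, h.zK _ hcw, e1, e2]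
      simp only [map_add]
      rw [q1]
      abel
    rw [hxv, map_add, map_add, h.zv, e3, h.zK _ h.wK, e3, h.zv] at p1
    -- component at `v₀`: `(1 - c)(1 - c w) v₀`, component at `f v₀`
    have m0 : v₀ - (cm z x).1 v₀ - (cm z x * cm z f).1 v₀ + (cm z x).1 ((cm z x * cm z f).1 v₀) =
        (((1 : AddMonoid.End V) - (cm z x).1) * (1 - (cm z x * cm z f).1)) v₀ := by
      change _ = (v₀ - (cm z x * cm z f).1 v₀) - (cm z x).1 (v₀ - (cm z x * cm z f).1 v₀)
      rw [map_sub]; abel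
    have m1 : (cm z f).1 ((cm z f).1 (f.1 v₀)) - (cm z x).1 ((cm z f).1 (f.1 v₀)) -
        (cm z x * cm z f).1 ((cm z f).1 (f.1 v₀)) + (cm z x).1 ((cm z x * cm z f).1 (f.1 v₀)) =
        (((cm z f).1 - (cm z x).1) * ((cm z f).1 - (cm z x * cm z f).1)) (f.1 v₀) := by
      change _ = (cm z f).1 ((cm z f).1 (f.1 v₀) - (cm z x * cm z f).1 (f.1 v₀)) -
        (cm z x).1 ((cm z f).1 (f.1 v₀) - (cm z x * cm z f).1 (f.1 v₀))
      rw [map_sub, map_sub]
      have q2 : (cm z x * cm z f).1 ((cm z f).1 (f.1 v₀)) =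
          (cm z f).1 ((cm z x * cm z f).1 (f.1 v₀)) :=
        DFunLike.congr_fun (D.isF.comm _ hcw _ h.wK) _
      rw [q2]; abel
    have p2 : (((1 : AddMonoid.End V) - (cm z x).1) * (1 - (cm z x * cm z f).1)) v₀ +
        (((cm z f).1 - (cm z x).1) * ((cm z f).1 - (cm z x * cm z f).1)) (f.1 v₀) = 0 := by
      rw [← m0, ← m1, ← p1]
      simp only [map_add]
      abel
    have hK0 : ((1 : AddMonoid.End V) - (cm z x).1) * (1 - (cm z x * cm z f).1) ∈ D.K :=
      D.K.mul_mem (D.K.sub_mem D.K.one_mem hcK) (D.K.sub_mem D.K.one_mem hcw)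
    have hK1 : ((cm z f).1 - (cm z x).1) * ((cm z f).1 - (cm z x * cm z f).1) ∈ D.K :=
      D.K.mul_mem (D.K.sub_mem h.wK hcK) (D.K.sub_mem h.wK hcw)
    -- independence of the two eigenvectors
    have p3 := congrArg z.1 p2
    rw [map_add, map_zero, h.zK _ hK0, h.zK _ hK1, h.zv, e3] at p3
    have p4 : (((cm z f).1 - (cm z x).1) * ((cm z f).1 - (cm z x * cm z f).1))
        ((cm z f).1 (f.1 v₀) - f.1 v₀) = 0 := by
      rw [map_sub]
      have := congrArg₂ (· - ·) p3 p2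
      simp only [sub_self, add_sub_add_left_eq_sub] at this
      exact this
    have hfv : (cm z f).1 (f.1 v₀) - f.1 v₀ ≠ 0 := by
      intro h0
      apply h.zf
      apply eq_one_of_fix (v := f.1 v₀) ?_ h.wK (sub_eq_zero.mp h0)
      intro h1
      apply h.mx.ne
      apply au_injective f
      rw [h1, map_zero]
    have p5 := D.isF.eq_zero hK1 hfv p4
    rw [p5] at p2
    have p6 : (((1 : AddMonoid.End V) - (cm z x).1) * (1 - (cm z x * cm z f).1)) v₀ = 0 := by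
      rw [← p2]; exact (add_zero _).symm
    have p7 := D.isF.eq_zero hK0 h.mx.ne p6
    have hA : cm z x * cm z f = 1 := by
      rcases D.isF.mul_eq_zero (D.K.sub_mem D.K.one_mem hcK) p7 with h1 | h1
      · exact absurd (Units.ext (sub_eq_zero.mp h1)).symm hc1
      · exact (Units.ext (sub_eq_zero.mp h1)).symm
    have hB : cm z x = cm z f := by
      rcases D.isF.mul_eq_zero (D.K.sub_mem h.wK hcK) p5 with h1 | h1
      · exact (Units.ext (sub_eq_zero.mp h1)).symm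
      · exfalso
        apply hc1
        have h2 : cm z f = cm z x * cm z f := Units.ext (sub_eq_zero.mp h1)
        exact mul_eq_right.mp h2.symm
    rw [hB, ← pow_two] at hA
    have := h.wpow (i := 2) (j := 0) hr2 h.hr.pos (by rw [hA, pow_zero])
    omega

end OS

end Dat

end Cfsg.Agent.H578
end

-- part: H578/OddIII
section
/-!
# Primitive coprime linear groups, `E / K` not a 2-group: the stabiliser (helper578)
-/

set_option autoImplicit false
set_option linter.unusedSectionVars false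

universe u

namespace Cfsg.Agent.H578

variable {V : Type u} [AddCommGroup V]

/-- two decompositions into two eigenvectors -/
theorem IsF.two_eig {K : Subring (AddMonoid.End V)} [Nontrivial V] (h : IsF K) {z : AU V}
    (hz : ∀ a ∈ K, ∀ x, z.1 (a x) = a (z.1 x)) {p q p' q' : V} {l m l' m' : AU V}
    (hl : l.1 ∈ K) (hm : m.1 ∈ K) (hl' : l'.1 ∈ K) (hm' : m'.1 ∈ K)
    (hp : z.1 p = l.1 p) (hq : z.1 q = m.1 q) (hp' : z.1 p' = l'.1 p') (hq' : z.1 q' = m'.1 q')
    (hlm : l ≠ m) (hlm' : l' ≠ m') (hp0 : p ≠ 0) (hq0 : q ≠ 0) (hsum : p + q = p' + q') :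
    (p = p' ∧ q = q' ∧ l = l' ∧ m = m') ∨ (p = q' ∧ q = p' ∧ l = m' ∧ m = l') := by
  have hc : ∀ {a b : AU V}, a.1 ∈ K → b.1 ∈ K → ∀ x, a.1 (b.1 x) = b.1 (a.1 x) :=
    fun {a b} ha hb x => DFunLike.congr_fun (h.comm _ ha _ hb) x
  -- `(z - l')(z - m')` kills the sum
  have e1 : z.1 (z.1 (p' + q')) - l'.1 (z.1 (p' + q')) - m'.1 (z.1 (p' + q')) +
      l'.1 (m'.1 (p' + q')) = 0 := by
    rw [map_add z.1, hp', hq', map_add z.1, hz _ hl', hz _ hm', hp', hq']
    simp only [map_add]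
    rw [hc hm' hl' p']
    abel
  rw [← hsum, map_add z.1, hp, hq, map_add z.1, hz _ hl, hz _ hm, hp, hq] at e1
  have m0 : l.1 (l.1 p) - l'.1 (l.1 p) - m'.1 (l.1 p) + l'.1 (m'.1 p) =
      ((l.1 - l'.1) * (l.1 - m'.1)) p := by
    change _ = l.1 (l.1 p - m'.1 p) - l'.1 (l.1 p - m'.1 p)
    rw [map_sub, map_sub, hc hm' hl p]; abel
  have m1 : m.1 (m.1 q) - l'.1 (m.1 q) - m'.1 (m.1 q) + l'.1 (m'.1 q) =
      ((m.1 - l'.1) * (m.1 - m'.1)) q := by
    change _ = m.1 (m.1 q - m'.1 q) - l'.1 (m.1 q - m'.1 q)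
    rw [map_sub, map_sub, hc hm' hm q]; abel
  have e2 : ((l.1 - l'.1) * (l.1 - m'.1)) p + ((m.1 - l'.1) * (m.1 - m'.1)) q = 0 := by
    rw [← m0, ← m1, ← e1]
    simp only [map_add]
    abel
  have hK0 : (l.1 - l'.1) * (l.1 - m'.1) ∈ K :=
    K.mul_mem (K.sub_mem hl hl') (K.sub_mem hl hm')
  have hK1 : (m.1 - l'.1) * (m.1 - m'.1) ∈ K :=
    K.mul_mem (K.sub_mem hm hl') (K.sub_mem hm hm')
  have e3 := congrArg z.1 e2
  rw [map_add, map_zero, hz _ hK0, hz _ hK1, hp, hq] at e3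
  have e4 := congrArg l.1 e2
  rw [map_add, map_zero] at e4
  have c0 : l.1 (((l.1 - l'.1) * (l.1 - m'.1)) p) = ((l.1 - l'.1) * (l.1 - m'.1)) (l.1 p) :=
    DFunLike.congr_fun (h.comm _ hl _ hK0) p
  have c1 : l.1 (((m.1 - l'.1) * (m.1 - m'.1)) q) = ((m.1 - l'.1) * (m.1 - m'.1)) (l.1 q) :=
    DFunLike.congr_fun (h.comm _ hl _ hK1) q
  rw [c0, c1] at e4
  have e5 : ((m.1 - l'.1) * (m.1 - m'.1)) (m.1 q - l.1 q) = 0 := by
    rw [map_sub]
    have := congrArg₂ (· - ·) e3 e4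
    simp only [sub_self, add_sub_add_left_eq_sub] at this
    exact this
  have hmq : m.1 q - l.1 q ≠ 0 := by
    intro h0
    apply hlm
    exact (Units.ext (h.eq_of_apply hm hl hq0 (sub_eq_zero.mp h0))).symm
  have e6 := h.eq_zero hK1 hmq e5
  rw [e6] at e2
  have e7 : ((l.1 - l'.1) * (l.1 - m'.1)) p = 0 := by rw [← e2]; exact (add_zero _).symm
  have e8 := h.eq_zero hK0 hp0 e7
  have f1 : l = l' ∨ l = m' := by
    rcases h.mul_eq_zero (K.sub_mem hl hl') e8 with h1 | h1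
    · left; exact Units.ext (sub_eq_zero.mp h1)
    · right; exact Units.ext (sub_eq_zero.mp h1)
  have f2 : m = l' ∨ m = m' := by
    rcases h.mul_eq_zero (K.sub_mem hm hl') e6 with h1 | h1
    · left; exact Units.ext (sub_eq_zero.mp h1)
    · right; exact Units.ext (sub_eq_zero.mp h1)
  -- the final comparison
  have hfin : ∀ {a b : AU V}, a.1 ∈ K → b.1 ∈ K → a ≠ b → ∀ {x y x' y' : V},
      z.1 x = a.1 x → z.1 y = b.1 y → z.1 x' = a.1 x' → z.1 y' = b.1 y' → x + y = x' + y' →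
      x = x' := by
    intro a b ha hb hab x y x' y' h1 h2 h3 h4 h5
    have h6 : (a.1 - b.1) (x - x') = 0 := by
      have h7 : a.1 (x - x') = b.1 (x - x') := by
        have h8 : x - x' = y' - y := by
          rw [sub_eq_sub_iff_add_eq_add, h5, add_comm]
        have h9 : z.1 (x - x') = a.1 (x - x') := by rw [map_sub, h1, h3, map_sub]
        have h10 : z.1 (x - x') = b.1 (x - x') := by rw [h8, map_sub, h2, h4, map_sub]
        rw [← h9, h10]
      change a.1 (x - x') - b.1 (x - x') = 0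
      rw [h7, sub_self]
    by_contra hne
    apply hab
    have h11 := h.eq_zero (K.sub_mem ha hb) (sub_ne_zero.mpr hne) h6
    exact Units.ext (sub_eq_zero.mp h11)
  rcases f1 with rfl | rfl <;> rcases f2 with rfl | rfl
  · exact absurd rfl hlm
  · left
    have h1 := hfin hl hm hlm hp hq hp' hq' hsum
    refine ⟨h1, ?_, rfl, rfl⟩
    rw [h1] at hsum
    exact add_left_cancel hsum
  · right
    have h1 := hfin hl hm hlm hp hq hq' hp' (by rw [hsum, add_comm])
    refine ⟨h1, ?_, rfl, rfl⟩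
    rw [h1, add_comm] at hsum
    exact add_right_cancel hsum
  · exact absurd rfl hlm

namespace Dat.OS

variable {G : Subgroup (AU V)} {D : Dat G} {r : ℕ} {v₀ : V} {z f : AU V}
  [Nontrivial V] [Finite V] (h : D.OS r v₀ z f)
include h

omit [Finite V] in
theorem cm_fix {a b : AU V} (ha : a ∈ D.E) (hb : b ∈ D.E) (hav : a.1 v₀ = v₀)
    (hbv : b.1 v₀ = v₀) : cm a b = 1 := by
  apply eq_one_of_fix h.mx.ne (cm_K ha hb)
  have h1 : (b⁻¹).1 v₀ = v₀ := by apply au_injective b; rw [au_apply_inv, hbv]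
  have h2 : (a⁻¹).1 v₀ = v₀ := by apply au_injective a; rw [au_apply_inv, hav]
  unfold cm
  rw [au_mul_apply, au_mul_apply, au_mul_apply, h1, h2, hbv, hav]

/-- membership in `Q v₀` -/
theorem mem_Q₀ {y : AU V} (hy : y ∈ D.E) (h1 : cm z y = 1)
    (h2 : ∀ b ∈ D.E, b.1 v₀ = v₀ → cm b f = 1 → cm b y = 1) : y ∈ D.Q v₀ := by
  refine ⟨hy, fun a ha hav => ?_⟩
  obtain ⟨l, b, hb, rfl, hbv, hbf⟩ := h.dec ha hav
  have e1 : cm (z ^ l * b) y = 1 := by
    rw [cm_mul_left (D.E.pow_mem h.hz l) hb hy, cm_pow_left h.hz hy, h1, one_pow, one_mul,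
      h2 b hb hbv hbf]
  exact (cm_eq_one.mp e1).symm

/-- elements of `E` commuting with `f` and fixing `v₀` fix `v` -/
theorem fix_v {b : AU V} (hbv : b.1 v₀ = v₀) (hbf : cm b f = 1) :
    b.1 (v₀ + f.1 v₀) = v₀ + f.1 v₀ := by
  have h1 := cm_eq_one.mp hbf
  rw [map_add, ← au_mul_apply, h1, au_mul_apply, hbv]

theorem f_Q : f ∈ D.Q (v₀ + f.1 v₀) := by
  refine ⟨h.hf, fun a ha hav => ?_⟩
  exact (cm_eq_one.mp (h.stab_v ha hav).2).symm

theorem z_Q : z ∈ D.Q (v₀ + f.1 v₀) := by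
  refine ⟨h.hz, fun a ha hav => ?_⟩
  exact cm_eq_one.mp (h.cm_fix h.hz ha h.zv (h.stab_v ha hav).1)

theorem V0_le {u : V} (hu : u ∈ D.V0 v₀) : u ∈ D.V0 (v₀ + f.1 v₀) := fun a ha hav =>
  hu a ha (h.stab_v ha hav).1

theorem v₀_V0 : v₀ ∈ D.V0 (v₀ + f.1 v₀) := h.V0_le (D.self_mem_V0 v₀)

/-- decomposition of `Q v` -/
theorem dec_Q {x : AU V} (hx : x ∈ D.Q (v₀ + f.1 v₀)) :
    ∃ j : ℕ, ∃ q ∈ D.Q v₀, x = f ^ j * q := by
  have h1 : cm z x ^ r = 1 := by
    rw [← cm_pow_left h.hz hx.1, h.zr]; unfold cm; group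
  obtain ⟨j, hj⟩ := h.root (cm_K h.hz hx.1) h1
  have hfj := D.E.pow_mem h.hf j
  refine ⟨j, (f ^ j)⁻¹ * x, h.mem_Q₀ (D.E.mul_mem (D.E.inv_mem hfj) hx.1) ?_ ?_, by group⟩
  · rw [cm_mul_right h.hz (D.E.inv_mem hfj) hx.1, cm_inv_right h.hz hfj, h.cm_fpow, hj,
      inv_mul_cancel]
  · intro b hb hbv hbf
    rw [cm_mul_right hb (D.E.inv_mem hfj) hx.1, cm_inv_right hb hfj, cm_pow_right hb h.hf, hbf,
      one_pow, inv_one, one_mul]
    exact cm_eq_one.mpr (hx.2 b hb (h.fix_v hbv hbf)).symm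

variable {g : AU V} (hg : g ∈ G) (hgv : g.1 (v₀ + f.1 v₀) = v₀ + f.1 v₀)
include hg hgv

omit hg hgv in
theorem geom_zero {T : AU V} (hTK : ∀ a ∈ D.K, ∀ x, T.1 (a x) = a (T.1 x)) {κ : AU V}
    (hκ : κ.1 ∈ D.K) (hκ1 : κ ≠ 1) (hκr : κ ^ r = 1) {u : V} (hu : T.1 u = κ.1 u) :
    ∑ i ∈ Finset.range r, (T ^ i).1 u = 0 := by
  have h1 : ∀ i : ℕ, (T ^ i).1 u = (κ ^ i).1 u := by
    intro i
    induction i with
    | zero => rfl
    | succ i ih =>
      rw [pow_succ' T, au_mul_apply, ih, hTK _ (D.isF.units.pow_mem (x := κ) hκ i), hu,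
        ← au_mul_apply, ← pow_succ]
  have h2 : (κ.1 - 1) (∑ i ∈ Finset.range r, (T ^ i).1 u) = 0 := by
    have h3 : ∑ i ∈ Finset.range r, (T ^ i).1 u = (∑ i ∈ Finset.range r, κ.1 ^ i) u := by
      rw [sum_app]
      refine Finset.sum_congr rfl fun i _ => ?_
      rw [h1, Units.val_pow_eq_pow_val]
    rw [h3]
    change ((κ.1 - 1) * ∑ i ∈ Finset.range r, κ.1 ^ i) u = 0
    rw [mul_geom_sum, ← Units.val_pow_eq_pow_val, hκr, Units.val_one, sub_self]
    rfl
  by_contra hne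
  apply hκ1
  have h3 := D.isF.eq_zero (D.K.sub_mem hκ D.K.one_mem) hne h2
  exact Units.ext (sub_eq_zero.mp h3)

theorem gz_comm : cm z (g * z * g⁻¹) = 1 := by
  obtain ⟨z', hz'⟩ : ∃ z', z' = g * z * g⁻¹ := ⟨_, rfl⟩
  rw [← hz']
  have hz'E : z' ∈ D.E := by rw [hz']; exact D.GE g hg z h.hz
  have hz'r : z' ^ r = 1 := by rw [hz', conj_pow, h.zr]; group
  by_contra hc1
  have hcK := cm_K h.hz hz'E
  have hcr : cm z z' ^ r = 1 := by
    rw [← cm_pow_left h.hz hz'E, h.zr]; unfold cm; group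
  have hrf : Fact r.Prime := ⟨h.hr⟩
  have hord : orderOf (cm z z') = r := orderOf_eq_prime hcr hc1
  obtain ⟨n, hn⟩ := D.isF.roots h.hr hcK h.wK hc1 hcr h.wr
  -- `y`
  have hz'n := D.E.pow_mem hz'E n
  obtain ⟨y, hy⟩ : ∃ y, y = (z' ^ n)⁻¹ * f := ⟨_, rfl⟩
  have hyE : y ∈ D.E := by rw [hy]; exact D.E.mul_mem (D.E.inv_mem hz'n) h.hf
  have hyr : y ^ r = 1 := by
    rw [hy]
    refine mul_pow_odd (D.E.inv_mem hz'n) h.hf h.odd ?_ h.fr
    rw [inv_pow, ← pow_mul, mul_comm, pow_mul, hz'r, one_pow, inv_one]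
  have hbz' : ∀ b ∈ D.E, b.1 v₀ = v₀ → cm b f = 1 → cm b z' = 1 := by
    intro b hb hbv hbf
    have hbv' := h.fix_v hbv hbf
    have h1 : (g⁻¹ * b * g).1 (v₀ + f.1 v₀) = v₀ + f.1 v₀ := by
      have := conj_fix (g := g⁻¹) (inv_fix hgv) hbv'
      rwa [inv_inv] at this
    have h2 : g⁻¹ * b * g ∈ D.E := by
      have := D.GE g⁻¹ (G.inv_mem hg) b hb
      rwa [inv_inv] at this
    have h3 := h.cm_fix h2 h.hz (h.stab_v h2 h1).1 h.zv
    have h4 := cm_conj g (g⁻¹ * b * g) z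
    rw [h3] at h4
    have h5 : g * (g⁻¹ * b * g) * g⁻¹ = b := by group
    rw [h5, ← hz'] at h4
    rw [← h4]; group
  have hyQ : y ∈ D.Q v₀ := by
    apply h.mem_Q₀ hyE
    · rw [hy, cm_mul_right h.hz (D.E.inv_mem hz'n) h.hf, cm_inv_right h.hz hz'n,
        cm_pow_right h.hz hz'E, ← hn, inv_mul_cancel]
    · intro b hb hbv hbf
      rw [hy, cm_mul_right hb (D.E.inv_mem hz'n) h.hf, cm_inv_right hb hz'n,
        cm_pow_right hb hz'E, hbz' b hb hbv hbf, hbf, one_pow, inv_one, one_mul]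
  obtain ⟨-, k, hk, hyk⟩ := B_of_pow h.mx hyQ h.hr hyr
  have hkr : k ^ r = 1 := by
    apply eq_one_of_fix h.mx.ne (D.isF.units.pow_mem (x := k) hk r)
    have : ∀ m : ℕ, (y ^ m).1 v₀ = (k ^ m).1 v₀ := by
      intro m
      induction m with
      | zero => rfl
      | succ m ih =>
        rw [pow_succ', au_mul_apply, ih, D.EK' hyE (D.isF.units.pow_mem (x := k) hk m), hyk,
          pow_succ, au_mul_apply]
    rw [← this, hyr]; rfl
  have hfv : f.1 v₀ = k.1 ((z' ^ n).1 v₀) := by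
    have h1 : f = z' ^ n * y := by rw [hy]; group
    rw [h1, au_mul_apply, hyk, D.EK' hz'n hk]
  -- the eigenvalue
  have hgK : ∀ {a : AU V}, a.1 ∈ D.K → (g * a * g⁻¹).1 ∈ D.K := fun {a} ha => D.GK g hg _ ha
  have hω'K := hgK h.wK
  obtain ⟨e, he0, her, hne⟩ : ∃ e : ℕ, 0 < e ∧ e < r ∧ cm z f ^ e ≠ g * cm z f * g⁻¹ := by
    by_cases h1 : cm z f ^ 1 = g * cm z f * g⁻¹
    · refine ⟨2, by norm_num, h.two_lt, fun h2 => ?_⟩
      have := h.wpow (i := 1) (j := 2) h.hr.one_lt h.two_lt (by rw [h1, h2])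
      omega
    · exact ⟨1, by norm_num, h.hr.one_lt, h1⟩
  obtain ⟨lam, hlam⟩ : ∃ lam, lam = cm z f ^ e := ⟨_, rfl⟩
  have hlamK : lam.1 ∈ D.K := by rw [hlam]; exact D.isF.units.pow_mem (x := cm z f) h.wK e
  have hlamr : lam ^ r = 1 := by rw [hlam, ← pow_mul, mul_comm, pow_mul, h.wr, one_pow]
  have hlam1 : lam ≠ 1 := by
    intro h1
    have := h.wpow (i := e) (j := 0) her h.hr.pos (by rw [← hlam, h1, pow_zero])
    omega
  have hliK : (lam⁻¹).1 ∈ D.K := D.isF.units.inv_mem (x := lam) hlamK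
  obtain ⟨T, hT⟩ : ∃ T, T = lam⁻¹ * z' := ⟨_, rfl⟩
  have hTE : T ∈ D.E := by rw [hT]; exact D.E.mul_mem (D.KE _ hliK) hz'E
  have hTK : ∀ a ∈ D.K, ∀ x, T.1 (a x) = a (T.1 x) := fun a ha x => D.EK' hTE ha x
  have hcomm1 : Commute lam⁻¹ z' := (D.EKu hz'E hliK).symm
  have hTr : T ^ r = 1 := by rw [hT, hcomm1.mul_pow, inv_pow, hlamr, hz'r, inv_one, one_mul]
  have hcT : cm z T = cm z z' := by
    rw [hT, cm_mul_right h.hz (D.KE _ hliK) hz'E, cm_K_right hliK h.hz, one_mul]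
  let P : V → V := fun x => ∑ i ∈ Finset.range r, (T ^ i).1 x
  have hPadd : ∀ x y, P (x + y) = P x + P y := by
    intro x y
    change ∑ i ∈ Finset.range r, (T ^ i).1 (x + y) = _
    simp only [map_add, Finset.sum_add_distrib]
    rfl
  have hPK : ∀ a ∈ D.K, ∀ x, P (a x) = a (P x) := by
    intro a ha x
    change ∑ i ∈ Finset.range r, (T ^ i).1 (a x) = a (∑ i ∈ Finset.range r, (T ^ i).1 x)
    rw [map_sum]
    exact Finset.sum_congr rfl fun i _ => D.EK' (D.E.pow_mem hTE i) ha x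
  have hPT : ∀ x, P (T.1 x) = P x := by
    intro x
    change ∑ i ∈ Finset.range r, (T ^ i).1 (T.1 x) = ∑ i ∈ Finset.range r, (T ^ i).1 x
    have h1 := Finset.sum_range_succ (fun i => (T ^ i).1 x) r
    have h2 := Finset.sum_range_succ' (fun i => (T ^ i).1 x) r
    rw [h2] at h1
    have h3 : (T ^ 0).1 x = (T ^ r).1 x := by rw [hTr, pow_zero]
    rw [h3] at h1
    have h4 := add_right_cancel h1
    rw [← h4]
    refine Finset.sum_congr rfl fun i _ => ?_
    rw [pow_succ, au_mul_apply]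
  have hPTn : ∀ m : ℕ, ∀ x, P ((T ^ m).1 x) = P x := by
    intro m
    induction m with
    | zero => intro x; rfl
    | succ m ih => intro x; rw [pow_succ, au_mul_apply, ih, hPT]
  -- images of the eigenvectors
  have hz'g : ∀ x, z'.1 (g.1 x) = g.1 (z.1 x) := by
    intro x
    rw [hz', au_mul_apply, au_mul_apply, au_inv_apply]
  have hP1 : P (g.1 v₀) = 0 := by
    refine h.geom_zero hTK hliK (fun h1 => hlam1 (inv_eq_one.mp h1)) (by rw [inv_pow, hlamr, inv_one]) ?_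
    rw [hT, au_mul_apply, hz'g, h.zv]
  have hgw : ∀ x, g.1 ((cm z f).1 x) = (g * cm z f * g⁻¹).1 (g.1 x) := by
    intro x
    rw [au_mul_apply, au_mul_apply, au_inv_apply]
  have hP2 : P (g.1 (f.1 v₀)) = 0 := by
    refine h.geom_zero hTK (κ := lam⁻¹ * (g * cm z f * g⁻¹)) (D.K.mul_mem hliK hω'K) ?_ ?_ ?_
    · intro h1
      apply hne
      rw [← hlam]
      exact (inv_mul_eq_one.mp h1)
    · have hcomm2 : Commute lam⁻¹ (g * cm z f * g⁻¹) := Units.ext (D.isF.comm _ hliK _ hω'K)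
      rw [hcomm2.mul_pow, inv_pow, hlamr, conj_pow, h.wr]; group
    · rw [hT, au_mul_apply, hz'g, h.z_apply₀ h.hf, hgw, au_mul_apply lam⁻¹ (g * cm z f * g⁻¹)]
  have hPv : P (v₀ + f.1 v₀) = 0 := by
    rw [← hgv, map_add, hPadd, hP1, hP2, add_zero]
  have hPf : P (f.1 v₀) = (k * lam ^ n).1 (P v₀) := by
    have h1 : z' ^ n = lam ^ n * T ^ n := by
      have hcomm3 : Commute lam T := (D.EKu hTE hlamK).symm
      rw [← hcomm3.mul_pow, hT]; group
    rw [hfv, hPK _ hk, h1, au_mul_apply (lam ^ n),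
      hPK _ (D.isF.units.pow_mem (x := lam) hlamK n), hPTn, au_mul_apply]
  have hPv₀ : P v₀ ≠ 0 := by
    intro h0
    have h1 := D.isF.eig_indep h.zK (s := Finset.range r) (lam := fun j => (cm z z' ^ j).1)
      (u := fun j => (T ^ j).1 v₀)
      (fun j _ => D.isF.units.pow_mem (x := cm z z') hcK j)
      (fun i hi j hj hij => by
        exact pow_injOn_Iio_orderOf (by rw [hord]; exact Finset.mem_range.mp hi)
          (by rw [hord]; exact Finset.mem_range.mp hj) (Units.ext hij))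
      (fun j _ => by
        change z.1 ((T ^ j).1 v₀) = (cm z z' ^ j).1 ((T ^ j).1 v₀)
        rw [h.z_apply₀ (D.E.pow_mem hTE j), cm_pow_right h.hz hTE, hcT]) h0
    exact h.mx.ne (h1 0 (Finset.mem_range.mpr h.hr.pos))
  have hk'K : (k * lam ^ n).1 ∈ D.K :=
    D.K.mul_mem hk (D.isF.units.pow_mem (x := lam) hlamK n)
  have h2 : (1 + (k * lam ^ n).1) (P v₀) = 0 := by
    rw [hPadd, hPf] at hPv
    exact hPv
  have h3 := D.isF.eq_zero (D.K.add_mem D.K.one_mem hk'K) hPv₀ h2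
  have h4 : k * lam ^ n = -1 := Units.ext (eq_neg_of_add_eq_zero_right h3)
  have h5 : (k * lam ^ n) ^ r = 1 := by
    have hcomm4 : Commute k (lam ^ n) :=
      Units.ext (D.isF.comm _ hk _ (D.isF.units.pow_mem (x := lam) hlamK n))
    rw [hcomm4.mul_pow, hkr, ← pow_mul, mul_comm, pow_mul, hlamr, one_pow, one_mul]
  rw [h4, Odd.neg_one_pow h.odd] at h5
  exact h.two h5.symm

end Dat.OS

end Cfsg.Agent.H578
end

-- part: H578/OddIV
section
/-!
# Primitive coprime linear groups, `E / K` not a 2-group: the base (helper578)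
-/

set_option autoImplicit false
set_option linter.unusedSectionVars false

universe u

namespace Cfsg.Agent.H578

variable {V : Type u} [AddCommGroup V]

theorem pow_fix {x : AU V} {u : V} (hx : x.1 u = u) (n : ℕ) : (x ^ n).1 u = u := by
  induction n with
  | zero => rfl
  | succ n ih => rw [pow_succ, au_mul_apply, hx, ih]

namespace Dat

variable {G : Subgroup (AU V)} {D : Dat G} [Nontrivial V] [Finite V]

theorem pow_eig {x k : AU V} (hx : x ∈ D.E) (hk : k.1 ∈ D.K) {u : V} (h : x.1 u = k.1 u) (n : ℕ) :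
    (x ^ n).1 u = (k ^ n).1 u := by
  induction n with
  | zero => rfl
  | succ n ih =>
    rw [pow_succ, au_mul_apply, h, D.EK' (D.E.pow_mem hx n) hk, ih, pow_succ', au_mul_apply]

namespace OS

variable {r : ℕ} {v₀ : V} {z f : AU V} (h : D.OS r v₀ z f)
include h

/-- comparison of the components of two sums of three eigenvectors -/
theorem comps3 {e₁ e₂ e₃ e₁' e₂' e₃' : ℕ} (h₁ : e₁ < r) (h₂ : e₂ < r) (h₃ : e₃ < r)
    (h₁' : e₁' < r) (h₂' : e₂' < r) (h₃' : e₃' < r) {A B C A' B' C' : V}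
    (hA : z.1 A = (cm z f ^ e₁).1 A) (hB : z.1 B = (cm z f ^ e₂).1 B)
    (hC : z.1 C = (cm z f ^ e₃).1 C) (hA' : z.1 A' = (cm z f ^ e₁').1 A')
    (hB' : z.1 B' = (cm z f ^ e₂').1 B') (hC' : z.1 C' = (cm z f ^ e₃').1 C')
    (hsum : A + B + C = A' + B' + C') (j : ℕ) (hj : j < r) :
    (if j = e₁ then A else 0) + (if j = e₂ then B else 0) + (if j = e₃ then C else 0) =
    (if j = e₁' then A' else 0) + (if j = e₂' then B' else 0) + (if j = e₃' then C' else 0) := by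
  have hite : ∀ (e : ℕ) (X : V), z.1 X = (cm z f ^ e).1 X → ∀ j,
      z.1 (if j = e then X else 0) = (cm z f ^ j).1 (if j = e then X else 0) := by
    intro e X hX j
    by_cases hje : j = e
    · rw [if_pos hje, hje, hX]
    · rw [if_neg hje, map_zero, map_zero]
  apply h.comps (u := fun j => (if j = e₁ then A else 0) + (if j = e₂ then B else 0) +
      (if j = e₃ then C else 0)) (u' := fun j => (if j = e₁' then A' else 0) +
      (if j = e₂' then B' else 0) + (if j = e₃' then C' else 0)) _ _ _ j hj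
  · intro j _
    rw [map_add, map_add, hite _ _ hA, hite _ _ hB, hite _ _ hC, ← map_add, ← map_add]
  · intro j _
    rw [map_add, map_add, hite _ _ hA', hite _ _ hB', hite _ _ hC', ← map_add, ← map_add]
  · simp only [Finset.sum_add_distrib, Finset.sum_ite_eq', Finset.mem_range, h₁, h₂, h₃, h₁', h₂',
      h₃', if_true]
    exact hsum

variable {g : AU V} (hg : g ∈ G) (hgv : g.1 (v₀ + f.1 v₀) = v₀ + f.1 v₀)
include hg hgv

theorem conj_z_Q : g * z * g⁻¹ ∈ D.Q v₀ := by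
  refine h.mem_Q₀ (D.GE g hg z h.hz) (h.gz_comm hg hgv) fun b hb hbv hbf => ?_
  have hbv' := h.fix_v hbv hbf
  have h1 : (g⁻¹ * b * g).1 (v₀ + f.1 v₀) = v₀ + f.1 v₀ := by
    have := conj_fix (g := g⁻¹) (inv_fix hgv) hbv'
    rwa [inv_inv] at this
  have h2 : g⁻¹ * b * g ∈ D.E := by
    have := D.GE g⁻¹ (G.inv_mem hg) b hb
    rwa [inv_inv] at this
  have h3 := h.cm_fix h2 h.hz (h.stab_v h2 h1).1 h.zv
  have h4 := cm_conj g (g⁻¹ * b * g) z
  rw [h3] at h4
  have h5 : g * (g⁻¹ * b * g) * g⁻¹ = b := by group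
  rw [h5] at h4
  rw [← h4]; group

theorem eig_map : ∃ a : AU V, a.1 ∈ D.K ∧ ∃ l : ℕ, ¬ (r ∣ l) ∧ ∀ u ∈ D.V0 (v₀ + f.1 v₀),
    ∀ κ : AU V, κ.1 ∈ D.K → z.1 u = κ.1 u → z.1 (g.1 u) = (a * (g * κ * g⁻¹) ^ l).1 (g.1 u) := by
  have hz'E := D.GE g hg z h.hz
  have hz'r : (g * z * g⁻¹) ^ r = 1 := by rw [conj_pow, h.zr]; group
  obtain ⟨-, k, hk, hkv⟩ := B_of_pow h.mx (h.conj_z_Q hg hgv) h.hr hz'r
  have hki : (k⁻¹).1 ∈ D.K := D.isF.units.inv_mem (x := k) hk
  obtain ⟨m, b, hb, hkb, hbv, hbf⟩ := h.dec (a := k⁻¹ * (g * z * g⁻¹))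
    (D.E.mul_mem (D.KE _ hki) hz'E) (by rw [au_mul_apply, hkv, au_inv_apply])
  have hbV : ∀ u ∈ D.V0 (v₀ + f.1 v₀), b.1 u = u := fun u hu => hu b hb (h.fix_v hbv hbf)
  have hz'z : ∀ u ∈ D.V0 (v₀ + f.1 v₀), (k⁻¹ * (g * z * g⁻¹)).1 u = (z ^ m).1 u := by
    intro u hu
    rw [hkb, au_mul_apply, hbV u hu]
  have hgV : ∀ u ∈ D.V0 (v₀ + f.1 v₀), g.1 u ∈ D.V0 (v₀ + f.1 v₀) := fun u hu => g_V0 hg hgv hu
  have hgz : ∀ u ∈ D.V0 (v₀ + f.1 v₀), ∀ κ : AU V, κ.1 ∈ D.K → z.1 u = κ.1 u →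
      (z ^ m).1 (g.1 u) = (k⁻¹ * (g * κ * g⁻¹)).1 (g.1 u) := by
    intro u hu κ hκ hzu
    have e1 : (g * z * g⁻¹).1 (g.1 u) = g.1 (z.1 u) := by
      rw [au_mul_apply, au_mul_apply, au_inv_apply]
    have e2 : (g * κ * g⁻¹).1 (g.1 u) = g.1 (κ.1 u) := by
      rw [au_mul_apply, au_mul_apply, au_inv_apply]
    rw [← hz'z _ (hgV u hu), au_mul_apply k⁻¹ (g * z * g⁻¹), au_mul_apply k⁻¹ (g * κ * g⁻¹), e1, e2,
      hzu]
  have hv₀V := h.v₀_V0
  have hfv₀V : f.1 v₀ ∈ D.V0 (v₀ + f.1 v₀) := D.Q_V0 h.f_Q hv₀V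
  have hgne : ∀ {u : V}, u ≠ 0 → g.1 u ≠ 0 := fun {u} hu h0 => hu (au_injective g (by
    rw [h0, map_zero]))
  have hfne : f.1 v₀ ≠ 0 := fun h0 => h.mx.ne (au_injective f (by rw [h0, map_zero]))
  have hrm : ¬ r ∣ m := by
    rintro ⟨t, rfl⟩
    have hz1 : z ^ (r * t) = 1 := by rw [pow_mul, h.zr, one_pow]
    rw [hz1] at hgz
    have a1 := hgz v₀ hv₀V 1 D.K.one_mem (by rw [h.zv]; rfl)
    have a2 := hgz (f.1 v₀) hfv₀V (cm z f) h.wK (h.z_apply₀ h.hf)
    have hone : (g * (1 : AU V) * g⁻¹) = 1 := by group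
    rw [hone, mul_one] at a1
    have b1 : k⁻¹ = 1 := eq_one_of_fix (hgne h.mx.ne) hki a1.symm
    have b2 : k⁻¹ * (g * cm z f * g⁻¹) = 1 :=
      eq_one_of_fix (hgne hfne) (D.K.mul_mem hki (D.GK g hg _ h.wK)) a2.symm
    rw [b1, one_mul] at b2
    apply h.zf
    have : cm z f = g⁻¹ * (g * cm z f * g⁻¹) * g := by group
    rw [this, b2]; group
  have hcop : Nat.Coprime m r := (Nat.Prime.coprime_iff_not_dvd h.hr).mpr hrm |>.symm
  obtain ⟨l, -, hl⟩ := Nat.exists_mul_mod_eq_one_of_coprime hcop h.hr.one_lt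
  have hzl : (z ^ m) ^ l = z := by
    rw [← pow_mul, ← Nat.div_add_mod (m * l) r, hl, pow_add, pow_mul, h.zr, one_pow, one_mul,
      pow_one]
  refine ⟨(k⁻¹) ^ l, D.isF.units.pow_mem (x := k⁻¹) hki l, l, ?_, fun u hu κ hκ hzu => ?_⟩
  · rintro ⟨t, rfl⟩
    have : m * (r * t) % r = 0 := by
      rw [show m * (r * t) = r * (m * t) by ring]
      exact Nat.mul_mod_right r _
    rw [this] at hl
    exact absurd hl (by norm_num)
  · have hκ' := D.GK g hg _ hκ
    have e1 := pow_eig (D.E.pow_mem h.hz m) (D.K.mul_mem hki hκ') (hgz u hu κ hκ hzu) l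
    rw [hzl] at e1
    have hcomm : Commute k⁻¹ (g * κ * g⁻¹) := Units.ext (D.isF.comm _ hki _ hκ')
    rw [e1, hcomm.mul_pow]

variable {i : AU V} (hF : D.IsFrame v₀ i) {θ : AU V} (hθ : θ.1 ∈ D.K)
  (hgen : ∀ k : AU V, k.1 ∈ D.K → ∃ n : ℕ, k = θ ^ n)
  (hgw : g.1 (θ.1 v₀ + f.1 (i.1 v₀) + f.1 (f.1 v₀)) = θ.1 v₀ + f.1 (i.1 v₀) + f.1 (f.1 v₀))
include hF hθ hgen hgw

theorem straight : g.1 v₀ = v₀ ∧ g.1 (θ.1 v₀) = θ.1 v₀ ∧ g.1 (f.1 v₀) = f.1 v₀ ∧
    g.1 (f.1 (i.1 v₀)) = f.1 (i.1 v₀) ∧ g.1 (f.1 (f.1 v₀)) = f.1 (f.1 v₀) := by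
  obtain ⟨a, ha, l, hl, hmap⟩ := h.eig_map hg hgv
  have hv₀V := h.v₀_V0
  have hV0V0 : ∀ {u : V}, u ∈ D.V0 v₀ → u ∈ D.V0 (v₀ + f.1 v₀) := fun {u} hu => h.V0_le hu
  have hθV := hV0V0 (D.K_V0 hθ (D.self_mem_V0 v₀))
  have hiV := hV0V0 (D.Q_V0 hF.iQ (D.self_mem_V0 v₀))
  have hfv₀V : f.1 v₀ ∈ D.V0 (v₀ + f.1 v₀) := D.Q_V0 h.f_Q hv₀V
  have hffv₀V : f.1 (f.1 v₀) ∈ D.V0 (v₀ + f.1 v₀) := D.Q_V0 h.f_Q hfv₀V
  have hfiV : f.1 (i.1 v₀) ∈ D.V0 (v₀ + f.1 v₀) := D.Q_V0 h.f_Q hiV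
  have hiE := hF.iQ.1
  have hiz : i * z = z * i := hF.iQ.2 z h.hz h.zv
  have hziv : z.1 (i.1 v₀) = i.1 v₀ := by
    rw [← au_mul_apply, ← hiz, au_mul_apply, h.zv]
  -- eigenvalues of `z`
  have ez1 : z.1 v₀ = (1 : AU V).1 v₀ := h.zv
  have ez2 : z.1 (θ.1 v₀) = (1 : AU V).1 (θ.1 v₀) := by rw [h.zK _ hθ, h.zv]; rfl
  have ez3 : z.1 (f.1 v₀) = (cm z f).1 (f.1 v₀) := h.z_apply₀ h.hf
  have ez4 : z.1 (f.1 (i.1 v₀)) = (cm z f).1 (f.1 (i.1 v₀)) := by
    have := h.z_apply h.hf (u := i.1 v₀) (k := 1) D.K.one_mem (by rw [hziv]; rfl)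
    rwa [mul_one] at this
  have ez5 : z.1 (f.1 (f.1 v₀)) = (cm z f ^ 2).1 (f.1 (f.1 v₀)) := by
    rw [pow_two]
    exact h.z_apply h.hf h.wK ez3
  obtain ⟨c, hc⟩ : ∃ c, c = (g * cm z f * g⁻¹) ^ l := ⟨_, rfl⟩
  have hw'K : (g * cm z f * g⁻¹).1 ∈ D.K := D.GK g hg _ h.wK
  have hcK : c.1 ∈ D.K := by rw [hc]; exact D.isF.units.pow_mem (x := g * cm z f * g⁻¹) hw'K l
  have hone : (g * (1 : AU V) * g⁻¹) = 1 := by group
  -- eigenvalues on the images
  have g1 := hmap _ hv₀V 1 D.K.one_mem ez1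
  have g2 := hmap _ hθV 1 D.K.one_mem ez2
  have g3 := hmap _ hfv₀V (cm z f) h.wK ez3
  have g4 := hmap _ hfiV (cm z f) h.wK ez4
  have g5 := hmap _ hffv₀V (cm z f ^ 2) (D.isF.units.pow_mem (x := cm z f) h.wK 2) ez5
  rw [hone, one_pow, mul_one] at g1 g2
  rw [← hc] at g3 g4
  have hc2 : (g * cm z f ^ 2 * g⁻¹) ^ l = c ^ 2 := by
    rw [hc, ← conj_pow, ← pow_mul, ← pow_mul, mul_comm]
  rw [hc2] at g5
  have hc1 : c ≠ 1 := by
    intro h1
    rw [hc, conj_pow] at h1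
    have h2 : cm z f ^ l = 1 := by
      have : cm z f ^ l = g⁻¹ * (g * cm z f ^ l * g⁻¹) * g := by group
      rw [this, h1]; group
    have hrf : Fact r.Prime := ⟨h.hr⟩
    have h3 : orderOf (cm z f) = r := orderOf_eq_prime h.wr h.zf
    have h4 := orderOf_dvd_of_pow_eq_one h2
    rw [h3] at h4
    exact hl h4
  have hfne : f.1 v₀ ≠ 0 := fun h0 => h.mx.ne (au_injective f (by rw [h0, map_zero]))
  have hwne : (1 : AU V) ≠ cm z f := fun h1 => h.zf h1.symm
  have hane : a ≠ a * c := fun h1 => hc1 (mul_eq_left.mp h1.symm)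
  have hcomp := D.isF.two_eig h.zK (l := 1) (m := cm z f) (l' := a) (m' := a * c) D.K.one_mem h.wK
    ha (D.K.mul_mem ha hcK) ez1 ez3 g1 g3 hwne hane h.mx.ne hfne (by rw [← map_add, hgv])
  have hr2 := h.two_lt
  rcases hcomp with ⟨p1, p2, p3, p4⟩ | ⟨p1, p2, p3, p4⟩
  · rw [← p3, one_mul] at p4
    rw [← p3] at g2 g4 g5
    rw [one_mul, ← p4] at g4 g5
    have key := h.comps3 (e₁ := 0) (e₂ := 1) (e₃ := 2) (e₁' := 0) (e₂' := 1) (e₃' := 2)
      h.hr.pos h.hr.one_lt h.two_lt h.hr.pos h.hr.one_lt h.two_lt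
      (A := θ.1 v₀) (B := f.1 (i.1 v₀)) (C := f.1 (f.1 v₀))
      (A' := g.1 (θ.1 v₀)) (B' := g.1 (f.1 (i.1 v₀))) (C' := g.1 (f.1 (f.1 v₀)))
      (by rw [pow_zero]; exact ez2) (by rw [pow_one]; exact ez4) ez5
      (by rw [pow_zero]; exact g2) (by rw [pow_one]; exact g4) g5
      (by rw [← map_add, ← map_add, hgw])
    have k0 := key 0 h.hr.pos
    have k1 := key 1 h.hr.one_lt
    have k2 := key 2 h.two_lt
    norm_num at k0 k1 k2
    exact ⟨p1.symm, k0.symm, p2.symm, k1.symm, k2.symm⟩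
  · exfalso
    have hwinv : c = cm z f ^ (r - 1) := by
      have h1 : c = a⁻¹ := by
        rw [eq_comm, inv_eq_iff_mul_eq_one]; exact p3.symm
      rw [h1, ← p4, inv_eq_iff_mul_eq_one, ← pow_succ']
      have : r - 1 + 1 = r := by omega
      rw [this, h.wr]
    have hac2 : a * c ^ 2 = cm z f ^ (r - 1) := by
      rw [pow_two, ← mul_assoc, ← p3, one_mul, hwinv]
    rw [hac2] at g5
    rw [← p3] at g4
    rw [← p4] at g2
    have key := h.comps3 (e₁ := 0) (e₂ := 1) (e₃ := 2) (e₁' := 1) (e₂' := 0) (e₃' := r - 1)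
      h.hr.pos h.hr.one_lt h.two_lt h.hr.one_lt h.hr.pos (by omega)
      (A := θ.1 v₀) (B := f.1 (i.1 v₀)) (C := f.1 (f.1 v₀))
      (A' := g.1 (θ.1 v₀)) (B' := g.1 (f.1 (i.1 v₀))) (C' := g.1 (f.1 (f.1 v₀)))
      (by rw [pow_zero]; exact ez2) (by rw [pow_one]; exact ez4) ez5
      (by rw [pow_one]; exact g2) (by rw [pow_zero]; exact g4) g5
      (by rw [← map_add, ← map_add, hgw])
    have k1 := key 1 h.hr.one_lt
    have hne : ¬ (1 = r - 1) := by omega
    norm_num [hne] at k1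
    have hθ'K : (g * θ * g⁻¹).1 ∈ D.K := D.GK g hg _ hθ
    have hgθ : g.1 (θ.1 v₀) = f.1 ((g * θ * g⁻¹).1 v₀) := by
      have h1 : g.1 (θ.1 v₀) = (g * θ * g⁻¹).1 (g.1 v₀) := by
        rw [au_mul_apply, au_mul_apply, au_inv_apply]
      rw [h1, ← p2, ← D.EK' h.hf hθ'K]
    rw [hgθ] at k1
    have k2 := au_injective f k1
    rcases hF.dich with h1 | ⟨h1, h2⟩
    · rw [h1] at k2
      have h3 : g * θ * g⁻¹ = 1 := eq_one_of_fix h.mx.ne hθ'K k2.symm
      have h4 : θ = 1 := by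
        have : θ = g⁻¹ * (g * θ * g⁻¹) * g := by group
        rw [this, h3]; group
      obtain ⟨n, hn⟩ := hgen (-1) (D.K.neg_mem D.K.one_mem)
      rw [h4, one_pow] at hn
      exact h.two hn.symm
    · have h3 : i.1 (i.1 v₀) = -v₀ := by rw [← au_mul_apply, h1]; rfl
      rw [k2, D.EK' hiE hθ'K, k2] at h3
      have h4 : ((g * θ * g⁻¹).1 * (g * θ * g⁻¹).1) v₀ = (-1 : AddMonoid.End V) v₀ := h3
      exact h2 _ hθ'K (D.isF.eq_of_apply (D.K.mul_mem hθ'K hθ'K) (D.K.neg_mem D.K.one_mem)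
        h.mx.ne h4)

theorem fix_all : (∀ a ∈ D.K, ∀ x, g.1 (a x) = a (g.1 x)) ∧
    (∀ x ∈ D.Q (v₀ + f.1 v₀), g.1 (x.1 v₀) = x.1 v₀) := by
  obtain ⟨g1, g2, g3, g4, g5⟩ := h.straight hg hgv hF hθ hgen hgw
  have hgK := comm_K_of_gen h.mx.ne hg g1 hθ hgen g2
  refine ⟨hgK, ?_⟩
  have hv₀V := h.v₀_V0
  have hx₁E : df g f ∈ D.E := D.E.mul_mem (D.E.inv_mem h.hf) (D.GE g hg f h.hf)
  have hx₁v : (df g f).1 v₀ = v₀ := by
    have e1 := df_apply g f v₀
    rw [g1, g3] at e1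
    exact (au_injective f e1).symm
  have hx₁fv : (df g f).1 (f.1 v₀) = f.1 v₀ := by
    have e1 := df_apply g f (f.1 v₀)
    rw [g3, g5] at e1
    exact (au_injective f e1).symm
  have hx₁ : (df g f).1 (v₀ + f.1 v₀) = v₀ + f.1 v₀ := by rw [map_add, hx₁v, hx₁fv]
  have hgf : ∀ u ∈ D.V0 (v₀ + f.1 v₀), g.1 (f.1 u) = f.1 (g.1 u) := by
    intro u hu
    rw [df_apply, g_V0 hg hgv hu (df g f) hx₁E hx₁]
  have hiV := h.V0_le (D.Q_V0 hF.iQ (D.self_mem_V0 v₀))
  have hgi : g.1 (i.1 v₀) = i.1 v₀ := by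
    rw [hgf _ hiV] at g4
    exact au_injective f g4
  have hgq : ∀ q ∈ D.Q v₀, g.1 (q.1 v₀) = q.1 v₀ := by
    intro q hq
    obtain ⟨k₁, hk₁, k₂, hk₂, e⟩ := hF.span q hq
    rw [e, map_add, hgK _ hk₁, hgK _ hk₂, g1, hgi]
  have hgfj : ∀ j : ℕ, ∀ u ∈ D.V0 (v₀ + f.1 v₀), g.1 ((f ^ j).1 u) = (f ^ j).1 (g.1 u) := by
    intro j
    induction j with
    | zero => intro u _; rfl
    | succ j ih =>
      intro u hu
      rw [pow_succ, au_mul_apply, ih _ (D.Q_V0 h.f_Q hu), hgf u hu, au_mul_apply]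
  intro x hx
  obtain ⟨j, q, hq, rfl⟩ := h.dec_Q hx
  rw [au_mul_apply, hgfj j _ (h.V0_le (D.Q_V0 hq (D.self_mem_V0 v₀))), hgq q hq]

end OS

end Dat

end Cfsg.Agent.H578
end

-- part: H578/OddV
section
/-!
# Primitive coprime linear groups, `E / K` not a 2-group: the result (helper578)
-/

set_option autoImplicit false
set_option linter.unusedSectionVars false

universe u

namespace Cfsg.Agent.H578

variable {V : Type u} [AddCommGroup V]

theorem orbit_sum_fix {t : AU V} {r : ℕ} (ht : t ^ r = 1) (u : V) :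
    t.1 (∑ j ∈ Finset.range r, (t ^ j).1 u) = ∑ j ∈ Finset.range r, (t ^ j).1 u := by
  rw [map_sum]
  have h1 := Finset.sum_range_succ (fun i => (t ^ i).1 u) r
  have h2 := Finset.sum_range_succ' (fun i => (t ^ i).1 u) r
  rw [h2] at h1
  have h3 : (t ^ 0).1 u = (t ^ r).1 u := by rw [ht, pow_zero]
  rw [h3] at h1
  have h4 := add_right_cancel h1
  rw [← h4]
  refine Finset.sum_congr rfl fun i _ => ?_
  rw [pow_succ', au_mul_apply]

namespace Dat

variable {G : Subgroup (AU V)} {D : Dat G}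

variable (D) in
/-- `u` is an eigenvector of `t` -/
def Eig (t : AU V) (u : V) : Prop := ∃ κ : AU V, κ.1 ∈ D.K ∧ t.1 u = κ.1 u

theorem Eig.of_fix {x t : AU V} (hx : x ∈ D.E) (ht : t ∈ D.E) {c d : V} (hc : t.1 c = c)
    (hcd : x.1 c = d) : D.Eig t d := by
  refine ⟨cm t x, cm_K ht hx, ?_⟩
  rw [← hcd, ← au_mul_apply, cm_mul, au_mul_apply, au_mul_apply, hc]

variable [Nontrivial V] [Finite V]

namespace OS

variable {r : ℕ} {v₀ : V} {z f : AU V} (h : D.OS r v₀ z f)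
include h

theorem not_eig {u : ℕ → V} (hu : ∀ j < r, z.1 (u j) = (cm z f ^ j).1 (u j)) (h0 : u 0 ≠ 0)
    (h1 : u 1 ≠ 0) : ¬ D.Eig z (∑ j ∈ Finset.range r, u j) := by
  rintro ⟨κ, hκ, e⟩
  rw [map_sum, map_sum] at e
  have key := h.comps (u := fun j => z.1 (u j)) (u' := fun j => κ.1 (u j))
    (fun j hj => by
      rw [hu j hj, h.zK _ (D.isF.units.pow_mem (x := cm z f) h.wK j), hu j hj])
    (fun j hj => by
      rw [h.zK _ hκ, hu j hj]
      exact DFunLike.congr_fun (D.isF.comm _ hκ _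
        (D.isF.units.pow_mem (x := cm z f) h.wK j)) (u j)) e
  have k0 := key 0 h.hr.pos
  have k1 := key 1 h.hr.one_lt
  rw [hu 0 h.hr.pos, pow_zero] at k0
  rw [hu 1 h.hr.one_lt, pow_one] at k1
  have e0 : (1 : AU V) = κ := Units.ext (D.isF.eq_of_apply D.K.one_mem hκ h0 k0)
  have e1 : cm z f = κ := Units.ext (D.isF.eq_of_apply h.wK hκ h1 k1)
  exact h.zf (e1.trans e0.symm)

theorem not_eig_v₀ {t : AU V} (ht : t ∈ D.E) (htz : cm z t = cm z f) : ¬ D.Eig t v₀ := by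
  rintro ⟨κ, hκ, e⟩
  have e1 := h.z_apply₀ ht
  rw [htz, e, h.zK _ hκ, h.zv] at e1
  exact h.zf (eq_one_of_fix (fun h0 => h.mx.ne (au_injective κ (by rw [h0, map_zero]))) h.wK
    e1.symm)

theorem not_eig_v {t : AU V} (ht : t ∈ D.E) (htz : cm z t = cm z f) :
    ¬ D.Eig t (v₀ + f.1 v₀) := by
  rintro ⟨κ, hκ, e⟩
  rw [map_add, map_add] at e
  have hz0 : ∀ j : ℕ, z.1 (0 : V) = (cm z f ^ j).1 0 := fun j => by rw [map_zero, map_zero]
  have e1 := h.z_apply₀ ht
  have e2 := h.z_apply ht h.wK (h.z_apply₀ h.hf)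
  rw [htz] at e1 e2
  have key := h.comps3 (e₁ := 1) (e₂ := 2) (e₃ := 0) (e₁' := 0) (e₂' := 1) (e₃' := 1)
    h.hr.one_lt h.two_lt h.hr.pos h.hr.pos h.hr.one_lt h.hr.one_lt
    (A := t.1 v₀) (B := t.1 (f.1 v₀)) (C := 0) (A' := κ.1 v₀) (B' := κ.1 (f.1 v₀)) (C' := 0)
    (by rw [pow_one]; exact e1) (by rw [pow_two]; exact e2) (hz0 0)
    (by rw [h.zK _ hκ, h.zv, pow_zero]; rfl)
    (by
      rw [h.zK _ hκ, h.z_apply₀ h.hf, pow_one]
      exact DFunLike.congr_fun (D.isF.comm _ hκ _ h.wK) _)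
    (hz0 1) (by rw [e]) 0 h.hr.pos
  norm_num at key
  exact h.mx.ne (au_injective κ (by rw [map_zero]; exact key.symm))

/-- **the result in the odd case** -/
theorem base2 {i : AU V} (hF : D.IsFrame v₀ i) : HasBase (Fin 2) G := by
  obtain ⟨θ, hθ, hgen⟩ := D.isF.gen
  have hfne : ∀ {x : AU V} {u : V}, u ≠ 0 → x.1 u ≠ 0 := fun {x u} hu h0 =>
    hu (au_injective x (by rw [h0, map_zero]))
  have hfzE : f * z ∈ D.E := D.E.mul_mem h.hf h.hz
  have hcfz : cm z (f * z) = cm z f := by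
    rw [cm_mul_right h.hz h.hf h.hz]
    have : cm z z = 1 := by unfold cm; group
    rw [this, mul_one]
  have hfzr : (f * z) ^ r = 1 := mul_pow_odd h.hf h.hz h.odd h.fr h.zr
  have hfzQ : f * z ∈ D.Q (v₀ + f.1 v₀) := (D.Q _).mul_mem h.f_Q h.z_Q
  have hv₀V := h.v₀_V0
  have hsumV : ∀ t ∈ D.Q (v₀ + f.1 v₀),
      ∑ j ∈ Finset.range r, (t ^ j).1 v₀ ∈ D.V0 (v₀ + f.1 v₀) := fun t ht =>
    (D.V0 _).sum_mem fun j _ => D.Q_V0 ((D.Q _).pow_mem ht j) hv₀V
  have hsumz : ∀ t ∈ D.E, cm z t = cm z f → ∀ j < r,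
      z.1 ((t ^ j).1 v₀) = (cm z f ^ j).1 ((t ^ j).1 v₀) := by
    intro t ht htz j _
    rw [h.z_apply₀ (D.E.pow_mem ht j), cm_pow_right h.hz ht, htz]
  have hsum_ne : ∀ t ∈ D.E, cm z t = cm z f → ¬ D.Eig z (∑ j ∈ Finset.range r, (t ^ j).1 v₀) :=
    fun t ht htz => h.not_eig (u := fun j => (t ^ j).1 v₀) (hsumz t ht htz)
      (hfne h.mx.ne) (hfne h.mx.ne)
  have hEz : ∀ u : V, u = 0 → D.Eig z u := by
    rintro u rfl
    exact ⟨1, D.K.one_mem, by rw [map_zero, map_zero]⟩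
  -- `v` is not an eigenvector of `z`
  have hvz : ¬ D.Eig z (v₀ + f.1 v₀) := by
    have h1 := h.not_eig (u := fun j => (if j = 0 then v₀ else 0) + (if j = 1 then f.1 v₀ else 0))
      (fun j _ => by
        rw [map_add, map_add]
        congr 1
        · by_cases hj : j = 0
          · rw [if_pos hj, hj, h.zv, pow_zero]; rfl
          · rw [if_neg hj, map_zero, map_zero]
        · by_cases hj : j = 1
          · rw [if_pos hj, hj, pow_one]; exact h.z_apply₀ h.hf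
          · rw [if_neg hj, map_zero, map_zero])
      (by norm_num; exact h.mx.ne) (by norm_num; exact hfne h.mx.ne)
    simp only [Finset.sum_add_distrib, Finset.sum_ite_eq', Finset.mem_range, h.hr.pos,
      h.hr.one_lt, if_true] at h1
    exact h1
  obtain ⟨b₂, hb₂⟩ : ∃ b, b = ∑ j ∈ Finset.range r, (f ^ j).1 v₀ := ⟨_, rfl⟩
  obtain ⟨b₃, hb₃⟩ : ∃ b, b = ∑ j ∈ Finset.range r, ((f * z) ^ j).1 v₀ := ⟨_, rfl⟩
  have hfb₂ : f.1 b₂ = b₂ := by rw [hb₂]; exact orbit_sum_fix h.fr v₀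
  have hfb₃ : (f * z).1 b₃ = b₃ := by rw [hb₃]; exact orbit_sum_fix hfzr v₀
  have hz₂ : ¬ D.Eig z b₂ := by rw [hb₂]; exact hsum_ne f h.hf rfl
  have hz₃ : ¬ D.Eig z b₃ := by rw [hb₃]; exact hsum_ne _ hfzE hcfz
  have h32 : ¬ D.Eig (f * z) b₂ := by
    rintro ⟨κ, hκ, e⟩
    apply hz₂
    refine ⟨cm z f * κ, D.K.mul_mem h.wK hκ, ?_⟩
    have e1 : z.1 (f.1 b₂) = (cm z f).1 ((f * z).1 b₂) := by
      rw [← au_mul_apply, ← au_mul_apply, ← cm_mul]
    rw [hfb₂, e] at e1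
    rw [e1, au_mul_apply]
  have h23 : ¬ D.Eig f b₃ := by
    rintro ⟨κ, hκ, e⟩
    apply hz₃
    refine ⟨κ⁻¹, D.isF.units.inv_mem (x := κ) hκ, ?_⟩
    apply au_injective f
    rw [← au_mul_apply f z, hfb₃, D.EK' h.hf (D.isF.units.inv_mem (x := κ) hκ), e, au_inv_apply]
  obtain ⟨t, ht⟩ : ∃ t : Fin 4 → AU V, t = ![1, z, f, f * z] := ⟨_, rfl⟩
  obtain ⟨b, hb⟩ : ∃ b : Fin 4 → V, b = ![v₀ + f.1 v₀, v₀, b₂, b₃] := ⟨_, rfl⟩
  have tE : ∀ c, t c ∈ D.E := by
    intro c; rw [ht]; fin_cases c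
    · exact D.E.one_mem
    · exact h.hz
    · exact h.hf
    · exact hfzE
  have tfix : ∀ c, (t c).1 (b c) = b c := by
    intro c; rw [ht, hb]; fin_cases c
    · rfl
    · exact h.zv
    · exact hfb₂
    · exact hfb₃
  have tne : ∀ c d, c ≠ 0 → c ≠ d → ¬ D.Eig (t c) (b d) := by
    intro c d hc hcd
    rw [ht, hb]
    fin_cases c <;> fin_cases d <;>
      first
        | exact absurd rfl hc
        | exact absurd rfl hcd
        | exact hvz
        | exact hz₂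
        | exact hz₃
        | exact h.not_eig_v h.hf rfl
        | exact h.not_eig_v₀ h.hf rfl
        | exact h23
        | exact h.not_eig_v hfzE hcfz
        | exact h.not_eig_v₀ hfzE hcfz
        | exact h32
  have hw₀V : θ.1 v₀ + f.1 (i.1 v₀) + f.1 (f.1 v₀) ∈ D.V0 (v₀ + f.1 v₀) := by
    refine (D.V0 _).add_mem ((D.V0 _).add_mem ?_ ?_) ?_
    · exact D.K_V0 hθ hv₀V
    · exact D.Q_V0 h.f_Q (h.V0_le (D.Q_V0 hF.iQ (D.self_mem_V0 v₀)))
    · exact D.Q_V0 h.f_Q (D.Q_V0 h.f_Q hv₀V)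
  have hall := fun (g : AU V) (hg : g ∈ G) (hgv : g.1 (v₀ + f.1 v₀) = v₀ + f.1 v₀)
    (hgw : g.1 (θ.1 v₀ + f.1 (i.1 v₀) + f.1 (f.1 v₀)) =
      θ.1 v₀ + f.1 (i.1 v₀) + f.1 (f.1 v₀)) => h.fix_all hg hgv hF hθ hgen hgw
  refine pf h.vne hw₀V (fun g hg hgv hgw => ?_) b ?_ ?_ ?_ ?_ ?_ ?_
  · obtain ⟨h1, h2⟩ := hall g hg hgv hgw
    refine ⟨h1, fun x hx => ?_⟩
    rw [map_add, map_add, h2 x hx, ← au_mul_apply x f, h2 _ ((D.Q _).mul_mem hx h.f_Q)]
  · intro c; rw [hb]; fin_cases c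
    · exact D.self_mem_V0 _
    · exact hv₀V
    · change b₂ ∈ _; rw [hb₂]; exact hsumV f h.f_Q
    · change b₃ ∈ _; rw [hb₃]; exact hsumV _ hfzQ
  · intro c; rw [hb]; fin_cases c
    · exact h.vne
    · exact h.mx.ne
    · exact fun h0 => hz₂ (hEz _ h0)
    · exact fun h0 => hz₃ (hEz _ h0)
  · intro g hg hgv hgw c
    obtain ⟨h1, h2⟩ := hall g hg hgv hgw
    have h3 : ∀ x ∈ D.Q (v₀ + f.1 v₀), g.1 (∑ j ∈ Finset.range r, (x ^ j).1 v₀) =
        ∑ j ∈ Finset.range r, (x ^ j).1 v₀ := by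
      intro x hx
      rw [map_sum]
      exact Finset.sum_congr rfl fun j _ => h2 _ ((D.Q _).pow_mem hx j)
    rw [hb]; fin_cases c
    · exact hgv
    · exact h2 1 (D.Q _).one_mem
    · change g.1 b₂ = b₂; rw [hb₂]; exact h3 f h.f_Q
    · change g.1 b₃ = b₃; rw [hb₃]; exact h3 _ hfzQ
  · intro x hx c d hxcd
    by_contra hcd
    by_cases hc : c = 0
    · have hd : d ≠ 0 := fun h => hcd (hc.trans h.symm)
      apply tne d c hd (Ne.symm hcd)
      apply Eig.of_fix (D.E.inv_mem hx.1) (tE d) (tfix d)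
      apply au_injective x
      rw [au_apply_inv, hxcd]
    · exact tne c d hc hcd (Eig.of_fix hx.1 (tE c) (tfix c) hxcd)
  · intro x hx hxv
    rw [hb] at hxv
    exact ⟨hx.1, 1, D.K.one_mem, hxv⟩
  · intro x hx k l hk hl h1 h2
    rw [hb] at h1 h2
    change x.1 v₀ = k.1 v₀ at h1
    change x.1 b₂ = l.1 b₂ at h2
    have hki : (k⁻¹).1 ∈ D.K := D.isF.units.inv_mem (x := k) hk
    obtain ⟨m, y, hy, hxy, hyv, hyf⟩ := h.dec (a := k⁻¹ * x) (D.E.mul_mem (D.KE _ hki) hx.1)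
      (by rw [au_mul_apply, h1, au_inv_apply])
    have hyv' := h.fix_v hyv hyf
    have hyV : ∀ u ∈ D.V0 (v₀ + f.1 v₀), y.1 u = u := fun u hu => hu y hy hyv'
    have hb₂V : b₂ ∈ D.V0 (v₀ + f.1 v₀) := by rw [hb₂]; exact hsumV f h.f_Q
    have e1 : (k⁻¹ * x).1 b₂ = (z ^ m).1 b₂ := by rw [hxy, au_mul_apply, hyV _ hb₂V]
    rw [au_mul_apply, h2, ← au_mul_apply k⁻¹ l] at e1
    -- components
    rw [hb₂, map_sum, map_sum] at e1
    have hzm : ∀ j : ℕ, (z ^ m).1 ((f ^ j).1 v₀) = ((cm z f ^ j) ^ m).1 ((f ^ j).1 v₀) := by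
      intro j
      refine pow_eig h.hz (D.isF.units.pow_mem (x := cm z f) h.wK j) ?_ m
      have := h.z_apply₀ (D.E.pow_mem h.hf j)
      rwa [h.cm_fpow] at this
    have hklK : (k⁻¹ * l).1 ∈ D.K := D.K.mul_mem hki hl
    have key := h.comps (u := fun j => (k⁻¹ * l).1 ((f ^ j).1 v₀))
      (u' := fun j => (z ^ m).1 ((f ^ j).1 v₀))
      (fun j _ => by
        change z.1 ((k⁻¹ * l).1 ((f ^ j).1 v₀)) = (cm z f ^ j).1 ((k⁻¹ * l).1 ((f ^ j).1 v₀))
        rw [h.zK _ hklK, h.z_apply₀ (D.E.pow_mem h.hf j), h.cm_fpow]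
        exact DFunLike.congr_fun (D.isF.comm _ hklK _
          (D.isF.units.pow_mem (x := cm z f) h.wK j)) _)
      (fun j _ => by
        change z.1 ((z ^ m).1 ((f ^ j).1 v₀)) = (cm z f ^ j).1 ((z ^ m).1 ((f ^ j).1 v₀))
        have hK1 := D.isF.units.pow_mem (x := cm z f) h.wK j
        rw [hzm, h.zK _ (D.isF.units.pow_mem hK1 m), h.z_apply₀ (D.E.pow_mem h.hf j), h.cm_fpow]
        exact DFunLike.congr_fun (D.isF.comm _ (D.isF.units.pow_mem hK1 m) _ hK1) _) e1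
    have k0 := key 0 h.hr.pos
    have k1 := key 1 h.hr.one_lt
    rw [hzm, pow_zero, pow_zero, one_pow] at k0
    rw [hzm, pow_one, pow_one] at k1
    have a0 : k⁻¹ * l = 1 := Units.ext (D.isF.eq_of_apply hklK D.K.one_mem h.mx.ne k0)
    have a1 : k⁻¹ * l = cm z f ^ m := Units.ext (D.isF.eq_of_apply hklK
      (D.isF.units.pow_mem (x := cm z f) h.wK m) (hfne h.mx.ne) k1)
    rw [a0] at a1
    have hrm : r ∣ m := by
      have hrf : Fact r.Prime := ⟨h.hr⟩
      have h3 : orderOf (cm z f) = r := orderOf_eq_prime h.wr h.zf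
      rw [← h3]
      exact orderOf_dvd_of_pow_eq_one a1.symm
    obtain ⟨m', rfl⟩ := hrm
    rw [pow_mul, h.zr, one_pow, one_mul] at hxy
    refine ⟨hx.1, k, hk, ?_⟩
    have : x = k * y := by rw [← hxy]; group
    rw [this, au_mul_apply, hyv']

end OS

/-- **Case I** -/
theorem prim2_odd (hx : ∃ x ∈ D.E, (x ^ 2).1 ∉ D.K) (htwo : (1 : AU V) ≠ -1) :
    HasBase (Fin 2) G := by
  obtain ⟨v₀, i, hF⟩ := D.exists_frame
  obtain ⟨x, hxE, hx2⟩ := hx
  obtain ⟨r, hr, hr2, z, hz, f, hf, hzv, hzr, hfr, hzf⟩ := exists_zf hF.toIsMax hxE hx2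
  exact OS.base2 ⟨hr, hr2, hF.toIsMax, hz, hf, hzv, hzr, hfr, hzf, htwo⟩ hF

end Dat

end Cfsg.Agent.H578
end

-- part: H578/Nine
section
/-!
# `E / K` a 2-group: planes over the field (helper578)
-/

set_option autoImplicit false
set_option linter.unusedSectionVars false

universe u

namespace Cfsg.Agent.H578

variable {V : Type u} [AddCommGroup V]

/-- the characteristic of a small field -/
theorem IsF.char_of_order [Nontrivial V] [Finite V] {K : Subring (AddMonoid.End V)} (h : IsF K)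
    {θ : AU V} (hθ : θ.1 ∈ K) (hgen : ∀ k : AU V, k.1 ∈ K → ∃ n : ℕ, k = θ ^ n) :
    ((orderOf θ + 1 : ℕ) : AddMonoid.End V) = 0 := by
  have hfe : Finite (AddMonoid.End V) := finite_end
  have h1 : (K : Set (AddMonoid.End V)) = insert 0 (Units.val '' (Subgroup.zpowers θ : Set (AU V))) := by
    ext a
    constructor
    · intro ha
      by_cases h0 : a = 0
      · left; exact h0
      · right
        obtain ⟨k, hk⟩ := h.exists_unit ha h0
        refine ⟨k, ?_, hk⟩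
        obtain ⟨n, rfl⟩ := hgen k (by rw [show k.1 = a from hk]; exact ha)
        exact ⟨n, zpow_natCast _ _⟩
    · rintro (rfl | ⟨k, ⟨n, hn⟩, rfl⟩)
      · exact K.zero_mem
      · have h2 : θ ^ n ∈ h.units := h.units.zpow_mem hθ n
        have h3 : k ∈ h.units := by rw [← hn]; exact h2
        exact h3
  have h2 : Nat.card K = orderOf θ + 1 := by
    have h3 : (K : Set (AddMonoid.End V)).ncard = orderOf θ + 1 := by
      rw [h1, Set.ncard_insert_of_notMem ?_ (Set.toFinite _),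
        Set.ncard_image_of_injective _ (fun a b hab => Units.ext hab)]
      · congr 1
        exact Nat.card_zpowers θ
      · rintro ⟨k, -, hk⟩
        exact IsF.ne_zero_au k hk
    exact h3
  have h3 : Nat.card K • (1 : K) = 0 := card_nsmul_eq_zero'
  have h4 : ((orderOf θ + 1 : ℕ) : K) = 0 := by rw [← nsmul_one, ← h2]; exact h3
  have h5 := congrArg Subtype.val h4
  exact h5

namespace Dat

variable {G : Subgroup (AU V)} {D : Dat G}

/-- the setup for a plane -/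
structure TS (D : Dat G) [Nontrivial V] (v₀ : V) (z f c : AU V) : Prop where
  mx : D.IsMax v₀
  QB : D.Q v₀ ≤ D.B v₀
  hz : z ∈ D.E
  hf : f ∈ D.E
  zv : z.1 v₀ = v₀
  zz : z * z = 1
  ff : f * f = 1
  zf : z * f = -(f * z)
  hc : c.1 ∈ D.K
  c4 : c ^ 4 ≠ 1
  two : (1 : AU V) ≠ -1
  E2 : ∀ x ∈ D.E, (x ^ 2).1 ∈ D.K

/-- no 2-torsion -/
theorem two_tors (D : Dat G) [Nontrivial V] (htwo : (1 : AU V) ≠ -1) {x : V} (hx : x = -x) : x = 0 := by
  by_contra h0
  apply htwo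
  exact Units.ext (D.isF.eq_of_apply D.K.one_mem (D.K.neg_mem D.K.one_mem) h0 hx)

variable [Nontrivial V] [Finite V]

namespace TS

variable {v₀ : V} {z f c : AU V} (h : D.TS v₀ z f c)
include h

theorem zK : ∀ a ∈ D.K, ∀ x, z.1 (a x) = a (z.1 x) := fun _ ha x => D.EK' h.hz ha x

theorem fK : ∀ a ∈ D.K, ∀ x, f.1 (a x) = a (f.1 x) := fun _ ha x => D.EK' h.hf ha x

theorem cK : ∀ a ∈ D.K, ∀ x, c.1 (a x) = a (c.1 x) := fun a ha x =>
  DFunLike.congr_fun (D.isF.comm _ h.hc _ ha) x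

theorem comp2 {A B A' B' : V} (h1 : z.1 A = A) (h2 : z.1 B = -B) (h3 : z.1 A' = A')
    (h4 : z.1 B' = -B') (h5 : A + B = A' + B') : A = A' ∧ B = B' := by
  have h6 : A - B = A' - B' := by
    have := congrArg z.1 h5
    rw [map_add, map_add, h1, h2, h3, h4, ← sub_eq_add_neg, ← sub_eq_add_neg] at this
    exact this
  have h7 : A = A' := by
    apply sub_eq_zero.mp
    apply D.two_tors h.two
    have e1 : A - A' = B' - B := by
      rw [sub_eq_sub_iff_add_eq_add, h5, add_comm]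
    have e2 : A - A' = B - B' := by
      rw [sub_eq_sub_iff_add_eq_add, add_comm B A', ← sub_eq_sub_iff_add_eq_add]
      exact h6
    calc A - A' = B' - B := e1
      _ = -(B - B') := by abel
      _ = -(A - A') := by rw [e2]
  refine ⟨h7, ?_⟩
  rw [h7] at h5
  exact add_left_cancel h5

theorem zfv : z.1 (f.1 v₀) = -(f.1 v₀) := by
  rw [← au_mul_apply, h.zf, au_neg_apply, au_mul_apply, h.zv]

theorem ffv : f.1 (f.1 v₀) = v₀ := by rw [← au_mul_apply, h.ff]; rfl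

theorem nz {x : AU V} {u : V} (hu : u ≠ 0) : x.1 u ≠ 0 := fun h0 =>
  hu (au_injective x (by rw [h0, map_zero]))

/-- independence -/
theorem pl_inj {a b a' b' : AddMonoid.End V} (ha : a ∈ D.K) (hb : b ∈ D.K) (ha' : a' ∈ D.K)
    (hb' : b' ∈ D.K) (e : a v₀ + b (f.1 v₀) = a' v₀ + b' (f.1 v₀)) : a = a' ∧ b = b' := by
  obtain ⟨h1, h2⟩ := h.comp2 (A := a v₀) (B := b (f.1 v₀)) (A' := a' v₀) (B' := b' (f.1 v₀))
    (by rw [h.zK a ha, h.zv]) (by rw [h.zK b hb, h.zfv, map_neg])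
    (by rw [h.zK a' ha', h.zv]) (by rw [h.zK b' hb', h.zfv, map_neg]) e
  exact ⟨D.isF.eq_of_apply ha ha' h.mx.ne h1, D.isF.eq_of_apply hb hb' (h.nz h.mx.ne) h2⟩

/-- the vector -/
theorem vne : v₀ + c.1 (f.1 v₀) ≠ 0 := by
  intro h0
  have h1 := h.pl_inj (a := 1) (b := c.1) (a' := 0) (b' := 0) D.K.one_mem h.hc D.K.zero_mem
    D.K.zero_mem (by
      have : (0 : AddMonoid.End V) v₀ + (0 : AddMonoid.End V) (f.1 v₀) = 0 := add_zero _
      rw [this]; exact h0)
  exact IsF.ne_zero_au (1 : AU V) h1.1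

theorem cm_fix {a b : AU V} (ha : a ∈ D.E) (hb : b ∈ D.E) (hav : a.1 v₀ = v₀)
    (hbv : b.1 v₀ = v₀) : cm a b = 1 := by
  apply eq_one_of_fix h.mx.ne (cm_K ha hb)
  have h1 : (b⁻¹).1 v₀ = v₀ := by apply au_injective b; rw [au_apply_inv, hbv]
  have h2 : (a⁻¹).1 v₀ = v₀ := by apply au_injective a; rw [au_apply_inv, hav]
  unfold cm
  rw [au_mul_apply, au_mul_apply, au_mul_apply, h1, h2, hbv, hav]

/-- the stabiliser of the vector -/
theorem stab_v {x : AU V} (hx : x ∈ D.E) (hxv : x.1 (v₀ + c.1 (f.1 v₀)) = v₀ + c.1 (f.1 v₀)) :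
    x.1 v₀ = v₀ ∧ x * f = f * x := by
  rw [map_add, D.EK' hx h.hc] at hxv
  rcases mul_pm h.E2 hx h.hz with hxz | hxz
  · have e1 : z.1 (x.1 v₀) = x.1 v₀ := by
      rw [← au_mul_apply, ← hxz, au_mul_apply, h.zv]
    have e2 : z.1 (c.1 (x.1 (f.1 v₀))) = -(c.1 (x.1 (f.1 v₀))) := by
      rw [h.zK _ h.hc, ← au_mul_apply z x, ← hxz, au_mul_apply, h.zfv, map_neg, map_neg]
    have e3 : z.1 (c.1 (f.1 v₀)) = -(c.1 (f.1 v₀)) := by
      rw [h.zK _ h.hc, h.zfv, map_neg]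
    obtain ⟨h1, h2⟩ := h.comp2 e1 e2 h.zv e3 hxv
    refine ⟨h1, ?_⟩
    have h3 := au_injective c h2
    rcases mul_pm h.E2 hx h.hf with h4 | h4
    · exact h4
    · exfalso
      rw [← au_mul_apply, h4, au_neg_apply, au_mul_apply, h1] at h3
      exact h.nz h.mx.ne (D.two_tors h.two h3.symm)
  · exfalso
    have hzx : z * x = -(x * z) := by rw [hxz, neg_neg]
    have e1 : z.1 (x.1 v₀) = -(x.1 v₀) := by
      rw [← au_mul_apply, hzx, au_neg_apply, au_mul_apply, h.zv]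
    have e2 : z.1 (c.1 (x.1 (f.1 v₀))) = c.1 (x.1 (f.1 v₀)) := by
      rw [h.zK _ h.hc, ← au_mul_apply z x, hzx, au_neg_apply, au_mul_apply, h.zfv, map_neg x.1,
        neg_neg]
    have e3 : z.1 (c.1 (f.1 v₀)) = -(c.1 (f.1 v₀)) := by
      rw [h.zK _ h.hc, h.zfv, map_neg]
    obtain ⟨h1, h2⟩ := h.comp2 e2 e1 h.zv e3 (by rw [add_comm]; exact hxv)
    -- `x v₀ = c f v₀`, `c x f v₀ = v₀`
    have hcc : (c * c).1 ∈ D.K := D.K.mul_mem h.hc h.hc
    rcases mul_pm h.E2 hx h.hf with h4 | h4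
    · rw [← au_mul_apply x f, h4, au_mul_apply, h2, h.fK _ h.hc, h.ffv, ← au_mul_apply] at h1
      have h5 : c * c = 1 := eq_one_of_fix h.mx.ne hcc h1
      apply h.c4
      rw [show 4 = 2 + 2 from rfl, pow_add, pow_two, h5, one_mul]
    · rw [← au_mul_apply x f, h4, au_neg_apply, au_mul_apply, h2, h.fK _ h.hc, h.ffv, map_neg,
        ← au_mul_apply] at h1
      have h5 : c * c = -1 := by
        apply Units.ext
        apply D.isF.eq_of_apply hcc (D.K.neg_mem D.K.one_mem) h.mx.ne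
        rw [← neg_neg ((c * c).1 v₀), h1]; rfl
      apply h.c4
      rw [show 4 = 2 + 2 from rfl, pow_add, pow_two, h5, neg_mul_neg, one_mul]

/-- elements commuting with `f` and fixing `v₀` fix `v` -/
theorem fix_v {b : AU V} (hb : b ∈ D.E) (hbv : b.1 v₀ = v₀) (hbf : b * f = f * b) :
    b.1 (v₀ + c.1 (f.1 v₀)) = v₀ + c.1 (f.1 v₀) := by
  rw [map_add, D.EK' hb h.hc, ← au_mul_apply b f, hbf, au_mul_apply, hbv]

theorem f_Q : f ∈ D.Q (v₀ + c.1 (f.1 v₀)) :=
  ⟨h.hf, fun _ ha hav => (h.stab_v ha hav).2.symm⟩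

theorem z_Q : z ∈ D.Q (v₀ + c.1 (f.1 v₀)) := by
  refine ⟨h.hz, fun a ha hav => ?_⟩
  exact cm_eq_one.mp (h.cm_fix h.hz ha h.zv (h.stab_v ha hav).1)

theorem V0_le {u : V} (hu : u ∈ D.V0 v₀) : u ∈ D.V0 (v₀ + c.1 (f.1 v₀)) := fun a ha hav =>
  hu a ha (h.stab_v ha hav).1

theorem v₀_V0 : v₀ ∈ D.V0 (v₀ + c.1 (f.1 v₀)) := h.V0_le (D.self_mem_V0 v₀)

/-- membership in `Q v₀` -/
theorem mem_Q₀ {y : AU V} (hy : y ∈ D.E) (h1 : z * y = y * z)
    (h2 : ∀ b ∈ D.E, b.1 v₀ = v₀ → b * f = f * b → b * y = y * b) : y ∈ D.Q v₀ := by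
  refine ⟨hy, fun a ha hav => ?_⟩
  rcases mul_pm h.E2 ha h.hf with h3 | h3
  · exact (h2 a ha hav h3).symm
  · have h4 := h2 (z * a) (D.E.mul_mem h.hz ha) (by rw [au_mul_apply, hav, h.zv]) (by
      calc z * a * f = z * (a * f) := mul_assoc _ _ _
        _ = -((z * f) * a) := by rw [h3, mul_neg, mul_assoc]
        _ = f * z * a := by rw [h.zf, neg_mul, neg_neg]
        _ = _ := mul_assoc _ _ _)
    have hzz := h.zz
    calc y * a = y * (z * z) * a := by rw [hzz, mul_one]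
      _ = (y * z) * (z * a) := by simp only [mul_assoc]
      _ = z * (y * (z * a)) := by rw [← h1, mul_assoc]
      _ = z * ((z * a) * y) := by rw [h4]
      _ = (z * z) * (a * y) := by simp only [mul_assoc]
      _ = a * y := by rw [hzz, one_mul]

/-- the decomposition of the elements of `Q v` -/
theorem dec_Q {x : AU V} (hx : x ∈ D.Q (v₀ + c.1 (f.1 v₀))) :
    ∃ t, (t = 1 ∨ t = z ∨ t = f ∨ t = f * z) ∧ ∃ k : AU V, k.1 ∈ D.K ∧ ∃ b ∈ D.E,
      b.1 v₀ = v₀ ∧ b * f = f * b ∧ x = k * t * b := by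
  -- reduce to elements commuting with `z`
  have key : ∀ y ∈ D.Q (v₀ + c.1 (f.1 v₀)), z * y = y * z →
      ∃ t, (t = 1 ∨ t = z) ∧ ∃ k : AU V, k.1 ∈ D.K ∧ ∃ b ∈ D.E,
      b.1 v₀ = v₀ ∧ b * f = f * b ∧ y = k * t * b := by
    intro y hy hzy
    have h1 : y ∈ D.Q v₀ := by
      apply h.mem_Q₀ hy.1 hzy
      intro b hb hbv hbf
      exact (hy.2 b hb (h.fix_v hb hbv hbf)).symm
    obtain ⟨-, k, hk, hyk⟩ := h.QB h1
    have hki : (k⁻¹).1 ∈ D.K := D.isF.units.inv_mem (x := k) hk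
    have hkE := D.KE _ hki
    have hfix : (k⁻¹ * y).1 v₀ = v₀ := by rw [au_mul_apply, hyk, au_inv_apply]
    rcases mul_pm h.E2 (D.E.mul_mem hkE hy.1) h.hf with h2 | h2
    · exact ⟨1, Or.inl rfl, k, hk, k⁻¹ * y, D.E.mul_mem hkE hy.1, hfix, h2, by group⟩
    · refine ⟨z, Or.inr rfl, k, hk, z * (k⁻¹ * y), D.E.mul_mem h.hz (D.E.mul_mem hkE hy.1), ?_, ?_,
        ?_⟩
      · rw [au_mul_apply, hfix, h.zv]
      · calc z * (k⁻¹ * y) * f = z * ((k⁻¹ * y) * f) := mul_assoc _ _ _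
          _ = -((z * f) * (k⁻¹ * y)) := by rw [h2, mul_neg]; simp only [mul_assoc]
          _ = _ := by rw [h.zf, neg_mul, neg_neg]; simp only [mul_assoc]
      · calc y = k * 1 * (k⁻¹ * y) := by group
          _ = k * (z * z) * (k⁻¹ * y) := by rw [h.zz]
          _ = _ := by simp only [mul_assoc]
  rcases mul_pm h.E2 h.hz hx.1 with h1 | h1
  · obtain ⟨t, ht, k, hk, b, hb, h2, h3, h4⟩ := key x hx h1
    refine ⟨t, ?_, k, hk, b, hb, h2, h3, h4⟩
    rcases ht with rfl | rfl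
    · left; rfl
    · right; left; rfl
  · have h2 : z * (f * x) = f * x * z := by
      calc z * (f * x) = (z * f) * x := by simp only [mul_assoc]
        _ = -(f * (z * x)) := by rw [h.zf, neg_mul, mul_assoc]
        _ = _ := by rw [h1, mul_neg, neg_neg]; simp only [mul_assoc]
    obtain ⟨t, ht, k, hk, b, hb, h3, h4, h5⟩ := key (f * x) ((D.Q _).mul_mem h.f_Q hx) h2
    have h6 : x = k * (f * t) * b := by
      calc x = (f * f) * x := by rw [h.ff, one_mul]
        _ = f * (f * x) := by simp only [mul_assoc]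
        _ = f * (k * t * b) := by rw [h5]
        _ = (f * k) * (t * b) := by simp only [mul_assoc]
        _ = (k * f) * (t * b) := by rw [D.EKu h.hf hk]
        _ = _ := by simp only [mul_assoc]
    refine ⟨f * t, ?_, k, hk, b, hb, h3, h4, h6⟩
    rcases ht with rfl | rfl
    · right; right; left; exact mul_one f
    · right; right; right; rfl

/-- the classes -/
def RR (D : Dat G) (v₀ : V) (f t x : AU V) : Prop := ∃ k : AU V, k.1 ∈ D.K ∧ ∃ b ∈ D.E,
      b.1 v₀ = v₀ ∧ b * f = f * b ∧ x = k * t * b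

theorem RR_conj {g : AU V} (hg : g ∈ G)
    (hgv : g.1 (v₀ + c.1 (f.1 v₀)) = v₀ + c.1 (f.1 v₀)) {t t' x : AU V} (h1 : RR D v₀ f t x)
    (h2 : RR D v₀ f t' (g * t * g⁻¹)) : RR D v₀ f t' (g * x * g⁻¹) := by
  obtain ⟨k, hk, b, hb, hbv, hbf, rfl⟩ := h1
  obtain ⟨k', hk', b', hb', hbv', hbf', e⟩ := h2
  have hgb := D.GE g hg b hb
  have hgbv : (g * b * g⁻¹).1 (v₀ + c.1 (f.1 v₀)) = v₀ + c.1 (f.1 v₀) :=
    conj_fix hgv (h.fix_v hb hbv hbf)
  obtain ⟨h3, h4⟩ := h.stab_v hgb hgbv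
  refine ⟨(g * k * g⁻¹) * k', D.K.mul_mem (D.GK g hg _ hk) hk', b' * (g * b * g⁻¹),
    D.E.mul_mem hb' hgb, ?_, ?_, ?_⟩
  · rw [au_mul_apply, h3, hbv']
  · rw [mul_assoc, h4, ← mul_assoc, hbf', mul_assoc]
  · calc g * (k * t * b) * g⁻¹ = (g * k * g⁻¹) * (g * t * g⁻¹) * (g * b * g⁻¹) := by group
      _ = (g * k * g⁻¹) * (k' * t' * b') * (g * b * g⁻¹) := by rw [e]
      _ = _ := by simp only [mul_assoc]

theorem RR_mul {t t' x x' : AU V} (ht' : t' ∈ D.Q (v₀ + c.1 (f.1 v₀)))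
    (h1 : RR D v₀ f t x) (h2 : RR D v₀ f t' x') (ht : t ∈ D.E) : RR D v₀ f (t * t') (x * x') := by
  obtain ⟨k, hk, b, hb, hbv, hbf, rfl⟩ := h1
  obtain ⟨k', hk', b', hb', hbv', hbf', rfl⟩ := h2
  refine ⟨k * k', D.K.mul_mem hk hk', b * b', D.E.mul_mem hb hb', ?_, ?_, ?_⟩
  · rw [au_mul_apply, hbv', hbv]
  · rw [mul_assoc, hbf', ← mul_assoc, hbf, mul_assoc]
  · have e1 := ht'.2 b hb (h.fix_v hb hbv hbf)
    have e2 := D.EKu hb hk'
    have e3 := D.EKu ht hk'
    calc k * t * b * (k' * t' * b') = k * t * (b * k') * t' * b' := by simp only [mul_assoc]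
      _ = k * (t * k') * (b * t') * b' := by rw [e2]; simp only [mul_assoc]
      _ = _ := by rw [e3, ← e1]; simp only [mul_assoc]

theorem RR_neg {t x : AU V} (h1 : RR D v₀ f (-t) x) : RR D v₀ f t x := by
  obtain ⟨k, hk, b, hb, hbv, hbf, rfl⟩ := h1
  exact ⟨-k, D.K.neg_mem hk, b, hb, hbv, hbf, by rw [mul_neg, neg_mul, neg_mul, neg_mul]⟩

/-- a class which is anticommuting with `z` -/
theorem RR_anti {t x : AU V} (ht : t ∈ D.E) (htz : z * t = -(t * z)) (h1 : RR D v₀ f t x) :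
    x ≠ z := by
  rintro rfl
  obtain ⟨k, hk, b, hb, hbv, hbf, e⟩ := h1
  have e1 := cm_eq_one.mp (h.cm_fix h.hz hb h.zv hbv)
  have e2 := D.EKu h.hz hk
  have e3 : x * x = -(x * x) := by
    nth_rewrite 2 [e]
    calc x * (k * t * b) = (x * k) * t * b := by simp only [mul_assoc]
      _ = k * (x * t) * b := by rw [e2]; simp only [mul_assoc]
      _ = -(k * t * (x * b)) := by rw [htz, mul_neg, neg_mul]; simp only [mul_assoc]
      _ = -((k * t * b) * x) := by rw [e1]; simp only [mul_assoc]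
      _ = -(x * x) := by rw [← e]
  rw [h.zz] at e3
  exact h.two e3

/-- an element of order prime to 3 fixes one of the three classes -/
theorem fix_class {g : AU V} (hg : g ∈ G)
    (hgv : g.1 (v₀ + c.1 (f.1 v₀)) = v₀ + c.1 (f.1 v₀)) {N : ℕ} (hN : Nat.Coprime N 3)
    (hgN : g ^ N = 1) : ∃ t, (t = z ∨ t = f ∨ t = f * z) ∧ RR D v₀ f t (g * t * g⁻¹) := by
  have hfzQ := (D.Q (v₀ + c.1 (f.1 v₀))).mul_mem h.f_Q h.z_Q
  have hdec : ∀ x ∈ D.Q (v₀ + c.1 (f.1 v₀)), RR D v₀ f 1 x ∨ RR D v₀ f z x ∨ RR D v₀ f f x ∨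
      RR D v₀ f (f * z) x := by
    intro x hx
    obtain ⟨t, ht, h1⟩ := h.dec_Q hx
    rcases ht with rfl | rfl | rfl | rfl
    · exact Or.inl h1
    · exact Or.inr (Or.inl h1)
    · exact Or.inr (Or.inr (Or.inl h1))
    · exact Or.inr (Or.inr (Or.inr h1))
  -- the trivial class is preserved
  have hone : ∀ t ∈ D.E, RR D v₀ f 1 (g * t * g⁻¹) → RR D v₀ f 1 t := by
    rintro t ht ⟨k, hk, b, hb, hbv, hbf, e⟩
    have hki := D.GK g⁻¹ (G.inv_mem hg) _ hk
    have hgb := D.GE g⁻¹ (G.inv_mem hg) b hb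
    have hgbv : (g⁻¹ * b * (g⁻¹)⁻¹).1 (v₀ + c.1 (f.1 v₀)) = v₀ + c.1 (f.1 v₀) :=
      conj_fix (inv_fix hgv) (h.fix_v hb hbv hbf)
    obtain ⟨h3, h4⟩ := h.stab_v hgb hgbv
    refine ⟨g⁻¹ * k * (g⁻¹)⁻¹, hki, _, hgb, h3, h4, ?_⟩
    calc t = g⁻¹ * (g * t * g⁻¹) * g := by group
      _ = g⁻¹ * (k * 1 * b) * g := by rw [e]
      _ = _ := by group
  have hanti_f : z * f = -(f * z) := h.zf
  have hanti_fz : z * (f * z) = -(f * z * z) := by
    rw [← mul_assoc, h.zf, neg_mul]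
  have h1z : ¬ RR D v₀ f 1 z := by
    rintro ⟨k, hk, b, hb, hbv, hbf, e⟩
    have h2 : z * f = f * z := by
      rw [e, mul_one, mul_assoc, hbf, ← mul_assoc, ← D.EKu h.hf hk, mul_assoc]
    rw [h.zf] at h2
    have h3 : (f * z) * 1 = (f * z) * (-1) := by rw [mul_one, mul_neg_one]; exact h2.symm
    exact h.two (mul_left_cancel h3)
  have h1anti : ∀ t ∈ D.E, z * t = -(t * z) → ¬ RR D v₀ f 1 t := by
    rintro t ht htz ⟨k, hk, b, hb, hbv, hbf, e⟩
    have e1 := cm_eq_one.mp (h.cm_fix h.hz hb h.zv hbv)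
    have h2 : z * t = t * z := by
      rw [e, mul_one, mul_assoc, ← e1, ← mul_assoc, ← mul_assoc, D.EKu h.hz hk]
    rw [htz] at h2
    have h3 : (t * z) * 1 = (t * z) * (-1) := by rw [mul_one, mul_neg_one]; exact h2.symm
    exact h.two (mul_left_cancel h3)
  by_contra hcon
  push Not at hcon
  have cz := hcon z (Or.inl rfl)
  have cf := hcon f (Or.inr (Or.inl rfl))
  have cfz := hcon (f * z) (Or.inr (Or.inr rfl))
  -- the cyclic argument
  have cyc : ∀ t₁ t₂ : AU V, t₁ ∈ D.E → t₂ ∈ D.E → z * t₁ = -(t₁ * z) → z * t₂ = -(t₂ * z) →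
      RR D v₀ f t₁ (g * z * g⁻¹) → RR D v₀ f t₂ (g * t₁ * g⁻¹) →
      RR D v₀ f z (g * t₂ * g⁻¹) → False := by
    intro t₁ t₂ ht₁ ht₂ a₁ a₂ r₁ r₂ r₃
    have h1 : ∀ m : ℕ, RR D v₀ f z (g ^ (3 * m) * z * (g ^ (3 * m))⁻¹) := by
      intro m
      induction m with
      | zero => exact ⟨1, D.K.one_mem, 1, D.E.one_mem, rfl, by group, by group⟩
      | succ m ih =>
        have q1 := h.RR_conj hg hgv ih r₁
        have q2 := h.RR_conj hg hgv q1 r₂
        have q3 := h.RR_conj hg hgv q2 r₃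
        have e : g ^ (3 * (m + 1)) = g * g * g * g ^ (3 * m) := by
          rw [show 3 * (m + 1) = 3 * m + 1 + 1 + 1 by ring, pow_succ', pow_succ', pow_succ']
          simp only [mul_assoc]
        rw [e]
        have e' : g * g * g * g ^ (3 * m) * z * (g * g * g * g ^ (3 * m))⁻¹ =
            g * (g * (g * (g ^ (3 * m) * z * (g ^ (3 * m))⁻¹) * g⁻¹) * g⁻¹) * g⁻¹ := by group
        rw [e']
        exact q3
    have hNmod : N % 3 = 1 ∨ N % 3 = 2 := by
      have h2 : N % 3 ≠ 0 := by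
        intro h3
        have h4 : 3 ∣ N := Nat.dvd_of_mod_eq_zero h3
        have h5 := Nat.dvd_gcd h4 (dvd_refl 3)
        rw [hN] at h5
        omega
      omega
    have hdm := Nat.div_add_mod N 3
    rcases hNmod with h2 | h2
    · rw [h2] at hdm
      have q1 := h.RR_conj hg hgv (h1 (N / 3)) r₁
      have e' : g * (g ^ (3 * (N / 3)) * z * (g ^ (3 * (N / 3)))⁻¹) * g⁻¹ = z := by
        calc _ = (g * g ^ (3 * (N / 3))) * z * (g * g ^ (3 * (N / 3)))⁻¹ := by group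
          _ = z := by rw [← pow_succ', hdm, hgN]; group
      rw [e'] at q1
      exact h.RR_anti ht₁ a₁ q1 rfl
    · rw [h2] at hdm
      have q1 := h.RR_conj hg hgv (h.RR_conj hg hgv (h1 (N / 3)) r₁) r₂
      have e' : g * (g * (g ^ (3 * (N / 3)) * z * (g ^ (3 * (N / 3)))⁻¹) * g⁻¹) * g⁻¹ = z := by
        calc _ = (g * (g * g ^ (3 * (N / 3)))) * z * (g * (g * g ^ (3 * (N / 3))))⁻¹ := by group
          _ = z := by rw [← pow_succ', ← pow_succ', show 3 * (N / 3) + 1 + 1 = N by omega, hgN]; group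
      rw [e'] at q1
      exact h.RR_anti ht₂ a₂ q1 rfl
  have hfzE := D.E.mul_mem h.hf h.hz
  -- images
  have hgz := hdec _ (conj_Q hg hgv h.z_Q)
  have hgf := hdec _ (conj_Q hg hgv h.f_Q)
  have hgfz := hdec _ (conj_Q hg hgv hfzQ)
  have ez : f * z * z = f := by rw [mul_assoc, h.zz, mul_one]
  have ez' : f * z * f = -z := by
    rw [mul_assoc, h.zf, mul_neg, ← mul_assoc, h.ff, one_mul]
  have eff : f * (f * z) = z := by rw [← mul_assoc, h.ff, one_mul]
  have ecz : g * (f * z) * g⁻¹ = (g * f * g⁻¹) * (g * z * g⁻¹) := by group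
  have ecf : g * f * g⁻¹ = (g * (f * z) * g⁻¹) * (g * z * g⁻¹) := by
    calc g * f * g⁻¹ = g * (f * z * z) * g⁻¹ := by rw [ez]
      _ = _ := by group
  rcases hgz with a | a | a | a
  · exact h1z (hone z h.hz a)
  · exact cz a
  · -- `z ↦ f`
    rcases hgf with b | b | b | b
    · exact h1anti f h.hf hanti_f (hone f h.hf b)
    · -- `f ↦ z`: `f z` is fixed
      apply cfz
      rw [ecz]
      have h2 := h.RR_mul h.f_Q b a h.hz
      rw [h.zf] at h2
      exact h.RR_neg h2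
    · exact cf b
    · refine cyc f (f * z) h.hf hfzE hanti_f hanti_fz a b ?_
      rw [ecz]
      have h2 := h.RR_mul h.f_Q b a hfzE
      rw [ez'] at h2
      exact h.RR_neg h2
  · -- `z ↦ f z`
    rcases hgfz with b | b | b | b
    · exact h1anti _ hfzE hanti_fz (hone _ hfzE b)
    · apply cf
      rw [ecf]
      have h2 := h.RR_mul hfzQ b a h.hz
      have e5 : z * (f * z) = -f := by rw [hanti_fz, ez]
      rw [e5] at h2
      exact h.RR_neg h2
    · refine cyc (f * z) f hfzE h.hf hanti_fz hanti_f a b ?_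
      rw [ecf]
      have h2 := h.RR_mul hfzQ b a h.hf
      rw [eff] at h2
      exact h2
    · exact cfz b

end TS

end Dat

end Cfsg.Agent.H578
end

-- part: H578/NineB
section
/-!
# The field with nine elements (helper578)
-/

set_option autoImplicit false
set_option linter.unusedSectionVars false

universe u

namespace Cfsg.Agent.H578

variable {V : Type u} [AddCommGroup V]

theorem end_mul_apply (a b : AddMonoid.End V) (x : V) : (a * b) x = a (b x) := rfl

namespace Dat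

variable {G : Subgroup (AU V)} {D : Dat G} [Nontrivial V] [Finite V]

/-- if `E = K` -/
theorem base_scalar {v₀ : V} (hv₀ : v₀ ≠ 0) {θ : AU V} (hθ : θ.1 ∈ D.K)
    (hgen : ∀ k : AU V, k.1 ∈ D.K → ∃ n : ℕ, k = θ ^ n) (hEK : ∀ x ∈ D.E, x.1 ∈ D.K) :
    HasBase (Fin 2) G := by
  refine ⟨![v₀, θ.1 v₀], fun g hg h => ?_⟩
  have hgv : g.1 v₀ = v₀ := h 0
  have hgK := comm_K_of_gen hv₀ hg hgv hθ hgen (h 1)
  apply fix_imp_one hg hgv hv₀
  intro x hx
  rw [hgK _ (hEK x hx), hgv]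

/-- the elements `z` and `f` -/
theorem exists_zf2 {v₀ : V} (hv₀ : D.IsMax v₀) (QB : D.Q v₀ ≤ D.B v₀)
    (hE2 : ∀ x ∈ D.E, (x ^ 2).1 ∈ D.K) (hEK : ¬ ∀ x ∈ D.E, x.1 ∈ D.K)
    {ι : AU V} (hι : ι.1 ∈ D.K) (hιι : ι * ι = -1) :
    ∃ z ∈ D.E, ∃ f ∈ D.E, z.1 v₀ = v₀ ∧ z * z = 1 ∧ f * f = 1 ∧ z * f = -(f * z) := by
  obtain ⟨z, hz, hzv, hz1⟩ : ∃ z ∈ D.E, z.1 v₀ = v₀ ∧ z ≠ 1 := by
    by_contra hcon
    push Not at hcon
    apply hEK
    intro y hy
    have hyQ : y ∈ D.Q v₀ := ⟨hy, fun a ha hav => by rw [hcon a ha hav, one_mul, mul_one]⟩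
    obtain ⟨-, k, hk, h⟩ := QB hyQ
    have hki : (k⁻¹).1 ∈ D.K := D.isF.units.inv_mem (x := k) hk
    have h1 := hcon (k⁻¹ * y) (D.E.mul_mem (D.KE _ hki) hy) (by rw [au_mul_apply, h, au_inv_apply])
    have h2 : y = k := (inv_mul_eq_one.mp h1).symm
    rw [h2]; exact hk
  have hzz : z * z = 1 := by
    apply eq_one_of_fix hv₀.ne
    · rw [← pow_two]; exact hE2 z hz
    · rw [au_mul_apply, hzv, hzv]
  obtain ⟨f', hf', hzf'⟩ : ∃ f' ∈ D.E, z * f' ≠ f' * z := by
    by_contra hcon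
    push Not at hcon
    exact hz1 (eq_one_of_fix hv₀.ne (D.center z hz hcon) hzv)
  have hzf : z * f' = -(f' * z) := (mul_pm hE2 hz hf').resolve_left hzf'
  have hmul : ∀ k : AU V, k.1 ∈ D.K → z * (k * f') = -(k * f' * z) := by
    intro k hk
    calc z * (k * f') = (z * k) * f' := by rw [mul_assoc]
      _ = k * (z * f') := by rw [D.EKu hz hk, mul_assoc]
      _ = _ := by rw [hzf, mul_neg, mul_assoc]
  obtain ⟨k, hk, h | ⟨-, h⟩⟩ := D.star _ hf' 2 Nat.prime_two (hE2 _ hf')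
  · refine ⟨z, hz, k * f', D.E.mul_mem (D.KE k hk) hf', hzv, hzz, by rw [← pow_two, h], hmul k hk⟩
  · have hιk : (ι * k).1 ∈ D.K := D.K.mul_mem hι hk
    refine ⟨z, hz, ι * k * f', D.E.mul_mem (D.KE _ hιk) hf', hzv, hzz, ?_, hmul _ hιk⟩
    have e1 : (k * f') * ι = ι * (k * f') := D.EKu (D.E.mul_mem (D.KE k hk) hf') hι
    rw [pow_two] at h
    calc ι * k * f' * (ι * k * f') = ι * ((k * f') * ι) * (k * f') := by simp only [mul_assoc]
      _ = (ι * ι) * ((k * f') * (k * f')) := by rw [e1]; simp only [mul_assoc]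
      _ = 1 := by rw [hιι, h, neg_mul_neg, one_mul]

namespace TS

variable {v₀ : V} {z f c : AU V} (h : D.TS v₀ z f c)
include h

/-- eigenvectors in the plane -/
theorem eig_z {s : AddMonoid.End V} (hs : s ∈ D.K) (he : D.Eig z (v₀ + s (f.1 v₀))) :
    s = 0 := by
  obtain ⟨κ, hκ, e⟩ := he
  rw [map_add, h.zv, h.zK s hs, h.zfv, map_add κ.1] at e
  have e1 : (1 : AddMonoid.End V) v₀ + (-s) (f.1 v₀) = κ.1 v₀ + (κ.1 * s) (f.1 v₀) := by
    rw [end_mul_apply, ← e, map_neg]; rfl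
  obtain ⟨e2, e3⟩ := h.pl_inj D.K.one_mem (D.K.neg_mem hs) hκ (D.K.mul_mem hκ hs) e1
  rw [← e2, one_mul] at e3
  by_contra h0
  obtain ⟨s', hs'⟩ := D.isF.exists_unit hs h0
  have hs'' : s'.1 = s := hs'
  have e4 : s'.1 (f.1 v₀) = -(s'.1 (f.1 v₀)) := by
    rw [hs'']
    conv_lhs => rw [← e3]
    rfl
  exact h.nz (h.nz h.mx.ne) (D.two_tors h.two e4)

theorem eig_f {s : AddMonoid.End V} (hs : s ∈ D.K) (he : D.Eig f (v₀ + s (f.1 v₀))) :
    s * s = 1 := by
  obtain ⟨κ, hκ, e⟩ := he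
  rw [map_add, h.fK s hs, h.ffv, map_add κ.1] at e
  have e1 : s v₀ + (1 : AddMonoid.End V) (f.1 v₀) = κ.1 v₀ + (κ.1 * s) (f.1 v₀) := by
    rw [end_mul_apply, ← e, add_comm]; rfl
  obtain ⟨e2, e3⟩ := h.pl_inj hs D.K.one_mem hκ (D.K.mul_mem hκ hs) e1
  rw [← e2] at e3
  exact e3.symm

theorem eig_fz {s : AddMonoid.End V} (hs : s ∈ D.K) {ι : AU V} (hι : ι.1 ∈ D.K)
    (he : D.Eig (ι * (f * z)) (v₀ + s (f.1 v₀))) : s * s = -1 := by
  obtain ⟨κ, hκ, e⟩ := he
  rw [au_mul_apply, au_mul_apply, map_add, h.zv, h.zK s hs, h.zfv, map_add f.1, map_neg s,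
    map_neg f.1, h.fK s hs, h.ffv, map_add κ.1, map_add ι.1] at e
  have e1 : (-(ι.1 * s)) v₀ + ι.1 (f.1 v₀) = κ.1 v₀ + (κ.1 * s) (f.1 v₀) := by
    rw [end_mul_apply, ← e, add_comm, map_neg]; rfl
  obtain ⟨e2, e3⟩ := h.pl_inj (D.K.neg_mem (D.K.mul_mem hι hs)) hι hκ (D.K.mul_mem hκ hs) e1
  rw [← e2, neg_mul, mul_assoc] at e3
  have e4 : ι.1 * (-1) = ι.1 * (s * s) := by
    rw [mul_neg_one, e3, neg_neg]
    rw [← e3]
  exact (Units.mul_right_inj ι).mp e4 |>.symm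

omit h in
/-- coefficients are fixed -/
theorem coef_fix {g : AU V} (hg : g ∈ G) {v w : V} (hv : v ≠ 0) (hgv : g.1 v = v)
    {t k : AU V} (hk : k.1 ∈ D.K) (hgt : g.1 (t.1 v) = k.1 (t.1 v)) {α β : AddMonoid.End V}
    (hα : α ∈ D.K) (hβ : β ∈ D.K) (hw : w = α v + β (t.1 v)) (hgw : g.1 w = w)
    (hne : ¬ D.Eig t v) : cj g α = α := by
  have hα' := D.GK g hg _ hα
  have hβ' := D.GK g hg _ hβ
  have h1 : cj g α v + (cj g β * k.1) (t.1 v) = α v + β (t.1 v) := by
    have e1 : g.1 (α v) = cj g α v := by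
      rw [← cj_apply', hgv]
    have e2 : g.1 (β (t.1 v)) = (cj g β * k.1) (t.1 v) := by
      rw [end_mul_apply, ← hgt, cj_apply']
    rw [← e1, ← e2, ← map_add, ← hw, hgw]
  have h2 : (cj g α - α) v = (β - cj g β * k.1) (t.1 v) := by
    change cj g α v - α v = β (t.1 v) - (cj g β * k.1) (t.1 v)
    rw [sub_eq_sub_iff_add_eq_add, h1, add_comm]
  have hdK : β - cj g β * k.1 ∈ D.K := D.K.sub_mem hβ (D.K.mul_mem hβ' hk)
  have haK : cj g α - α ∈ D.K := D.K.sub_mem hα' hα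
  by_cases h0 : β - cj g β * k.1 = 0
  · rw [h0] at h2
    exact sub_eq_zero.mp (D.isF.eq_zero haK hv h2)
  · exfalso
    obtain ⟨l, hl⟩ := D.isF.exists_unit hdK h0
    have hl' : l.1 = β - cj g β * k.1 := hl
    rw [← hl'] at h2
    by_cases h3 : cj g α - α = 0
    · rw [h3] at h2
      have h4 : t.1 v = 0 := au_injective l (by rw [← h2, map_zero]; rfl)
      exact hv (au_injective t (by rw [h4, map_zero]))
    · obtain ⟨m, hm⟩ := D.isF.exists_unit haK h3
      have hm' : m.1 = cj g α - α := hm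
      have hlK : l.1 ∈ D.K := by rw [hl']; exact hdK
      have hmK : m.1 ∈ D.K := by rw [hm']; exact haK
      apply hne
      refine ⟨l⁻¹ * m, D.K.mul_mem (D.isF.units.inv_mem (x := l) hlK) hmK, ?_⟩
      apply au_injective l
      rw [← h2, au_mul_apply, au_apply_inv, hm']

end TS

/-- **The field with nine elements.** -/
theorem prim2_nine (hE2 : ∀ x ∈ D.E, (x ^ 2).1 ∈ D.K) (hN : (Nat.card G).Coprime 3)
    {θ : AU V} (hθ : θ.1 ∈ D.K) (hgen : ∀ k : AU V, k.1 ∈ D.K → ∃ n : ℕ, k = θ ^ n)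
    (three : (3 : AddMonoid.End V) = 0) (hθ2 : θ.1 * θ.1 = 1 - θ.1) :
    HasBase (Fin 2) G := by
  -- arithmetic
  have e2 : ∀ x : AddMonoid.End V, x + x = -x := by
    intro x
    have : x * (3 : AddMonoid.End V) = 0 := by rw [three, mul_zero]
    have h3 : x + x + x = 0 := by
      rw [← this]
      have : (3 : AddMonoid.End V) = 1 + 1 + 1 := by norm_num
      rw [this, mul_add, mul_add, mul_one]
    exact eq_neg_of_add_eq_zero_left h3
  have t4 : (θ.1 * θ.1) * (θ.1 * θ.1) = -1 := by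
    have h1 : (1 - θ.1) * (1 - θ.1) = 1 - (θ.1 + θ.1) + θ.1 * θ.1 := by noncomm_ring
    rw [hθ2, h1, e2, hθ2]
    have : (1 : AddMonoid.End V) - -θ.1 + (1 - θ.1) = 1 + 1 := by abel
    rw [this, e2]
  obtain ⟨ι, hι⟩ : ∃ ι, ι = θ * θ := ⟨_, rfl⟩
  have hιK : ι.1 ∈ D.K := by rw [hι]; exact D.K.mul_mem hθ hθ
  have hιι : ι * ι = -1 := by rw [hι]; exact Units.ext t4
  have hone : (1 : AddMonoid.End V) ≠ 0 := IsF.ne_zero_au (1 : AU V)
  have htwo : (1 : AU V) ≠ -1 := by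
    intro h
    have h1 : (1 : AddMonoid.End V) = -1 := congrArg Units.val h
    have h2 := e2 1
    rw [← h1] at h2
    exact hone (add_eq_left.mp h2)
  have hneg1 : (1 : AddMonoid.End V) ≠ -1 := fun h => htwo (Units.ext h)
  obtain ⟨v₀, i, hF⟩ := D.exists_frame
  have hi : i = 1 := by
    rcases hF.dich with h | ⟨-, h⟩
    · exact h
    · exact absurd (congrArg Units.val hιι) (h _ hιK)
  subst hi
  have hQB := QB_of_frame hF
  by_cases hEK : ∀ x ∈ D.E, x.1 ∈ D.K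
  · exact base_scalar hF.ne hθ hgen hEK
  obtain ⟨z, hz, f, hf, hzv, hzz, hff, hzf⟩ := exists_zf2 hF.toIsMax hQB hE2 hEK hιK hιι
  have hθ4 : θ ^ 4 ≠ 1 := by
    intro h
    have : θ ^ 4 = ι * ι := by rw [show 4 = 2 + 2 from rfl, pow_add, pow_two, hι]
    rw [this, hιι] at h
    exact htwo h.symm
  have h : D.TS v₀ z f θ := ⟨hF.toIsMax, hQB, hz, hf, hzv, hzz, hff, hzf, hθ, hθ4, htwo, hE2⟩
  have hθne : θ.1 ≠ 0 := IsF.ne_zero_au θ
  have hθθ1 : θ.1 * θ.1 ≠ 1 := by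
    intro h1
    rw [h1, one_mul] at t4
    exact hneg1 t4
  have hθθ1' : θ.1 * θ.1 ≠ -1 := by
    intro h1
    rw [h1, neg_mul_neg, one_mul] at t4
    exact hneg1 t4
  have hez : ¬ D.Eig z (v₀ + θ.1 (f.1 v₀)) := fun he => hθne (h.eig_z hθ he)
  have hef : ¬ D.Eig f (v₀ + θ.1 (f.1 v₀)) := fun he => hθθ1 (h.eig_f hθ he)
  have hefz : ¬ D.Eig (f * z) (v₀ + θ.1 (f.1 v₀)) := by
    rintro ⟨κ, hκ, e⟩
    apply hθθ1'
    refine h.eig_fz (ι := ι) hθ hιK ⟨ι * κ, D.K.mul_mem hιK hκ, ?_⟩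
    rw [au_mul_apply, e, au_mul_apply]
  -- the key property
  have hkey : ∀ g ∈ G, g.1 (v₀ + θ.1 (f.1 v₀)) = v₀ + θ.1 (f.1 v₀) →
      g.1 (θ.1 (θ.1 v₀)) = θ.1 (θ.1 v₀) →
      (∀ a ∈ D.K, ∀ x, g.1 (a x) = a (g.1 x)) ∧ g.1 v₀ = v₀ ∧ g.1 (f.1 v₀) = f.1 v₀ := by
    intro g hg hgv hgw
    suffices hcjθ : cj g θ.1 = θ.1 by
      have hgθ : g.1 (θ.1 (v₀ + θ.1 (f.1 v₀))) = θ.1 (v₀ + θ.1 (f.1 v₀)) := by
        rw [← cj_apply', hgv, hcjθ]
      have hgK := comm_K_of_gen h.vne hg hgv hθ hgen hgθ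
      have hgv₀ : g.1 v₀ = v₀ := by
        rw [hgK _ hθ, hgK _ hθ] at hgw
        exact au_injective θ (au_injective θ hgw)
      refine ⟨hgK, hgv₀, ?_⟩
      rw [map_add, hgv₀, hgK _ hθ] at hgv
      exact au_injective θ (add_left_cancel hgv)
    obtain ⟨t, ht, k, hk, b, hb, hbv, hbf, e⟩ := h.fix_class hg hgv hN (by
      have : (⟨g, hg⟩ : G) ^ Nat.card G = 1 := pow_card_eq_one'
      exact congrArg Subtype.val this)
    have hgt : g.1 (t.1 (v₀ + θ.1 (f.1 v₀))) = k.1 (t.1 (v₀ + θ.1 (f.1 v₀))) := by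
      have e1 : g.1 (t.1 (v₀ + θ.1 (f.1 v₀))) = (g * t * g⁻¹).1 (v₀ + θ.1 (f.1 v₀)) := by
        rw [au_mul_apply, au_mul_apply, inv_fix hgv]
      rw [e1, e, au_mul_apply (k * t) b, h.fix_v hb hbv hbf, au_mul_apply]
    have hθθK := D.K.mul_mem hθ hθ
    have hcj1 : cj g 1 = 1 := cj_one' g
    have hθ1 : θ.1 = 1 - θ.1 * θ.1 := by rw [hθ2]; abel
    have hθx : ∀ x : V, θ.1 (θ.1 x) = x - θ.1 x := fun x => DFunLike.congr_fun hθ2 x
    have h3x : ∀ x : V, x + x = -x := fun x => DFunLike.congr_fun (e2 1) x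
    rcases ht with rfl | rfl | rfl
    · have h1 := TS.coef_fix (D := D) hg h.vne hgv hk hgt (α := -(θ.1 * θ.1)) (β := -(θ.1 * θ.1))
        (D.K.neg_mem hθθK) (D.K.neg_mem hθθK) (w := θ.1 (θ.1 v₀)) (by
          rw [map_add t.1, h.zv, h.zK _ hθ, h.zfv, ← map_add]
          have e1 : v₀ + θ.1 (f.1 v₀) + (v₀ + θ.1 (-(f.1 v₀))) = -v₀ := by
            rw [map_neg, ← h3x v₀]; abel
          rw [e1, map_neg]
          change _ = -(-(θ.1 (θ.1 v₀)))
          rw [neg_neg]) hgw hez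
      have h2 : cj g (θ.1 * θ.1) = θ.1 * θ.1 := by
        rw [cj_neg] at h1
        exact neg_injective h1
      rw [hθ1, sub_eq_add_neg, cj_add, cj_neg, hcj1, h2]
    · exact TS.coef_fix (D := D) hg h.vne hgv hk hgt (α := θ.1) (β := -(θ.1 * θ.1))
        hθ (D.K.neg_mem hθθK) (w := θ.1 (θ.1 v₀)) (by
          have e1 : (-(θ.1 * θ.1)) (t.1 (v₀ + θ.1 (t.1 v₀))) =
              -(θ.1 (θ.1 (t.1 v₀))) - θ.1 (θ.1 (θ.1 v₀)) := by
            rw [map_add t.1, h.fK _ hθ, h.ffv, map_add]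
            change -(θ.1 (θ.1 (t.1 v₀))) + -(θ.1 (θ.1 (θ.1 v₀))) = _
            abel
          rw [e1, map_add, hθx v₀, hθx (t.1 v₀), map_sub, hθx v₀]
          abel) hgw hef
    · have h1 := TS.coef_fix (D := D) hg h.vne hgv hk hgt (α := 1 + θ.1) (β := -1)
        (D.K.add_mem D.K.one_mem hθ) (D.K.neg_mem D.K.one_mem) (w := θ.1 (θ.1 v₀)) (by
          have e1 : (-1 : AddMonoid.End V) ((f * z).1 (v₀ + θ.1 (f.1 v₀))) =
              -(f.1 v₀ - θ.1 v₀) := by
            rw [au_mul_apply, map_add z.1, h.zv, h.zK _ hθ, h.zfv, map_neg, map_add, map_neg,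
              h.fK _ hθ, h.ffv, ← sub_eq_add_neg]
            rfl
          have e3 : (1 + θ.1) (v₀ + θ.1 (f.1 v₀)) =
              v₀ + θ.1 (f.1 v₀) + (θ.1 v₀ + θ.1 (θ.1 (f.1 v₀))) := by
            rw [← map_add]; rfl
          have e4 : θ.1 v₀ + θ.1 v₀ = -(θ.1 v₀) := h3x _
          rw [e1, e3, hθx v₀, hθx (f.1 v₀), sub_eq_add_neg v₀, ← e4]
          abel) hgw hefz
      rw [cj_add, hcj1] at h1
      exact add_left_cancel h1
  -- the vectors
  have hv₀V := h.v₀_V0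
  have hfV : f.1 v₀ ∈ D.V0 (v₀ + θ.1 (f.1 v₀)) := D.Q_V0 h.f_Q hv₀V
  have hplV : ∀ s ∈ D.K, v₀ + s (f.1 v₀) ∈ D.V0 (v₀ + θ.1 (f.1 v₀)) := fun s hs =>
    (D.V0 _).add_mem hv₀V (D.K_V0 hs hfV)
  obtain ⟨s, hs⟩ : ∃ s : Fin 4 → AddMonoid.End V, s = ![θ.1, 0, 1, ι.1] := ⟨_, rfl⟩
  have hsK : ∀ j, s j ∈ D.K := by
    intro j; rw [hs]; fin_cases j
    · exact hθ
    · exact D.K.zero_mem
    · exact D.K.one_mem
    · exact hιK
  have hpl0 : ∀ t ∈ D.K, v₀ + t (f.1 v₀) ≠ 0 := by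
    intro t ht h0
    have h1 := h.pl_inj (a := 1) (b := t) (a' := 0) (b' := 0) D.K.one_mem ht D.K.zero_mem
      D.K.zero_mem (by
        have : (0 : AddMonoid.End V) v₀ + (0 : AddMonoid.End V) (f.1 v₀) = 0 := add_zero _
        rw [this]; exact h0)
    exact hone h1.1
  obtain ⟨t, ht⟩ : ∃ t : Fin 4 → AU V, t = ![1, z, f, ι * (f * z)] := ⟨_, rfl⟩
  have hfzE := D.E.mul_mem h.hf h.hz
  have tE : ∀ c, t c ∈ D.E := by
    intro c; rw [ht]; fin_cases c
    · exact D.E.one_mem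
    · exact h.hz
    · exact h.hf
    · exact D.E.mul_mem (D.KE _ hιK) hfzE
  have hιιx : ∀ x : V, ι.1 (ι.1 x) = -x := fun x => by rw [← au_mul_apply, hιι]; rfl
  have tfix : ∀ c, (t c).1 (v₀ + s c (f.1 v₀)) = v₀ + s c (f.1 v₀) := by
    intro c; rw [ht, hs]; fin_cases c
    · rfl
    · change z.1 (v₀ + (0 : AddMonoid.End V) (f.1 v₀)) = v₀ + (0 : AddMonoid.End V) (f.1 v₀)
      have : (0 : AddMonoid.End V) (f.1 v₀) = 0 := rfl
      rw [this, add_zero, h.zv]
    · change f.1 (v₀ + f.1 v₀) = v₀ + f.1 v₀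
      rw [map_add, h.ffv, add_comm]
    · change (ι * (f * z)).1 (v₀ + ι.1 (f.1 v₀)) = v₀ + ι.1 (f.1 v₀)
      rw [au_mul_apply, au_mul_apply, map_add, h.zv, h.zK _ hιK, h.zfv, map_neg, map_add, map_neg,
        h.fK _ hιK, h.ffv, map_add, map_neg, hιιx, neg_neg, add_comm]
  have tne : ∀ c d, c ≠ 0 → c ≠ d → ¬ D.Eig (t c) (v₀ + s d (f.1 v₀)) := by
    have z0 : (0 : AddMonoid.End V) ≠ 1 := fun h => hone h.symm
    have i1 : ι.1 * ι.1 = -1 := congrArg Units.val hιι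
    have c1 : ∀ d, (1 : Fin 4) ≠ d → s d ≠ 0 := by
      intro d hd; rw [hs]; fin_cases d
      · exact hθne
      · exact absurd rfl hd
      · exact hone
      · exact IsF.ne_zero_au ι
    have c2 : ∀ d, (2 : Fin 4) ≠ d → s d * s d ≠ 1 := by
      intro d hd; rw [hs]; fin_cases d
      · exact hθθ1
      · change (0 : AddMonoid.End V) * 0 ≠ 1
        rw [zero_mul]; exact z0
      · exact absurd rfl hd
      · change ι.1 * ι.1 ≠ 1
        rw [i1]; exact fun h => hneg1 h.symm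
    have c3 : ∀ d, (3 : Fin 4) ≠ d → s d * s d ≠ -1 := by
      intro d hd; rw [hs]; fin_cases d
      · exact hθθ1'
      · change (0 : AddMonoid.End V) * 0 ≠ -1
        rw [zero_mul]
        intro h0
        exact hone (neg_eq_zero.mp h0.symm)
      · change (1 : AddMonoid.End V) * 1 ≠ -1
        rw [one_mul]; exact hneg1
      · exact absurd rfl hd
    intro c d hc hcd he
    rw [ht] at he
    fin_cases c
    · exact hc rfl
    · exact c1 d hcd (h.eig_z (hsK d) he)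
    · exact c2 d hcd (h.eig_f (hsK d) he)
    · exact c3 d hcd (h.eig_fz (hsK d) hιK he)
  have hbfix : ∀ {b : AU V}, b ∈ D.E → b.1 v₀ = v₀ → b * f = f * b → b.1 (f.1 v₀) = f.1 v₀ :=
    fun {b} hb hbv hbf => by rw [← au_mul_apply, hbf, au_mul_apply, hbv]
  refine pf h.vne (w₀ := θ.1 (θ.1 v₀)) (D.K_V0 hθ (D.K_V0 hθ hv₀V))
    (fun g hg hgv hgw => ?_) (fun c => v₀ + s c (f.1 v₀)) (fun c => hplV _ (hsK c))
    (fun c => hpl0 _ (hsK c)) ?_ ?_ ?_ ?_
  · obtain ⟨hgK, hg1, hg2⟩ := hkey g hg hgv hgw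
    refine ⟨hgK, fun x hx => ?_⟩
    obtain ⟨t, ht, k, hk, b, hb, hbv, hbf, rfl⟩ := h.dec_Q hx
    rw [au_mul_apply (k * t) b, h.fix_v hb hbv hbf, au_mul_apply, hgK _ hk]
    congr 1
    have hfz : f.1 (z.1 (f.1 v₀)) = -v₀ := by rw [h.zfv, map_neg, h.ffv]
    rcases ht with rfl | rfl | rfl | rfl
    · exact hgv
    · rw [map_add, map_add, h.zv, h.zK _ hθ, h.zfv, hg1, hgK _ hθ, map_neg, hg2]
    · rw [map_add, map_add, h.fK _ hθ, h.ffv, hg2, hgK _ hθ, hg1]
    · rw [au_mul_apply, map_add z.1, map_add f.1, map_add g.1, h.zv, h.zK _ hθ, h.fK _ hθ, hfz,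
        hg2, hgK _ hθ, map_neg, hg1]
  · intro g hg hgv hgw c
    obtain ⟨hgK, hg1, hg2⟩ := hkey g hg hgv hgw
    rw [map_add, hg1, hgK _ (hsK c), hg2]
  · intro x hx c d hxcd
    by_contra hcd
    by_cases hc : c = 0
    · have hd : d ≠ 0 := fun h => hcd (hc.trans h.symm)
      apply tne d c hd (Ne.symm hcd)
      apply Eig.of_fix (D.E.inv_mem hx.1) (tE d) (tfix d)
      apply au_injective x
      rw [au_apply_inv]
      exact hxcd.symm
    · exact tne c d hc hcd (Eig.of_fix hx.1 (tE c) (tfix c) hxcd)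
  · intro x hx hxv
    rw [hs] at hxv
    exact ⟨hx.1, 1, D.K.one_mem, hxv⟩
  · intro x hx k l hk hl h1 h2
    have hs1 : v₀ + s 1 (f.1 v₀) = v₀ := by rw [hs]; exact add_zero v₀
    have hs2 : v₀ + s 2 (f.1 v₀) = v₀ + f.1 v₀ := by rw [hs]; rfl
    simp only [hs1, hs2] at h1 h2
    obtain ⟨t, ht, k', hk', b, hb, hbv, hbf, rfl⟩ := h.dec_Q hx
    rw [au_mul_apply (k' * t) b, hbv, au_mul_apply] at h1
    rw [au_mul_apply (k' * t) b, map_add b.1, hbv, hbfix hb hbv hbf, au_mul_apply] at h2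
    -- `f v₀` is not a multiple of `v₀`
    have hno : ∀ a ∈ D.K, ∀ l' : AU V, l'.1 ∈ D.K → a v₀ ≠ l'.1 (f.1 v₀) := by
      intro a ha l' hl' he
      have h5 := h.pl_inj (a := a) (b := 0) (a' := 0) (b' := l'.1) ha D.K.zero_mem D.K.zero_mem
        hl' (by
          change a v₀ + 0 = 0 + l'.1 (f.1 v₀)
          rw [add_zero, zero_add]; exact he)
      exact IsF.ne_zero_au l' h5.2.symm
    rcases ht with rfl | rfl | rfl | rfl
    · refine ⟨hx.1, k', hk', ?_⟩
      rw [au_mul_apply (k' * 1) b, h.fix_v hb hbv hbf, mul_one]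
    · exfalso
      rw [map_add t.1, h.zv, h.zfv, map_add, map_add, map_neg] at h2
      have h5 := h.pl_inj (a := k'.1) (b := -k'.1) (a' := l.1) (b' := l.1) hk' (D.K.neg_mem hk')
        hl hl h2
      have h6 : k'.1 = -k'.1 := by rw [h5.2]; exact h5.1
      have h7 : (k'.1) v₀ = -(k'.1 v₀) := DFunLike.congr_fun h6 v₀
      exact h.nz h.mx.ne (D.two_tors htwo h7)
    · exact absurd h1.symm (hno k.1 hk k' hk')
    · rw [au_mul_apply f z, h.zv] at h1
      exact absurd h1.symm (hno k.1 hk k' hk')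

end Dat

end Cfsg.Agent.H578
end

-- part: H578/Five
section
/-!
# The field with five elements (helper578)
-/

set_option autoImplicit false
set_option linter.unusedSectionVars false

universe u

namespace Cfsg.Agent.H578

/-- quadruples -/
abbrev Q4 := ℕ × ℕ × ℕ × ℕ

def q4z1 : Q4 → Q4 := fun x => (x.1, 4 * x.2.1, x.2.2.1, 4 * x.2.2.2)
def q4z2 : Q4 → Q4 := fun x => (x.1, x.2.1, 4 * x.2.2.1, 4 * x.2.2.2)
def q4f1 : Q4 → Q4 := fun x => (x.2.1, x.1, x.2.2.2, x.2.2.1)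
def q4f2 : Q4 → Q4 := fun x => (x.2.2.1, x.2.2.2, x.1, x.2.1)
def q4s (n : ℕ) : Q4 → Q4 := fun x => (n * x.1, n * x.2.1, n * x.2.2.1, n * x.2.2.2)
def q4a (x y : Q4) : Q4 := (x.1 + y.1, x.2.1 + y.2.1, x.2.2.1 + y.2.2.1, x.2.2.2 + y.2.2.2)
def q4T (k : ℕ) (α β γ δ : Bool) (x : Q4) : Q4 :=
  q4s k (cond δ q4f2 id (cond γ q4f1 id (cond α q4z1 id (cond β q4z2 id x))))
def q4e (x y : Q4) : Bool := (x.1 % 5 == y.1 % 5) && (x.2.1 % 5 == y.2.1 % 5) &&
  (x.2.2.1 % 5 == y.2.2.1 % 5) && (x.2.2.2 % 5 == y.2.2.2 % 5)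
def q4v : Q4 := (1, 1, 0, 1)
def q4w : Q4 := q4a (q4f1 q4v) (q4s 2 (q4f2 q4v))
def q4b : Fin 4 → Q4 := ![q4v, (1, 0, 0, 0), (1, 1, 1, 1), (1, 1, 0, 0)]

def chk (k₁ : ℕ) (α₁ β₁ γ₁ δ₁ : Bool) (k₂ : ℕ) (α₂ β₂ γ₂ δ₂ : Bool) : Bool :=
  q4e (q4a (q4T k₁ α₁ β₁ γ₁ δ₁ q4v) (q4s 2 (q4T k₂ α₂ β₂ γ₂ δ₂ q4v))) q4w &&
  q4e (q4T k₁ α₁ β₁ γ₁ δ₁ (q4T k₁ α₁ β₁ γ₁ δ₁ q4v)) q4v &&
  q4e (q4T k₂ α₂ β₂ γ₂ δ₂ (q4T k₂ α₂ β₂ γ₂ δ₂ q4v)) q4v &&
  q4e (q4T k₁ α₁ β₁ γ₁ δ₁ (q4T k₂ α₂ β₂ γ₂ δ₂ q4v)) (q4T k₂ α₂ β₂ γ₂ δ₂ (q4T k₁ α₁ β₁ γ₁ δ₁ q4v))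

def tgt (k₁ : ℕ) (α₁ β₁ γ₁ δ₁ : Bool) (k₂ : ℕ) (α₂ β₂ γ₂ δ₂ : Bool) : Bool :=
  (k₁ == 1) && !α₁ && !β₁ && γ₁ && !δ₁ && (k₂ == 1) && !α₂ && !β₂ && !γ₂ && δ₂

theorem chk_all : ∀ (k₁ : Fin 5) (α₁ β₁ γ₁ δ₁ : Bool) (k₂ : Fin 5) (α₂ β₂ γ₂ δ₂ : Bool),
    chk k₁ α₁ β₁ γ₁ δ₁ k₂ α₂ β₂ γ₂ δ₂ = true → tgt k₁ α₁ β₁ γ₁ δ₁ k₂ α₂ β₂ γ₂ δ₂ = true := by
  decide +kernel

theorem chk_orb : ∀ (k : Fin 5) (α β γ δ : Bool) (c d : Fin 4),
    q4e (q4T k α β γ δ (q4b c)) (q4b d) = true → c = d := by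
  decide +kernel

theorem chk_S : ∀ (k : Fin 5) (α β γ δ : Bool) (m n : Fin 5),
    q4e (q4T k α β γ δ (q4b 1)) (q4s m (q4b 1)) = true →
    q4e (q4T k α β γ δ (q4b 2)) (q4s n (q4b 2)) = true → k ≠ 0 →
    q4e (q4T k α β γ δ q4v) (q4s k q4v) = true := by
  decide +kernel

theorem chk_ne : ∀ c : Fin 4, q4e (q4b c) (0, 0, 0, 0) = false := by decide

variable {V : Type u} [AddCommGroup V]

namespace Dat

variable {G : Subgroup (AU V)} {D : Dat G}

/-- components with respect to an involution -/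
theorem comp2' (D : Dat G) [Nontrivial V] (two : (1 : AU V) ≠ -1) {z : AU V} {A B A' B' : V}
    (h1 : z.1 A = A) (h2 : z.1 B = -B) (h3 : z.1 A' = A')
    (h4 : z.1 B' = -B') (h5 : A + B = A' + B') : A = A' ∧ B = B' := by
  have h6 : A - B = A' - B' := by
    have := congrArg z.1 h5
    rw [map_add, map_add, h1, h2, h3, h4, ← sub_eq_add_neg, ← sub_eq_add_neg] at this
    exact this
  have h7 : A = A' := by
    apply sub_eq_zero.mp
    apply D.two_tors two
    have e1 : A - A' = B' - B := by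
      rw [sub_eq_sub_iff_add_eq_add, h5, add_comm]
    have e2 : A - A' = B - B' := by
      rw [sub_eq_sub_iff_add_eq_add, add_comm B A', ← sub_eq_sub_iff_add_eq_add]
      exact h6
    calc A - A' = B' - B := e1
      _ = -(B - B') := by abel
      _ = -(A - A') := by rw [e2]
  refine ⟨h7, ?_⟩
  rw [h7] at h5
  exact add_left_cancel h5

/-- the setup for two planes over the field with five elements -/
structure FS (D : Dat G) [Nontrivial V] (v₀ : V) (z₁ f₁ z₂ f₂ : AU V) : Prop where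
  mx : D.IsMax v₀
  QB : D.Q v₀ ≤ D.B v₀
  hz₁ : z₁ ∈ D.E
  hf₁ : f₁ ∈ D.E
  hz₂ : z₂ ∈ D.E
  hf₂ : f₂ ∈ D.E
  zv₁ : z₁.1 v₀ = v₀
  zv₂ : z₂.1 v₀ = v₀
  zz₁ : z₁ * z₁ = 1
  zz₂ : z₂ * z₂ = 1
  ff₁ : f₁ * f₁ = 1
  ff₂ : f₂ * f₂ = 1
  a11 : z₁ * f₁ = -(f₁ * z₁)
  a22 : z₂ * f₂ = -(f₂ * z₂)
  c12 : z₁ * f₂ = f₂ * z₁
  c21 : z₂ * f₁ = f₁ * z₂
  cf : f₁ * f₂ = f₂ * f₁
  two : (1 : AU V) ≠ -1
  E2 : ∀ x ∈ D.E, (x ^ 2).1 ∈ D.K
  five : ∀ x : V, (5 : ℕ) • x = 0
  int : ∀ a ∈ D.K, ∃ n : Fin 5, ∀ x : V, a x = (n : ℕ) • x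

variable [Nontrivial V] [Finite V]

namespace FS

variable {v₀ : V} {z₁ f₁ z₂ f₂ : AU V} (h : D.FS v₀ z₁ f₁ z₂ f₂)
include h

theorem neg4 (x : V) : (4 : ℕ) • x = -x := by
  have := h.five x
  rw [show 5 = 4 + 1 from rfl, succ_nsmul] at this
  exact eq_neg_of_add_eq_zero_left this

theorem a1 : z₁.1 (f₁.1 v₀) = -(f₁.1 v₀) := by
  rw [← au_mul_apply, h.a11, au_neg_apply, au_mul_apply, h.zv₁]

theorem a2 : z₁.1 (f₂.1 v₀) = f₂.1 v₀ := by
  rw [← au_mul_apply, h.c12, au_mul_apply, h.zv₁]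

theorem a3 : z₁.1 (f₁.1 (f₂.1 v₀)) = -(f₁.1 (f₂.1 v₀)) := by
  rw [← au_mul_apply z₁, h.a11, au_neg_apply, au_mul_apply, h.a2]

theorem b1 : z₂.1 (f₁.1 v₀) = f₁.1 v₀ := by
  rw [← au_mul_apply, h.c21, au_mul_apply, h.zv₂]

theorem b2 : z₂.1 (f₂.1 v₀) = -(f₂.1 v₀) := by
  rw [← au_mul_apply, h.a22, au_neg_apply, au_mul_apply, h.zv₂]

theorem b3 : z₂.1 (f₁.1 (f₂.1 v₀)) = -(f₁.1 (f₂.1 v₀)) := by
  rw [← au_mul_apply z₂, h.c21, au_mul_apply, h.b2, map_neg]

theorem f11 (x : V) : f₁.1 (f₁.1 x) = x := by rw [← au_mul_apply, h.ff₁]; rfl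

theorem f22 (x : V) : f₂.1 (f₂.1 x) = x := by rw [← au_mul_apply, h.ff₂]; rfl

theorem f21 (x : V) : f₂.1 (f₁.1 x) = f₁.1 (f₂.1 x) := by
  rw [← au_mul_apply, ← h.cf, au_mul_apply]

theorem nz {x : AU V} {u : V} (hu : u ≠ 0) : x.1 u ≠ 0 := fun h0 =>
  hu (au_injective x (by rw [h0, map_zero]))

/-- the vectors with given coordinates -/
def PP (v₀ : V) (f₁ f₂ : AU V) (x : Q4) : V :=
  x.1 • v₀ + x.2.1 • f₁.1 v₀ + x.2.2.1 • f₂.1 v₀ + x.2.2.2 • f₁.1 (f₂.1 v₀)

omit h in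
theorem PP_add (x y : Q4) : PP v₀ f₁ f₂ (q4a x y) = PP v₀ f₁ f₂ x + PP v₀ f₁ f₂ y := by
  unfold PP q4a
  simp only [add_nsmul]
  abel

omit h in
theorem PP_s (n : ℕ) (x : Q4) : PP v₀ f₁ f₂ (q4s n x) = n • PP v₀ f₁ f₂ x := by
  unfold PP q4s
  simp only [mul_nsmul', nsmul_add]

theorem PP_z1 (x : Q4) : z₁.1 (PP v₀ f₁ f₂ x) = PP v₀ f₁ f₂ (q4z1 x) := by
  unfold PP q4z1
  simp only [map_add, map_nsmul, h.zv₁, h.a1, h.a2, h.a3, mul_comm 4, mul_nsmul', h.neg4]

theorem PP_z2 (x : Q4) : z₂.1 (PP v₀ f₁ f₂ x) = PP v₀ f₁ f₂ (q4z2 x) := by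
  unfold PP q4z2
  simp only [map_add, map_nsmul, h.zv₂, h.b1, h.b2, h.b3, mul_comm 4, mul_nsmul', h.neg4]

theorem PP_f1 (x : Q4) : f₁.1 (PP v₀ f₁ f₂ x) = PP v₀ f₁ f₂ (q4f1 x) := by
  unfold PP q4f1
  simp only [map_add, map_nsmul, h.f11]
  abel

theorem PP_f2 (x : Q4) : f₂.1 (PP v₀ f₁ f₂ x) = PP v₀ f₁ f₂ (q4f2 x) := by
  unfold PP q4f2
  simp only [map_add, map_nsmul, h.f22, h.f21]
  abel

/-- independence -/
theorem comp4 {A B C E A' B' C' E' : V}
    (hA1 : z₁.1 A = A) (hA2 : z₂.1 A = A) (hB1 : z₁.1 B = -B) (hB2 : z₂.1 B = B)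
    (hC1 : z₁.1 C = C) (hC2 : z₂.1 C = -C) (hE1 : z₁.1 E = -E) (hE2 : z₂.1 E = -E)
    (hA1' : z₁.1 A' = A') (hA2' : z₂.1 A' = A') (hB1' : z₁.1 B' = -B') (hB2' : z₂.1 B' = B')
    (hC1' : z₁.1 C' = C') (hC2' : z₂.1 C' = -C') (hE1' : z₁.1 E' = -E') (hE2' : z₂.1 E' = -E')
    (e : A + B + C + E = A' + B' + C' + E') : A = A' ∧ B = B' ∧ C = C' ∧ E = E' := by
  obtain ⟨e1, e2⟩ := comp2' D h.two (z := z₁) (A := A + C) (B := B + E) (A' := A' + C')
    (B' := B' + E') (by rw [map_add, hA1, hC1]) (by rw [map_add, hB1, hE1, neg_add])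
    (by rw [map_add, hA1', hC1']) (by rw [map_add, hB1', hE1', neg_add])
    (by
      calc A + C + (B + E) = A + B + C + E := by abel
        _ = A' + B' + C' + E' := e
        _ = _ := by abel)
  obtain ⟨e3, e4⟩ := comp2' D h.two (z := z₂) hA2 hC2 hA2' hC2' e1
  obtain ⟨e5, e6⟩ := comp2' D h.two (z := z₂) hB2 hE2 hB2' hE2' e2
  exact ⟨e3, e5, e4, e6⟩

theorem order5 {x : V} (hx : x ≠ 0) : addOrderOf x = 5 := by
  have : Fact (Nat.Prime 5) := ⟨by norm_num⟩
  exact addOrderOf_eq_prime (h.five x) hx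

theorem smul_eq {x : V} (hx : x ≠ 0) {m n : ℕ} (e : m • x = n • x) : m % 5 = n % 5 := by
  have := nsmul_eq_nsmul_iff_modEq.mp e
  rw [h.order5 hx] at this
  exact this

theorem PP_inj {x y : Q4} (e : PP v₀ f₁ f₂ x = PP v₀ f₁ f₂ y) : q4e x y = true := by
  unfold PP at e
  obtain ⟨e1, e2, e3, e4⟩ := h.comp4
    (by rw [map_nsmul, h.zv₁]) (by rw [map_nsmul, h.zv₂])
    (by rw [map_nsmul, h.a1, smul_neg]) (by rw [map_nsmul, h.b1])
    (by rw [map_nsmul, h.a2]) (by rw [map_nsmul, h.b2, smul_neg])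
    (by rw [map_nsmul, h.a3, smul_neg]) (by rw [map_nsmul, h.b3, smul_neg])
    (by rw [map_nsmul, h.zv₁]) (by rw [map_nsmul, h.zv₂])
    (by rw [map_nsmul, h.a1, smul_neg]) (by rw [map_nsmul, h.b1])
    (by rw [map_nsmul, h.a2]) (by rw [map_nsmul, h.b2, smul_neg])
    (by rw [map_nsmul, h.a3, smul_neg]) (by rw [map_nsmul, h.b3, smul_neg]) e
  have g1 := h.smul_eq h.mx.ne e1
  have g2 := h.smul_eq (h.nz h.mx.ne) e2
  have g3 := h.smul_eq (h.nz h.mx.ne) e3
  have g4 := h.smul_eq (h.nz (h.nz h.mx.ne)) e4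
  unfold q4e
  rw [g1, g2, g3, g4]
  simp

theorem cm_fix {a b : AU V} (ha : a ∈ D.E) (hb : b ∈ D.E) (hav : a.1 v₀ = v₀)
    (hbv : b.1 v₀ = v₀) : a * b = b * a := by
  apply cm_eq_one.mp
  apply eq_one_of_fix h.mx.ne (cm_K ha hb)
  have h1 : (b⁻¹).1 v₀ = v₀ := by apply au_injective b; rw [au_apply_inv, hbv]
  have h2 : (a⁻¹).1 v₀ = v₀ := by apply au_injective a; rw [au_apply_inv, hav]
  unfold cm
  rw [au_mul_apply, au_mul_apply, au_mul_apply, h1, h2, hbv, hav]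

theorem PPv : PP v₀ f₁ f₂ q4v = v₀ + f₁.1 v₀ + 0 + f₁.1 (f₂.1 v₀) := by
  unfold PP q4v
  simp

/-- the stabiliser of the vector -/
theorem stab_v {x : AU V} (hx : x ∈ D.E) (hxv : x.1 (PP v₀ f₁ f₂ q4v) = PP v₀ f₁ f₂ q4v) :
    x.1 v₀ = v₀ ∧ x * f₁ = f₁ * x ∧ x * f₂ = f₂ * x := by
  rw [h.PPv, map_add, map_add, map_add, map_zero] at hxv
  have hx0 : ∀ {y : V}, y ≠ 0 → x.1 y ≠ 0 := fun {y} hy => h.nz hy
  have pos : ∀ {z : AU V} {y : V}, x * z = z * x → z.1 y = y → z.1 (x.1 y) = x.1 y := by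
    intro z y h1 h2
    rw [← au_mul_apply, ← h1, au_mul_apply, h2]
  have pos' : ∀ {z : AU V} {y : V}, x * z = z * x → z.1 y = -y → z.1 (x.1 y) = -(x.1 y) := by
    intro z y h1 h2
    rw [← au_mul_apply, ← h1, au_mul_apply, h2, map_neg]
  have neg : ∀ {z : AU V} {y : V}, x * z = -(z * x) → z.1 y = y → z.1 (x.1 y) = -(x.1 y) := by
    intro z y h1 h2
    have h3 : z * x = -(x * z) := by rw [h1, neg_neg]
    rw [← au_mul_apply, h3, au_neg_apply, au_mul_apply, h2]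
  have neg' : ∀ {z : AU V} {y : V}, x * z = -(z * x) → z.1 y = -y → z.1 (x.1 y) = x.1 y := by
    intro z y h1 h2
    have h3 : z * x = -(x * z) := by rw [h1, neg_neg]
    rw [← au_mul_apply, h3, au_neg_apply, au_mul_apply, h2, map_neg, neg_neg]
  have z0 : z₁.1 (0 : V) = 0 := map_zero _
  have z0' : z₁.1 (0 : V) = -0 := by rw [map_zero, neg_zero]
  have w0 : z₂.1 (0 : V) = 0 := map_zero _
  have w0' : z₂.1 (0 : V) = -0 := by rw [map_zero, neg_zero]
  rcases mul_pm h.E2 hx h.hz₁ with q1 | q1 <;> rcases mul_pm h.E2 hx h.hz₂ with q2 | q2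
  · obtain ⟨e1, e2, -, e4⟩ := h.comp4 (pos q1 h.zv₁) (pos q2 h.zv₂) (pos' q1 h.a1) (pos q2 h.b1)
      z0 w0' (pos' q1 h.a3) (pos' q2 h.b3) h.zv₁ h.zv₂ h.a1 h.b1 z0 w0' h.a3 h.b3 hxv
    have e5 : x * f₁ = f₁ * x := by
      rcases mul_pm h.E2 hx h.hf₁ with q3 | q3
      · exact q3
      · exfalso
        rw [← au_mul_apply, q3, au_neg_apply, au_mul_apply, e1] at e2
        exact h.nz h.mx.ne (D.two_tors h.two e2.symm)
    refine ⟨e1, e5, ?_⟩
    have e6 : x.1 (f₂.1 v₀) = f₂.1 v₀ := by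
      apply au_injective f₁
      rw [← au_mul_apply f₁ x, ← e5, au_mul_apply, e4]
    rcases mul_pm h.E2 hx h.hf₂ with q3 | q3
    · exact q3
    · exfalso
      rw [← au_mul_apply, q3, au_neg_apply, au_mul_apply, e1] at e6
      exact h.nz h.mx.ne (D.two_tors h.two e6.symm)
  · exfalso
    -- `x v₀` has type (+,-)
    obtain ⟨-, -, e3, -⟩ := h.comp4 (A := 0) (B := 0) (C := x.1 v₀)
      (E := x.1 (f₁.1 v₀)) (A' := v₀ - 0) (B' := f₁.1 v₀ - x.1 (f₁.1 (f₂.1 v₀))) (C' := 0)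
      (E' := f₁.1 (f₂.1 v₀)) z0 w0 z0' w0 (pos q1 h.zv₁) (neg q2 h.zv₂) (pos' q1 h.a1)
      (neg q2 h.b1) (by rw [sub_zero]; exact h.zv₁) (by rw [sub_zero]; exact h.zv₂)
      (by rw [map_sub, h.a1, pos' q1 h.a3]; abel) (by rw [map_sub, h.b1, neg' q2 h.b3])
      z0 w0' h.a3 h.b3 (by
        have : 0 + 0 + x.1 v₀ + x.1 (f₁.1 v₀) = (x.1 v₀ + x.1 (f₁.1 v₀) + 0 +
          x.1 (f₁.1 (f₂.1 v₀))) - x.1 (f₁.1 (f₂.1 v₀)) := by abel
        rw [this, hxv]; abel)
    exact hx0 h.mx.ne e3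
  · exfalso
    -- `x f₁ f₂ v₀` has type (+,-)
    obtain ⟨-, -, e3, -⟩ := h.comp4 (A := x.1 (f₁.1 v₀)) (B := x.1 v₀)
      (C := x.1 (f₁.1 (f₂.1 v₀))) (E := 0) (A' := v₀) (B' := f₁.1 v₀) (C' := 0)
      (E' := f₁.1 (f₂.1 v₀)) (neg' q1 h.a1) (pos q2 h.b1) (neg q1 h.zv₁) (pos q2 h.zv₂)
      (neg' q1 h.a3) (pos' q2 h.b3) z0' w0' h.zv₁ h.zv₂ h.a1 h.b1 z0 w0' h.a3 h.b3 (by
        rw [← hxv]; abel)
    exact hx0 (h.nz (h.nz h.mx.ne)) e3
  · exfalso
    -- `x f₁ v₀` has type (+,-)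
    obtain ⟨-, -, e3, -⟩ := h.comp4 (A := x.1 (f₁.1 (f₂.1 v₀))) (B := 0)
      (C := x.1 (f₁.1 v₀)) (E := x.1 v₀) (A' := v₀) (B' := f₁.1 v₀) (C' := 0)
      (E' := f₁.1 (f₂.1 v₀)) (neg' q1 h.a3) (neg' q2 h.b3) z0' w0 (neg' q1 h.a1)
      (neg q2 h.b1) (neg q1 h.zv₁) (neg q2 h.zv₂) h.zv₁ h.zv₂ h.a1 h.b1 z0 w0' h.a3 h.b3 (by
        rw [← hxv]; abel)
    exact hx0 (h.nz h.mx.ne) e3

/-- congruent coordinates -/
theorem PP_congr {x y : Q4} (e : q4e x y = true) : PP v₀ f₁ f₂ x = PP v₀ f₁ f₂ y := by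
  have key : ∀ (w : V) {m n : ℕ}, m % 5 = n % 5 → m • w = n • w := by
    intro w m n hmn
    have h1 : ∀ k : ℕ, k • w = (k % 5) • w := by
      intro k
      conv_lhs => rw [← Nat.div_add_mod k 5]
      rw [add_nsmul, mul_nsmul, h.five, nsmul_zero, zero_add]
    rw [h1 m, h1 n, hmn]
  unfold q4e at e
  simp only [Bool.and_eq_true, beq_iff_eq] at e
  obtain ⟨⟨⟨e1, e2⟩, e3⟩, e4⟩ := e
  unfold PP
  rw [key _ e1, key _ e2, key _ e3, key _ e4]

theorem fix_P {b : AU V} (hbv : b.1 v₀ = v₀) (h1 : b * f₁ = f₁ * b)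
    (h2 : b * f₂ = f₂ * b) (u : Q4) : b.1 (PP v₀ f₁ f₂ u) = PP v₀ f₁ f₂ u := by
  have e1 : b.1 (f₁.1 v₀) = f₁.1 v₀ := by rw [← au_mul_apply, h1, au_mul_apply, hbv]
  have e2 : b.1 (f₂.1 v₀) = f₂.1 v₀ := by rw [← au_mul_apply, h2, au_mul_apply, hbv]
  have e3 : b.1 (f₁.1 (f₂.1 v₀)) = f₁.1 (f₂.1 v₀) := by
    rw [← au_mul_apply b f₁, h1, au_mul_apply, e2]
  unfold PP
  simp only [map_add, map_nsmul, hbv, e1, e2, e3]

theorem f1_Q : f₁ ∈ D.Q (PP v₀ f₁ f₂ q4v) :=
  ⟨h.hf₁, fun _ ha hav => (h.stab_v ha hav).2.1.symm⟩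

theorem f2_Q : f₂ ∈ D.Q (PP v₀ f₁ f₂ q4v) :=
  ⟨h.hf₂, fun _ ha hav => (h.stab_v ha hav).2.2.symm⟩

theorem V0_P (u : Q4) : PP v₀ f₁ f₂ u ∈ D.V0 (PP v₀ f₁ f₂ q4v) := fun a ha hav => by
  obtain ⟨h1, h2, h3⟩ := h.stab_v ha hav
  exact h.fix_P h1 h2 h3 u

/-- elements commuting with `z₁`, `z₂` -/
theorem dec_act₀ {y : AU V} (hy : y ∈ D.Q (PP v₀ f₁ f₂ q4v)) (q1 : y * z₁ = z₁ * y)
    (q2 : y * z₂ = z₂ * y) : ∃ (k : Fin 5) (α β : Bool), k ≠ 0 ∧
      ∀ u, y.1 (PP v₀ f₁ f₂ u) =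
        PP v₀ f₁ f₂ (q4s k (cond α q4z1 id (cond β q4z2 id u))) := by
  -- adjusting elements
  have adj : ∀ a ∈ D.E, a.1 v₀ = v₀ → ∃ α β : Bool,
      (∀ u, a.1 (PP v₀ f₁ f₂ u) = PP v₀ f₁ f₂ (cond α q4z1 id (cond β q4z2 id u))) ∧
      y * a = a * y := by
    intro a ha hav
    have hcz : ∀ z b : AU V, z * z = 1 → y * z = z * y → y * (z * b) = (z * b) * y →
        y * b = b * y := by
      intro z b h1 h2 h3
      calc y * b = (z * z) * y * b := by rw [h1, one_mul]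
        _ = z * (z * y) * b := by simp only [mul_assoc]
        _ = z * (y * (z * b)) := by rw [← h2]; simp only [mul_assoc]
        _ = z * ((z * b) * y) := by rw [h3]
        _ = (z * z) * (b * y) := by simp only [mul_assoc]
        _ = b * y := by rw [h1, one_mul]
    have hgood : ∀ b ∈ D.E, b.1 v₀ = v₀ → b * f₁ = f₁ * b → b * f₂ = f₂ * b → y * b = b * y :=
      fun b hb hbv h1 h2 => hy.2 b hb (h.fix_P hbv h1 h2 q4v)
    have hzz : ∀ {z : AU V}, z * z = 1 → ∀ x, z.1 (z.1 x) = x := fun {z} hz x => by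
      rw [← au_mul_apply, hz]; rfl
    have m1 : a * f₁ = f₁ * a ∨ a * f₁ = -(f₁ * a) := mul_pm h.E2 ha h.hf₁
    have m2 : a * f₂ = f₂ * a ∨ a * f₂ = -(f₂ * a) := mul_pm h.E2 ha h.hf₂
    -- `z₁ a`
    have n1 : ∀ b : AU V, b * f₁ = -(f₁ * b) → (z₁ * b) * f₁ = f₁ * (z₁ * b) := by
      intro b hb
      rw [mul_assoc, hb, mul_neg, ← mul_assoc, h.a11, neg_mul, neg_neg, mul_assoc]
    have n2 : ∀ b : AU V, b * f₂ = f₂ * b → (z₁ * b) * f₂ = f₂ * (z₁ * b) := by
      intro b hb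
      rw [mul_assoc, hb, ← mul_assoc, h.c12, mul_assoc]
    have n3 : ∀ b : AU V, b * f₂ = -(f₂ * b) → (z₂ * b) * f₂ = f₂ * (z₂ * b) := by
      intro b hb
      rw [mul_assoc, hb, mul_neg, ← mul_assoc, h.a22, neg_mul, neg_neg, mul_assoc]
    have n4 : ∀ b : AU V, b * f₁ = f₁ * b → (z₂ * b) * f₁ = f₁ * (z₂ * b) := by
      intro b hb
      rw [mul_assoc, hb, ← mul_assoc, h.c21, mul_assoc]
    have n5 : ∀ b : AU V, b * f₁ = -(f₁ * b) → (z₂ * b) * f₁ = -(f₁ * (z₂ * b)) := by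
      intro b hb
      rw [mul_assoc, hb, mul_neg, ← mul_assoc, h.c21, mul_assoc]
    have v1 : ∀ b : AU V, b.1 v₀ = v₀ → (z₁ * b).1 v₀ = v₀ := fun b hb => by
      rw [au_mul_apply, hb, h.zv₁]
    have v2 : ∀ b : AU V, b.1 v₀ = v₀ → (z₂ * b).1 v₀ = v₀ := fun b hb => by
      rw [au_mul_apply, hb, h.zv₂]
    rcases m1 with m1 | m1 <;> rcases m2 with m2 | m2
    · exact ⟨false, false, fun u => h.fix_P hav m1 m2 u, hgood a ha hav m1 m2⟩
    · refine ⟨false, true, fun u => ?_, ?_⟩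
      · have e1 := h.fix_P (v2 a hav) (n4 a m1) (n3 a m2) u
        apply au_injective z₂
        rw [← au_mul_apply z₂ a, e1]
        change _ = z₂.1 (PP v₀ f₁ f₂ (q4z2 u))
        rw [← h.PP_z2, hzz h.zz₂]
      · exact hcz z₂ a h.zz₂ q2 (hgood _ (D.E.mul_mem h.hz₂ ha) (v2 a hav) (n4 a m1) (n3 a m2))
    · refine ⟨true, false, fun u => ?_, ?_⟩
      · have e1 := h.fix_P (v1 a hav) (n1 a m1) (n2 a m2) u
        apply au_injective z₁
        rw [← au_mul_apply z₁ a, e1]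
        change _ = z₁.1 (PP v₀ f₁ f₂ (q4z1 u))
        rw [← h.PP_z1, hzz h.zz₁]
      · exact hcz z₁ a h.zz₁ q1 (hgood _ (D.E.mul_mem h.hz₁ ha) (v1 a hav) (n1 a m1) (n2 a m2))
    · have e0 := v1 _ (v2 a hav)
      have e2 := n1 _ (n5 a m1)
      have e3 := n2 _ (n3 a m2)
      refine ⟨true, true, fun u => ?_, ?_⟩
      · have e1 := h.fix_P e0 e2 e3 u
        apply au_injective z₂
        apply au_injective z₁
        rw [← au_mul_apply z₂ a, ← au_mul_apply z₁, e1]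
        change _ = z₁.1 (z₂.1 (PP v₀ f₁ f₂ (q4z1 (q4z2 u))))
        have hc := h.cm_fix h.hz₁ h.hz₂ h.zv₁ h.zv₂
        rw [← au_mul_apply z₁ z₂, hc, au_mul_apply, ← h.PP_z1, hzz h.zz₁, ← h.PP_z2,
          hzz h.zz₂]
      · exact hcz z₂ a h.zz₂ q2 (hcz z₁ _ h.zz₁ q1
          (hgood _ (D.E.mul_mem h.hz₁ (D.E.mul_mem h.hz₂ ha)) e0 e2 e3))
  have hyQ : y ∈ D.Q v₀ := ⟨hy.1, fun a ha hav => (adj a ha hav).choose_spec.choose_spec.2⟩
  obtain ⟨-, κ, hκ, hyκ⟩ := h.QB hyQ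
  have hki : (κ⁻¹).1 ∈ D.K := D.isF.units.inv_mem (x := κ) hκ
  obtain ⟨α, β, hact, -⟩ := adj (κ⁻¹ * y) (D.E.mul_mem (D.KE _ hki) hy.1) (by
    rw [au_mul_apply, hyκ, au_inv_apply])
  obtain ⟨k, hk⟩ := h.int κ.1 hκ
  refine ⟨k, α, β, ?_, fun u => ?_⟩
  · rintro rfl
    have := hk v₀
    rw [show (((0 : Fin 5) : ℕ)) = 0 from rfl, zero_nsmul] at this
    exact h.nz h.mx.ne this
  · have e1 : y.1 (PP v₀ f₁ f₂ u) = κ.1 ((κ⁻¹ * y).1 (PP v₀ f₁ f₂ u)) := by
      rw [← au_mul_apply, mul_inv_cancel_left]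
    rw [e1, hact, hk, PP_s]

/-- the action of the elements of `Q v` -/
theorem dec_act {x : AU V} (hx : x ∈ D.Q (PP v₀ f₁ f₂ q4v)) :
    ∃ (k : Fin 5) (α β γ δ : Bool), k ≠ 0 ∧
      ∀ u, x.1 (PP v₀ f₁ f₂ u) = PP v₀ f₁ f₂ (q4T k α β γ δ u) := by
  have n1 : ∀ b : AU V, b * z₁ = -(z₁ * b) → (f₁ * b) * z₁ = z₁ * (f₁ * b) := by
    intro b hb
    rw [mul_assoc, hb, mul_neg, ← mul_assoc, ← mul_assoc, h.a11, neg_mul]
  have n2 : ∀ b : AU V, b * z₂ = z₂ * b → (f₁ * b) * z₂ = z₂ * (f₁ * b) := by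
    intro b hb
    rw [mul_assoc, hb, ← mul_assoc, ← mul_assoc, h.c21]
  have n3 : ∀ b : AU V, b * z₂ = -(z₂ * b) → (f₂ * b) * z₂ = z₂ * (f₂ * b) := by
    intro b hb
    rw [mul_assoc, hb, mul_neg, ← mul_assoc, ← mul_assoc, h.a22, neg_mul]
  have n4 : ∀ b : AU V, b * z₁ = z₁ * b → (f₂ * b) * z₁ = z₁ * (f₂ * b) := by
    intro b hb
    rw [mul_assoc, hb, ← mul_assoc, ← mul_assoc, h.c12]
  have n5 : ∀ b : AU V, b * z₁ = -(z₁ * b) → (f₂ * b) * z₁ = -(z₁ * (f₂ * b)) := by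
    intro b hb
    rw [mul_assoc, hb, mul_neg, ← mul_assoc, ← mul_assoc, h.c12]
  rcases mul_pm h.E2 hx.1 h.hz₁ with m1 | m1 <;> rcases mul_pm h.E2 hx.1 h.hz₂ with m2 | m2
  · obtain ⟨k, α, β, hk, hact⟩ := h.dec_act₀ hx m1 m2
    exact ⟨k, α, β, false, false, hk, hact⟩
  · obtain ⟨k, α, β, hk, hact⟩ := h.dec_act₀ ((D.Q _).mul_mem h.f2_Q hx) (n4 x m1) (n3 x m2)
    refine ⟨k, α, β, false, true, hk, fun u => ?_⟩
    have e1 := hact u
    rw [au_mul_apply] at e1
    rw [← h.f22 (x.1 _), e1, h.PP_f2]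
    rfl
  · obtain ⟨k, α, β, hk, hact⟩ := h.dec_act₀ ((D.Q _).mul_mem h.f1_Q hx) (n1 x m1) (n2 x m2)
    refine ⟨k, α, β, true, false, hk, fun u => ?_⟩
    have e1 := hact u
    rw [au_mul_apply] at e1
    rw [← h.f11 (x.1 _), e1, h.PP_f1]
    rfl
  · obtain ⟨k, α, β, hk, hact⟩ := h.dec_act₀
      ((D.Q _).mul_mem h.f1_Q ((D.Q _).mul_mem h.f2_Q hx)) (n1 _ (n5 x m1)) (n2 _ (n3 x m2))
    refine ⟨k, α, β, true, true, hk, fun u => ?_⟩
    have e1 := hact u
    rw [au_mul_apply, au_mul_apply] at e1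
    rw [← h.f22 (x.1 _), ← h.f11 (f₂.1 (x.1 _)), e1, h.PP_f1, h.PP_f2]
    rfl

/-- **Two planes over the field with five elements.** -/
theorem base2 : HasBase (Fin 2) G := by
  have hv0 : PP v₀ f₁ f₂ q4v ≠ 0 := by
    intro h0
    have h1 : PP v₀ f₁ f₂ (0, 0, 0, 0) = 0 := by unfold PP; simp
    rw [← h1] at h0
    have := h.PP_inj h0
    exact absurd this (by decide)
  have h2x : ∀ x : V, (2 : ℕ) • x = x + x := fun x => two_nsmul x
  -- the key property
  have hkey : ∀ g ∈ G, g.1 (PP v₀ f₁ f₂ q4v) = PP v₀ f₁ f₂ q4v →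
      g.1 (PP v₀ f₁ f₂ q4w) = PP v₀ f₁ f₂ q4w →
      (∀ a ∈ D.K, ∀ x, g.1 (a x) = a (g.1 x)) ∧ ∀ u, g.1 (PP v₀ f₁ f₂ u) = PP v₀ f₁ f₂ u := by
    intro g hg hgv hgw
    refine ⟨fun a ha x => ?_, ?_⟩
    · obtain ⟨n, hn⟩ := h.int a ha
      rw [hn, hn, map_nsmul]
    have hx₁Q := conj_Q hg hgv h.f1_Q
    have hx₂Q := conj_Q hg hgv h.f2_Q
    obtain ⟨x₁, hx₁⟩ : ∃ x, x = g * f₁ * g⁻¹ := ⟨_, rfl⟩
    obtain ⟨x₂, hx₂⟩ : ∃ x, x = g * f₂ * g⁻¹ := ⟨_, rfl⟩
    rw [← hx₁] at hx₁Q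
    rw [← hx₂] at hx₂Q
    obtain ⟨k₁, α₁, β₁, γ₁, δ₁, -, act₁⟩ := h.dec_act hx₁Q
    obtain ⟨k₂, α₂, β₂, γ₂, δ₂, -, act₂⟩ := h.dec_act hx₂Q
    have g1 : g.1 (f₁.1 (PP v₀ f₁ f₂ q4v)) = x₁.1 (PP v₀ f₁ f₂ q4v) := by
      rw [hx₁, au_mul_apply, au_mul_apply, inv_fix hgv]
    have g2 : g.1 (f₂.1 (PP v₀ f₁ f₂ q4v)) = x₂.1 (PP v₀ f₁ f₂ q4v) := by
      rw [hx₂, au_mul_apply, au_mul_apply, inv_fix hgv]
    have g12 : g.1 (f₁.1 (f₂.1 (PP v₀ f₁ f₂ q4v))) = x₁.1 (x₂.1 (PP v₀ f₁ f₂ q4v)) := by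
      rw [← g2, hx₁, au_mul_apply, au_mul_apply, au_inv_apply]
    have hw : PP v₀ f₁ f₂ q4w = f₁.1 (PP v₀ f₁ f₂ q4v) + 2 • f₂.1 (PP v₀ f₁ f₂ q4v) := by
      unfold q4w
      rw [PP_add, PP_s, h.PP_f1, h.PP_f2]
    have s1 : x₁ * x₁ = 1 := by
      rw [hx₁]
      calc g * f₁ * g⁻¹ * (g * f₁ * g⁻¹) = g * (f₁ * f₁) * g⁻¹ := by group
        _ = 1 := by rw [h.ff₁]; group
    have s2 : x₂ * x₂ = 1 := by
      rw [hx₂]
      calc g * f₂ * g⁻¹ * (g * f₂ * g⁻¹) = g * (f₂ * f₂) * g⁻¹ := by group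
        _ = 1 := by rw [h.ff₂]; group
    have s3 : x₁ * x₂ = x₂ * x₁ := by
      rw [hx₁, hx₂]
      calc g * f₁ * g⁻¹ * (g * f₂ * g⁻¹) = g * (f₁ * f₂) * g⁻¹ := by group
        _ = g * (f₂ * f₁) * g⁻¹ := by rw [h.cf]
        _ = _ := by group
    have c1 : q4e (q4a (q4T k₁ α₁ β₁ γ₁ δ₁ q4v) (q4s 2 (q4T k₂ α₂ β₂ γ₂ δ₂ q4v))) q4w = true := by
      apply h.PP_inj
      rw [PP_add, PP_s, ← act₁, ← act₂, ← g1, ← g2, ← map_nsmul, ← map_add, ← hw, hgw]
    have c2 : q4e (q4T k₁ α₁ β₁ γ₁ δ₁ (q4T k₁ α₁ β₁ γ₁ δ₁ q4v)) q4v = true := by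
      apply h.PP_inj
      rw [← act₁, ← act₁, ← au_mul_apply, s1]; rfl
    have c3 : q4e (q4T k₂ α₂ β₂ γ₂ δ₂ (q4T k₂ α₂ β₂ γ₂ δ₂ q4v)) q4v = true := by
      apply h.PP_inj
      rw [← act₂, ← act₂, ← au_mul_apply, s2]; rfl
    have c4 : q4e (q4T k₁ α₁ β₁ γ₁ δ₁ (q4T k₂ α₂ β₂ γ₂ δ₂ q4v))
        (q4T k₂ α₂ β₂ γ₂ δ₂ (q4T k₁ α₁ β₁ γ₁ δ₁ q4v)) = true := by
      apply h.PP_inj
      rw [← act₁, ← act₂, ← act₂, ← act₁, ← au_mul_apply, s3, au_mul_apply]
    have hchk := chk_all k₁ α₁ β₁ γ₁ δ₁ k₂ α₂ β₂ γ₂ δ₂ (by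
      unfold chk; rw [c1, c2, c3, c4]; rfl)
    unfold tgt at hchk
    simp only [Bool.and_eq_true, beq_iff_eq, Bool.not_eq_true'] at hchk
    obtain ⟨⟨⟨⟨⟨⟨⟨⟨⟨r1, rfl⟩, rfl⟩, rfl⟩, rfl⟩, r2⟩, rfl⟩, rfl⟩, rfl⟩, rfl⟩ := hchk
    have act₁' : ∀ u, x₁.1 (PP v₀ f₁ f₂ u) = f₁.1 (PP v₀ f₁ f₂ u) := by
      intro u
      rw [act₁, h.PP_f1, r1]
      change PP v₀ f₁ f₂ (q4s 1 (q4f1 u)) = _
      rw [PP_s, one_nsmul]
    have act₂' : ∀ u, x₂.1 (PP v₀ f₁ f₂ u) = f₂.1 (PP v₀ f₁ f₂ u) := by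
      intro u
      rw [act₂, h.PP_f2, r2]
      change PP v₀ f₁ f₂ (q4s 1 (q4f2 u)) = _
      rw [PP_s, one_nsmul]
    have t0 : g.1 (PP v₀ f₁ f₂ q4v) = PP v₀ f₁ f₂ q4v := hgv
    have t1 : g.1 (PP v₀ f₁ f₂ (q4f1 q4v)) = PP v₀ f₁ f₂ (q4f1 q4v) := by
      rw [← h.PP_f1, g1, act₁']
    have t2 : g.1 (PP v₀ f₁ f₂ (q4f2 q4v)) = PP v₀ f₁ f₂ (q4f2 q4v) := by
      rw [← h.PP_f2, g2, act₂']
    have t3 : g.1 (PP v₀ f₁ f₂ (q4f1 (q4f2 q4v))) = PP v₀ f₁ f₂ (q4f1 (q4f2 q4v)) := by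
      rw [← h.PP_f1, ← h.PP_f2, g12, act₂', h.PP_f2, act₁']
    have ta : ∀ x y, g.1 (PP v₀ f₁ f₂ x) = PP v₀ f₁ f₂ x → g.1 (PP v₀ f₁ f₂ y) = PP v₀ f₁ f₂ y →
        g.1 (PP v₀ f₁ f₂ (q4a x y)) = PP v₀ f₁ f₂ (q4a x y) := by
      intro x y h1 h2
      rw [PP_add, map_add, h1, h2]
    have ts : ∀ n x, g.1 (PP v₀ f₁ f₂ x) = PP v₀ f₁ f₂ x →
        g.1 (PP v₀ f₁ f₂ (q4s n x)) = PP v₀ f₁ f₂ (q4s n x) := by
      intro n x h1
      rw [PP_s, map_nsmul, h1]
    have tsum := ts 2 _ (ta _ _ (ta _ _ (ta _ _ t0 t1) t2) t3)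
    have fin : ∀ x y, g.1 (PP v₀ f₁ f₂ y) = PP v₀ f₁ f₂ y → q4e x y = true →
        g.1 (PP v₀ f₁ f₂ x) = PP v₀ f₁ f₂ x := by
      intro x y h1 h2
      rw [h.PP_congr h2, h1]
    have u0 := fin (1, 0, 0, 0) _ (ta _ _ tsum (ts 4 _ t2)) (by decide)
    have u1 := fin (0, 1, 0, 0) _ (ta _ _ tsum (ts 4 _ t3)) (by decide)
    have u2 := fin (0, 0, 1, 0) _ (ta _ _ tsum (ts 4 _ t0)) (by decide)
    have u3 := fin (0, 0, 0, 1) _ (ta _ _ tsum (ts 4 _ t1)) (by decide)
    intro u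
    exact fin u _ (ta _ _ (ta _ _ (ta _ _ (ts u.1 _ u0) (ts u.2.1 _ u1)) (ts u.2.2.1 _ u2))
      (ts u.2.2.2 _ u3)) (by unfold q4e q4a q4s; simp)
  refine pf hv0 (h.V0_P q4w) (fun g hg hgv hgw => ?_) (fun c => PP v₀ f₁ f₂ (q4b c))
    (fun c => h.V0_P _) ?_ ?_ ?_ ?_ ?_
  · obtain ⟨h1, h2⟩ := hkey g hg hgv hgw
    refine ⟨h1, fun x hx => ?_⟩
    obtain ⟨k, α, β, γ, δ, -, hact⟩ := h.dec_act hx
    rw [hact, h2]
  · intro c h0
    have h1 : PP v₀ f₁ f₂ (0, 0, 0, 0) = 0 := by unfold PP; simp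
    rw [← h1] at h0
    have h2 := h.PP_inj h0
    rw [chk_ne c] at h2
    exact absurd h2 (by decide)
  · intro g hg hgv hgw c
    exact (hkey g hg hgv hgw).2 _
  · intro x hx c d hxcd
    obtain ⟨k, α, β, γ, δ, -, hact⟩ := h.dec_act hx
    simp only [hact] at hxcd
    exact chk_orb k α β γ δ c d (h.PP_inj hxcd)
  · intro x hx hxv
    exact ⟨hx.1, 1, D.K.one_mem, hxv⟩
  · intro x hx κ l hκ hl h1 h2
    obtain ⟨k, α, β, γ, δ, hk0, hact⟩ := h.dec_act hx
    obtain ⟨m, hm⟩ := h.int κ.1 hκ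
    obtain ⟨n, hn⟩ := h.int l.1 hl
    rw [hm, hact, ← PP_s] at h1
    rw [hn, hact, ← PP_s] at h2
    have h3 := chk_S k α β γ δ m n (h.PP_inj h1) (h.PP_inj h2) hk0
    have h4 : x.1 (PP v₀ f₁ f₂ q4v) = (k : ℕ) • PP v₀ f₁ f₂ q4v := by
      rw [hact, h.PP_congr h3, PP_s]
    have h5 : ((k : ℕ) : AddMonoid.End V) ∈ D.K := natCast_mem D.K _
    have h6 : ((k : ℕ) : AddMonoid.End V) ≠ 0 := by
      intro h0
      have h7 : ((k : ℕ) : AddMonoid.End V) (PP v₀ f₁ f₂ q4v) = 0 := by rw [h0]; rfl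
      rw [AddMonoid.End.natCast_apply, ← h4] at h7
      exact h.nz hv0 h7
    obtain ⟨κ', hκ'⟩ := D.isF.exists_unit h5 h6
    have hκ'' : κ'.1 = ((k : ℕ) : AddMonoid.End V) := hκ'
    refine ⟨hx.1, κ', by rw [hκ'']; exact h5, ?_⟩
    rw [h4, hκ'', AddMonoid.End.natCast_apply]

end FS

end Dat

end Cfsg.Agent.H578
end

-- part: H578/FiveB
section
/-!
# The field with five elements: the result (helper578)
-/

set_option autoImplicit false
set_option linter.unusedSectionVars false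

universe u

namespace Cfsg.Agent.H578

variable {V : Type u} [AddCommGroup V]

namespace Dat

variable {G : Subgroup (AU V)} {D : Dat G} [Nontrivial V] [Finite V]

/-- **The field with five elements.** -/
theorem prim2_five (hE2 : ∀ x ∈ D.E, (x ^ 2).1 ∈ D.K) (five : ∀ x : V, (5 : ℕ) • x = 0)
    (hint : ∀ a ∈ D.K, ∃ n : Fin 5, ∀ x : V, a x = (n : ℕ) • x) : HasBase (Fin 2) G := by
  obtain ⟨v₀, i, hF⟩ := D.exists_frame
  have hv₀ := hF.ne
  have hneg4 : ∀ x : V, (4 : ℕ) • x = -x := by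
    intro x
    have := five x
    rw [show 5 = 4 + 1 from rfl, succ_nsmul] at this
    exact eq_neg_of_add_eq_zero_left this
  have hord : ∀ {x : V}, x ≠ 0 → addOrderOf x = 5 := by
    intro x hx
    have : Fact (Nat.Prime 5) := ⟨by norm_num⟩
    exact addOrderOf_eq_prime (five x) hx
  have h2K : ((2 : ℕ) : AddMonoid.End V) ∈ D.K := natCast_mem D.K _
  have h2x : ∀ x : V, ((2 : ℕ) : AddMonoid.End V) x = 2 • x := fun x => by
    rw [AddMonoid.End.natCast_apply]
  have h20 : ((2 : ℕ) : AddMonoid.End V) ≠ 0 := by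
    intro h0
    have h1 : (2 : ℕ) • v₀ = 0 := by rw [← h2x, h0]; rfl
    have h2 := addOrderOf_dvd_of_nsmul_eq_zero h1
    rw [hord hv₀] at h2
    omega
  obtain ⟨ι, hι⟩ := D.isF.exists_unit h2K h20
  have hι' : ι.1 = ((2 : ℕ) : AddMonoid.End V) := hι
  have hιK : ι.1 ∈ D.K := by rw [hι']; exact h2K
  have hιx : ∀ x : V, ι.1 x = 2 • x := fun x => by rw [hι', h2x]
  have hιι : ι * ι = -1 := by
    apply au_ext
    intro x
    rw [au_mul_apply, hιx, hιx, ← mul_nsmul, hneg4]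
    rfl
  have htwo : (1 : AU V) ≠ -1 := by
    intro h
    have h1 : v₀ = -v₀ := congrArg (fun g : AU V => g.1 v₀) h
    have h2 : (2 : ℕ) • v₀ = 0 := by rw [two_nsmul]; nth_rewrite 1 [h1]; exact neg_add_cancel v₀
    have h3 := addOrderOf_dvd_of_nsmul_eq_zero h2
    rw [hord hv₀] at h3
    omega
  have hi : i = 1 := by
    rcases hF.dich with h | ⟨-, h⟩
    · exact h
    · exact absurd (congrArg Units.val hιι) (h _ hιK)
  subst hi
  have hQB := QB_of_frame hF
  have hgK : ∀ g ∈ G, ∀ a ∈ D.K, ∀ x, g.1 (a x) = a (g.1 x) := by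
    intro g _ a ha x
    obtain ⟨n, hn⟩ := hint a ha
    rw [hn, hn, map_nsmul]
  by_cases hEK : ∀ x ∈ D.E, x.1 ∈ D.K
  · refine ⟨![v₀, v₀], fun g hg h => ?_⟩
    have hgv : g.1 v₀ = v₀ := h 0
    apply fix_imp_one hg hgv hv₀
    intro x hx
    rw [hgK g hg _ (hEK x hx), hgv]
  obtain ⟨z₁, hz₁, f₁, hf₁, hzv₁, hzz₁, hff₁, hzf₁⟩ := exists_zf2 hF.toIsMax hQB hE2 hEK hιK hιι
  have cmfix : ∀ {a b : AU V}, a ∈ D.E → b ∈ D.E → a.1 v₀ = v₀ → b.1 v₀ = v₀ → a * b = b * a := by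
    intro a b ha hb hav hbv
    apply cm_eq_one.mp
    apply eq_one_of_fix hv₀ (cm_K ha hb)
    have h1 : (b⁻¹).1 v₀ = v₀ := by apply au_injective b; rw [au_apply_inv, hbv]
    have h2 : (a⁻¹).1 v₀ = v₀ := by apply au_injective a; rw [au_apply_inv, hav]
    unfold cm
    rw [au_mul_apply, au_mul_apply, au_mul_apply, h1, h2, hbv, hav]
  by_cases hb : ∀ b ∈ D.E, b.1 v₀ = v₀ → b * f₁ = f₁ * b → b = 1
  · -- one plane
    refine ⟨![v₀, f₁.1 v₀], fun g hg h => ?_⟩
    have hgv : g.1 v₀ = v₀ := h 0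
    have hgf : g.1 (f₁.1 v₀) = f₁.1 v₀ := h 1
    have key : ∀ y ∈ D.E, z₁ * y = y * z₁ → ∃ k : AU V, k.1 ∈ D.K ∧ y.1 v₀ = k.1 v₀ := by
      intro y hy hzy
      have hyQ : y ∈ D.Q v₀ := by
        refine ⟨hy, fun a ha hav => ?_⟩
        rcases mul_pm hE2 ha hf₁ with h1 | h1
        · rw [hb a ha hav h1, mul_one, one_mul]
        · have h2 := hb (z₁ * a) (D.E.mul_mem hz₁ ha) (by rw [au_mul_apply, hav, hzv₁]) (by
            rw [mul_assoc, h1, mul_neg, ← mul_assoc, hzf₁, neg_mul, neg_neg, mul_assoc])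
          have h3 : a = z₁ := by
            calc a = (z₁ * z₁) * a := by rw [hzz₁, one_mul]
              _ = z₁ * (z₁ * a) := mul_assoc _ _ _
              _ = z₁ := by rw [h2, mul_one]
          rw [h3, hzy]
      exact (hQB hyQ).2
    apply fix_imp_one hg hgv hv₀
    intro x hx
    rcases mul_pm hE2 hz₁ hx with h1 | h1
    · obtain ⟨k, hk, e⟩ := key x hx h1
      rw [e, hgK g hg _ hk, hgv]
    · obtain ⟨k, hk, e⟩ := key (f₁ * x) (D.E.mul_mem hf₁ hx) (by
        rw [← mul_assoc, hzf₁, neg_mul, mul_assoc, h1, mul_neg, neg_neg, mul_assoc])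
      have e1 : x.1 v₀ = k.1 (f₁.1 v₀) := by
        rw [← D.EK' hf₁ hk, ← e, au_mul_apply, ← au_mul_apply f₁ f₁, hff₁]; rfl
      rw [e1, hgK g hg _ hk, hgf]
  · push Not at hb
    obtain ⟨z₂, hz₂, hzv₂, hzf₂, hz₂1⟩ := hb
    have hzz₂ : z₂ * z₂ = 1 := by
      apply eq_one_of_fix hv₀
      · rw [← pow_two]; exact hE2 z₂ hz₂
      · rw [au_mul_apply, hzv₂, hzv₂]
    have hz12 := cmfix hz₁ hz₂ hzv₁ hzv₂
    obtain ⟨f', hf', hzf'⟩ : ∃ f' ∈ D.E, z₂ * f' ≠ f' * z₂ := by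
      by_contra hcon
      push Not at hcon
      exact hz₂1 (eq_one_of_fix hv₀ (D.center z₂ hz₂ hcon) hzv₂)
    have a0 : z₂ * f' = -(f' * z₂) := (mul_pm hE2 hz₂ hf').resolve_left hzf'
    -- adjust `f'` to commute with `z₁`
    obtain ⟨f'', hf'', a1, c1⟩ : ∃ f'' ∈ D.E, z₂ * f'' = -(f'' * z₂) ∧ z₁ * f'' = f'' * z₁ := by
      rcases mul_pm hE2 hz₁ hf' with h1 | h1
      · exact ⟨f', hf', a0, h1⟩
      · refine ⟨f₁ * f', D.E.mul_mem hf₁ hf', ?_, ?_⟩
        · rw [← mul_assoc, hzf₂, mul_assoc, a0, mul_neg, mul_assoc]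
        · rw [← mul_assoc, hzf₁, neg_mul, mul_assoc, h1, mul_neg, neg_neg, mul_assoc]
    obtain ⟨f₃, hf₃, a2, c2, c3⟩ : ∃ f₃ ∈ D.E, z₂ * f₃ = -(f₃ * z₂) ∧ z₁ * f₃ = f₃ * z₁ ∧
        f₁ * f₃ = f₃ * f₁ := by
      rcases mul_pm hE2 hf₁ hf'' with h1 | h1
      · exact ⟨f'', hf'', a1, c1, h1⟩
      · refine ⟨z₁ * f'', D.E.mul_mem hz₁ hf'', ?_, ?_, ?_⟩
        · rw [← mul_assoc, ← hz12, mul_assoc, a1, mul_neg, mul_assoc]
        · rw [mul_assoc, ← c1]
        · have h2 : f₁ * z₁ = -(z₁ * f₁) := by rw [hzf₁, neg_neg]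
          rw [← mul_assoc, h2, neg_mul, mul_assoc, h1, mul_neg, neg_neg, mul_assoc]
    -- normalise
    have hmul : ∀ k : AU V, k.1 ∈ D.K → z₂ * (k * f₃) = -(k * f₃ * z₂) ∧
        z₁ * (k * f₃) = k * f₃ * z₁ ∧ f₁ * (k * f₃) = k * f₃ * f₁ := by
      intro k hk
      refine ⟨?_, ?_, ?_⟩
      · rw [← mul_assoc, D.EKu hz₂ hk, mul_assoc, a2, mul_neg, mul_assoc]
      · rw [← mul_assoc, D.EKu hz₁ hk, mul_assoc, c2, mul_assoc]
      · rw [← mul_assoc, D.EKu hf₁ hk, mul_assoc, c3, mul_assoc]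
    obtain ⟨k, hk, hkk⟩ : ∃ k : AU V, k.1 ∈ D.K ∧ (k * f₃) * (k * f₃) = 1 := by
      obtain ⟨k, hk, h | ⟨-, h⟩⟩ := D.star _ hf₃ 2 Nat.prime_two (hE2 _ hf₃)
      · exact ⟨k, hk, by rw [← pow_two]; exact h⟩
      · have hιk : (ι * k).1 ∈ D.K := D.K.mul_mem hιK hk
        refine ⟨ι * k, hιk, ?_⟩
        have e1 : (k * f₃) * ι = ι * (k * f₃) := D.EKu (D.E.mul_mem (D.KE k hk) hf₃) hιK
        rw [pow_two] at h
        calc ι * k * f₃ * (ι * k * f₃) = ι * ((k * f₃) * ι) * (k * f₃) := by simp only [mul_assoc]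
          _ = (ι * ι) * ((k * f₃) * (k * f₃)) := by rw [e1]; simp only [mul_assoc]
          _ = 1 := by rw [hιι, h, neg_mul_neg, one_mul]
    obtain ⟨m1, m2, m3⟩ := hmul k hk
    have h : D.FS v₀ z₁ f₁ z₂ (k * f₃) :=
      { mx := hF.toIsMax, QB := hQB, hz₁ := hz₁, hf₁ := hf₁, hz₂ := hz₂,
        hf₂ := D.E.mul_mem (D.KE k hk) hf₃, zv₁ := hzv₁, zv₂ := hzv₂, zz₁ := hzz₁, zz₂ := hzz₂,
        ff₁ := hff₁, ff₂ := hkk, a11 := hzf₁, a22 := m1, c12 := m2, c21 := hzf₂, cf := m3,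
        two := htwo, E2 := hE2, five := five, int := hint }
    exact h.base2

end Dat

end Cfsg.Agent.H578
end

-- part: H578/QF
section
/-!
# The field with three elements: quaternion planes (helper578)
-/

set_option autoImplicit false
set_option linter.unusedSectionVars false

universe u

namespace Cfsg.Agent.H578

variable {V : Type u} [AddCommGroup V]

/-- equality up to sign -/
def PM (u w : V) : Prop := u = w ∨ u = -w

namespace PM

theorem refl (u : V) : PM u u := Or.inl rfl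

theorem symm {u w : V} (h : PM u w) : PM w u := by
  rcases h with h | h
  · exact Or.inl h.symm
  · exact Or.inr (by rw [h, neg_neg])

theorem trans {u w x : V} (h : PM u w) (h' : PM w x) : PM u x := by
  rcases h with rfl | rfl <;> rcases h' with rfl | rfl
  · exact Or.inl rfl
  · exact Or.inr rfl
  · exact Or.inr rfl
  · exact Or.inl (neg_neg _)

theorem neg_left {u w : V} (h : PM u w) : PM (-u) w := by
  rcases h with rfl | rfl
  · exact Or.inr rfl
  · exact Or.inl (neg_neg _)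

theorem map {u w : V} (h : PM u w) (g : AU V) : PM (g.1 u) (g.1 w) := by
  rcases h with rfl | rfl
  · exact Or.inl rfl
  · exact Or.inr (map_neg _ _)

theorem ne_zero {u w : V} (h : PM u w) (hw : w ≠ 0) : u ≠ 0 := by
  rcases h with rfl | rfl
  · exact hw
  · exact neg_ne_zero.mpr hw

end PM

namespace Dat

variable {G : Subgroup (AU V)}

/-- a quaternion pair -/
structure QP (D : Dat G) (y z : AU V) : Prop where
  yE : y ∈ D.E
  zE : z ∈ D.E
  yy : y * y = -1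
  zz : z * z = -1
  yz : y * z = -(z * y)

/-- the elements of the plane -/
def pt (y z : AU V) : Fin 4 → AU V := ![1, y, z, y * z]

/-- coordinates -/
def al : Fin 4 → ℤ := ![1, 0, 1, 1]

/-- coordinates -/
def be : Fin 4 → ℤ := ![0, 1, -1, 1]

/-- multiples -/
theorem of_zsmul {s : ℤ} {C v : V} (h3 : ∀ x : V, x + x = -x) (hv : v ≠ 0) (e : s • C = v) :
    PM C v := by
  have h30 : ∀ x : V, (3 : ℤ) • x = 0 := by
    intro x
    have : (3 : ℤ) = 1 + 1 + 1 := by norm_num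
    rw [this, add_zsmul, add_zsmul, one_zsmul, h3, neg_add_cancel]
  have hs : ∃ q : ℤ, s = 3 * q ∨ s = 3 * q + 1 ∨ s = 3 * q - 1 := by
    refine ⟨(s + 1) / 3, ?_⟩
    omega
  obtain ⟨q, rfl | rfl | rfl⟩ := hs
  · exfalso
    rw [mul_zsmul', h30, zsmul_zero] at e
    exact hv e.symm
  · left
    rw [add_zsmul, mul_zsmul', h30, zsmul_zero, zero_add, one_zsmul] at e
    exact e
  · right
    rw [sub_zsmul, mul_zsmul', h30, zsmul_zero, one_zsmul] at e
    rw [← e, zero_add, neg_neg]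

section plane

variable {D : Dat G} {y z : AU V} (hq : D.QP y z) (h3 : ∀ x : V, x + x = -x)
include hq h3

omit h3 in
theorem QP.yyx (x : V) : y.1 (y.1 x) = -x := by rw [← au_mul_apply, hq.yy]; rfl

theorem QP.neg_self {x : V} (hx : x = -x) : x = 0 := by
  have := h3 x
  nth_rewrite 2 [hx] at this
  rw [add_neg_cancel] at this
  exact neg_eq_zero.mp this.symm

/-- independence -/
theorem QP.ind {A B : V} (hA : y.1 A + z.1 A = A) (hB : y.1 B + z.1 B = B)
    (e : A + y.1 B = 0) : A = 0 ∧ B = 0 := by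
  have e1 : y.1 B = -A := eq_neg_of_add_eq_zero_right e
  have e2 : y.1 (y.1 B) + z.1 (y.1 B) = y.1 B := by
    rw [e1, map_neg, map_neg, ← neg_add, hA]
  have hzB : z.1 B = B - y.1 B := by
    rw [eq_sub_iff_add_eq, add_comm]; exact hB
  have e3 : z.1 (y.1 B) = -(y.1 (z.1 B)) := by
    rw [← au_mul_apply, ← au_mul_apply, hq.yz, au_neg_apply, neg_neg]
  have e4 : y.1 (y.1 B) + z.1 (y.1 B) = B - y.1 B := by
    rw [e3, hzB, map_sub, hq.yyx]
    have : -B + -(y.1 B - -B) = -(B + B) - y.1 B := by abel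
    rw [this, h3, neg_neg]
  rw [e4] at e2
  -- `B = y B + y B = - y B`
  have e5 : B = -(y.1 B) := by rw [← h3]; exact sub_eq_iff_eq_add.mp e2
  have e6 : y.1 B = B := by
    have := congrArg y.1 e5
    rw [map_neg, hq.yyx, neg_neg] at this
    exact this
  rw [e6] at e5
  have hB0 := hq.neg_self h3 e5
  refine ⟨?_, hB0⟩
  rw [hB0, map_zero, add_zero] at e
  exact e

omit h3 in
/-- classes -/
theorem QP.cls [Nontrivial V] [Finite V] (hE2 : ∀ x ∈ D.E, (x ^ 2).1 ∈ D.K) {x : AU V} (hx : x ∈ D.E) :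
    ∃ t : Fin 4, ∃ c ∈ D.E, c * y = y * c ∧ c * z = z * c ∧ x = pt y z t * c := by
  have yi : y⁻¹ = -y := by rw [inv_eq_iff_mul_eq_one, mul_neg, hq.yy, neg_neg]
  have zi : z⁻¹ = -z := by rw [inv_eq_iff_mul_eq_one, mul_neg, hq.zz, neg_neg]
  have zy : z * y = -(y * z) := by rw [hq.yz, neg_neg]
  have yE := hq.yE
  have zE := hq.zE
  rcases mul_pm hE2 hx yE with h1 | h1 <;> rcases mul_pm hE2 hx zE with h2 | h2
  · exact ⟨0, x, hx, h1, h2, by change x = 1 * x; rw [one_mul]⟩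
  · refine ⟨1, y⁻¹ * x, D.E.mul_mem (D.E.inv_mem yE) hx, ?_, ?_, ?_⟩
    · rw [mul_assoc, h1]; group
    · rw [yi, mul_assoc, h2]
      rw [mul_neg, neg_mul, ← mul_assoc, hq.yz]
      simp only [neg_mul, neg_neg, mul_neg, mul_assoc]
    · change x = y * (y⁻¹ * x); group
  · refine ⟨2, z⁻¹ * x, D.E.mul_mem (D.E.inv_mem zE) hx, ?_, ?_, ?_⟩
    · rw [zi, mul_assoc, h1]
      rw [mul_neg, neg_mul, ← mul_assoc, zy]
      simp only [neg_mul, neg_neg, mul_neg, mul_assoc]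
    · rw [mul_assoc, h2]; group
    · change x = z * (z⁻¹ * x); group
  · refine ⟨3, (y * z)⁻¹ * x, D.E.mul_mem (D.E.inv_mem (D.E.mul_mem yE zE)) hx, ?_, ?_, ?_⟩
    · have e1 : y * z * y = -(y * (y * z)) := by rw [mul_assoc, zy, mul_neg]
      have e2 : (y * z)⁻¹ * y = -(y * (y * z)⁻¹) := by
        rw [inv_mul_eq_iff_eq_mul, mul_neg, ← mul_assoc, e1, neg_mul, neg_neg,
          mul_inv_cancel_right]
      calc (y * z)⁻¹ * x * y = (y * z)⁻¹ * (x * y) := mul_assoc _ _ _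
        _ = -(((y * z)⁻¹ * y) * x) := by rw [h1, mul_neg, mul_assoc]
        _ = _ := by rw [e2, neg_mul, neg_neg, mul_assoc]
    · have e1 : y * z * z = -(z * (y * z)) := by
        rw [← mul_assoc z, zy, neg_mul, neg_neg]
      have e2 : (y * z)⁻¹ * z = -(z * (y * z)⁻¹) := by
        rw [inv_mul_eq_iff_eq_mul, mul_neg, ← mul_assoc, e1, neg_mul, neg_neg,
          mul_inv_cancel_right]
      calc (y * z)⁻¹ * x * z = (y * z)⁻¹ * (x * z) := mul_assoc _ _ _
        _ = -(((y * z)⁻¹ * z) * x) := by rw [h2, mul_neg, mul_assoc]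
        _ = _ := by rw [e2, neg_mul, neg_neg, mul_assoc]
    · change x = y * z * ((y * z)⁻¹ * x); group

omit h3 in
theorem QP.pt_apply {C : V} (hC : y.1 C + z.1 C = C) (t : Fin 4) :
    (pt y z t).1 C = al t • C + y.1 (be t • C) := by
  have hzC : z.1 C = C - y.1 C := by
    rw [eq_sub_iff_add_eq, add_comm]; exact hC
  fin_cases t
  · change C = (1 : ℤ) • C + y.1 ((0 : ℤ) • C)
    rw [one_zsmul, zero_zsmul, map_zero, add_zero]
  · change y.1 C = (0 : ℤ) • C + y.1 ((1 : ℤ) • C)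
    rw [one_zsmul, zero_zsmul, zero_add]
  · change z.1 C = (1 : ℤ) • C + y.1 ((-1 : ℤ) • C)
    rw [one_zsmul, neg_one_zsmul, map_neg, hzC, sub_eq_add_neg]
  · change (y * z).1 C = (1 : ℤ) • C + y.1 ((1 : ℤ) • C)
    rw [au_mul_apply, hzC, map_sub, hq.yyx, one_zsmul, sub_neg_eq_add, add_comm]

omit h3 in
theorem QP.fx_comm {c : AU V} {v : V} (hv : y.1 v + z.1 v = v) (h1 : c * y = y * c)
    (h2 : c * z = z * c) : y.1 (c.1 v) + z.1 (c.1 v) = c.1 v := by
  rw [← au_mul_apply, ← h1, ← au_mul_apply z, ← h2, au_mul_apply, au_mul_apply, ← map_add, hv]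

/-- pairs -/
theorem QP.pair [Nontrivial V] [Finite V] (hE2 : ∀ x ∈ D.E, (x ^ 2).1 ∈ D.K) {v : V} (hv0 : v ≠ 0)
    (hv : y.1 v + z.1 v = v) {y' z' : AU V} (hy' : y' ∈ D.E) (hz' : z' ∈ D.E)
    (hv' : y'.1 v + z'.1 v = v) :
    ((y' * y = y * y' ∧ y' * z = z * y') ∧ (z' * y = y * z' ∧ z' * z = z * z')) ∨
    ∃ t t' : Fin 4, t ≠ 0 ∧ t' ≠ 0 ∧ t ≠ t' ∧ ∃ c ∈ D.E, ∃ c' ∈ D.E, (c * y = y * c ∧ c * z = z * c) ∧
      (c' * y = y * c' ∧ c' * z = z * c') ∧ PM (c.1 v) v ∧ PM (c'.1 v) v ∧ y' = pt y z t * c ∧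
      z' = pt y z t' * c' := by
  obtain ⟨t, c, hc, hcy, hcz, rfl⟩ := hq.cls hE2 hy'
  obtain ⟨t', c', hc', hcy', hcz', rfl⟩ := hq.cls hE2 hz'
  have hC := hq.fx_comm hv hcy hcz
  have hC' := hq.fx_comm hv hcy' hcz'
  have hCn : c.1 v ≠ 0 := fun h0 => hv0 (au_injective c (by rw [h0, map_zero]))
  have hCn' : c'.1 v ≠ 0 := fun h0 => hv0 (au_injective c' (by rw [h0, map_zero]))
  rw [au_mul_apply, au_mul_apply, hq.pt_apply hC, hq.pt_apply hC'] at hv'
  have fz : ∀ (n : ℤ) {u : V}, y.1 u + z.1 u = u → y.1 (n • u) + z.1 (n • u) = n • u := by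
    intro n u hu
    rw [map_zsmul, map_zsmul, ← zsmul_add, hu]
  have fa : ∀ {u w : V}, y.1 u + z.1 u = u → y.1 w + z.1 w = w →
      y.1 (u + w) + z.1 (u + w) = u + w := by
    intro u w hu hw
    calc y.1 (u + w) + z.1 (u + w) = (y.1 u + z.1 u) + (y.1 w + z.1 w) := by
          rw [map_add, map_add]; abel
      _ = u + w := by rw [hu, hw]
  obtain ⟨eA, eB⟩ := hq.ind h3 (A := al t • c.1 v + al t' • c'.1 v + (-1 : ℤ) • v)
    (B := be t • c.1 v + be t' • c'.1 v)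
    (fa (fa (fz _ hC) (fz _ hC')) (fz _ hv)) (fa (fz _ hC) (fz _ hC')) (by
      rw [map_add, neg_one_zsmul]
      have : al t • c.1 v + al t' • c'.1 v + -v + (y.1 (be t • c.1 v) + y.1 (be t' • c'.1 v)) =
        (al t • c.1 v + y.1 (be t • c.1 v) + (al t' • c'.1 v + y.1 (be t' • c'.1 v))) - v := by abel
      rw [this, hv', sub_self])
  have hb : ∀ s : Fin 4, (s = 0 ∧ be s = 0) ∨ (s ≠ 0 ∧ be s * be s = 1) := by decide
  have hsq : ∀ s s' : Fin 4, be s * be s = 1 → be s' * be s' = 1 → s = s' →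
      al s + al s' * (-(be s * be s')) = 0 := by decide
  rcases hb t with ⟨ht, hbt⟩ | ⟨ht, hbt⟩ <;> rcases hb t' with ⟨ht', hbt'⟩ | ⟨ht', hbt'⟩
  · left
    subst ht ht'
    have e1 : pt y z 0 * c = c := one_mul c
    have e2 : pt y z 0 * c' = c' := one_mul c'
    rw [e1, e2]
    exact ⟨⟨hcy, hcz⟩, hcy', hcz'⟩
  · exfalso
    rw [hbt, zero_zsmul, zero_add] at eB
    have := congrArg (fun u => be t' • u) eB
    simp only [zsmul_zero] at this
    rw [← mul_zsmul, hbt', one_zsmul] at this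
    exact hCn' this
  · exfalso
    rw [hbt', zero_zsmul, add_zero] at eB
    have := congrArg (fun u => be t • u) eB
    simp only [zsmul_zero] at this
    rw [← mul_zsmul, hbt, one_zsmul] at this
    exact hCn this
  · right
    have e1 : c'.1 v = (-(be t * be t')) • c.1 v := by
      have := congrArg (fun u => be t' • u) eB
      simp only [zsmul_zero] at this
      rw [zsmul_add, ← mul_zsmul, ← mul_zsmul, hbt', one_zsmul] at this
      rw [neg_zsmul, mul_comm (be t)]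
      exact eq_neg_of_add_eq_zero_right this
    have e2 : (al t + al t' * (-(be t * be t'))) • c.1 v = v := by
      rw [add_zsmul, mul_zsmul, ← e1]
      rw [neg_one_zsmul] at eA
      exact sub_eq_zero.mp (by rw [sub_eq_add_neg]; exact eA)
    have p1 := of_zsmul h3 hv0 e2
    have p2 : PM (c'.1 v) v := by
      refine PM.trans ?_ p1
      have h4 : -(be t * be t') = 1 ∨ -(be t * be t') = -1 := by
        have : ∀ s s' : Fin 4, be s * be s = 1 → be s' * be s' = 1 →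
          (-(be s * be s') = 1 ∨ -(be s * be s') = -1) := by decide
        exact this t t' hbt hbt'
      rcases h4 with h4 | h4
      · left; rw [e1, h4, one_zsmul]
      · right; rw [e1, h4, neg_one_zsmul]
    refine ⟨t, t', ht, ht', ?_, c, hc, c', hc', ⟨hcy, hcz⟩, ⟨hcy', hcz'⟩, p1, p2, rfl, rfl⟩
    intro htt
    rw [hsq t t' hbt hbt' htt, zero_zsmul] at e2
    exact hv0 e2.symm

end plane

end Dat

end Cfsg.Agent.H578
end

-- part: H578/Act3
section
/-!
# Groups of order prime to three acting on triples (helper578)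
-/

set_option autoImplicit false

namespace Cfsg.Agent.H578

/-- a group of order prime to three acting on three points fixes one of them -/
theorem fixed_of_three {H Y : Type*} [Group H] [Finite H] [MulAction H Y]
    (hY : Nat.card Y = 3) (hH : (Nat.card H).Coprime 3) : ∃ y : Y, ∀ h : H, h • y = y := by
  classical
  have hfin : Finite Y := Nat.finite_of_card_ne_zero (by rw [hY]; norm_num)
  have hdvd : ∀ y : Y, Nat.card (MulAction.orbit H y) ∣ Nat.card H := by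
    intro y
    rw [Nat.card_congr (MulAction.orbitEquivQuotientStabilizer H y)]
    exact Subgroup.card_quotient_dvd_card _
  have hle : ∀ y : Y, Nat.card (MulAction.orbit H y) ≤ 3 := by
    intro y
    rw [← hY]
    exact Nat.card_le_card_of_injective (fun x : MulAction.orbit H y => x.1)
      Subtype.val_injective
  have hpos : ∀ y : Y, 0 < Nat.card (MulAction.orbit H y) := by
    intro y
    have : Nonempty (MulAction.orbit H y) := ⟨⟨y, MulAction.mem_orbit_self y⟩⟩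
    exact Nat.card_pos
  have hne3 : ∀ y : Y, Nat.card (MulAction.orbit H y) ≠ 3 := by
    intro y h
    have h1 := hdvd y
    rw [h] at h1
    have h2 := Nat.dvd_gcd h1 (dvd_refl 3)
    rw [hH] at h2
    omega
  have hone : ∀ y : Y, Nat.card (MulAction.orbit H y) = 1 → ∀ h : H, h • y = y := by
    intro y h1 h
    obtain ⟨h2, -⟩ := Nat.card_eq_one_iff_unique.mp h1
    have := h2.elim ⟨h • y, MulAction.mem_orbit y h⟩ ⟨y, MulAction.mem_orbit_self y⟩
    exact congrArg Subtype.val this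
  obtain ⟨y⟩ : Nonempty Y := by
    rw [← not_isEmpty_iff]
    intro h
    rw [Nat.card_of_isEmpty] at hY
    omega
  by_cases h1 : Nat.card (MulAction.orbit H y) = 1
  · exact ⟨y, hone y h1⟩
  have h2 : Nat.card (MulAction.orbit H y) = 2 := by
    have := hle y; have := hpos y; have := hne3 y; omega
  -- the remaining point
  obtain ⟨y', hy'⟩ : ∃ y', y' ∉ MulAction.orbit H y := by
    by_contra hcon
    push Not at hcon
    have : Nat.card (MulAction.orbit H y) = Nat.card Y := by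
      rw [Set.eq_univ_of_forall hcon]
      exact Nat.card_univ
    omega
  refine ⟨y', hone y' ?_⟩
  -- the two orbits are disjoint
  have h3 : Nat.card (MulAction.orbit H y) + Nat.card (MulAction.orbit H y') ≤ Nat.card Y := by
    rw [← Nat.card_sum]
    apply Nat.card_le_card_of_injective
      (fun x : MulAction.orbit H y ⊕ MulAction.orbit H y' => Sum.elim (fun a => a.1) (fun a => a.1) x)
    rintro (⟨a, ha⟩ | ⟨a, ha⟩) (⟨b, hb⟩ | ⟨b, hb⟩) hab
    · simp only [Sum.elim_inl] at hab; subst hab; rfl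
    · simp only [Sum.elim_inl, Sum.elim_inr] at hab
      subst hab
      exfalso
      apply hy'
      have e1 := MulAction.orbit_eq_iff.mpr ha
      have e2 := MulAction.orbit_eq_iff.mpr hb
      rw [← e1, e2]
      exact MulAction.mem_orbit_self y'
    · simp only [Sum.elim_inl, Sum.elim_inr] at hab
      subst hab
      exfalso
      apply hy'
      have e1 := MulAction.orbit_eq_iff.mpr ha
      have e2 := MulAction.orbit_eq_iff.mpr hb
      rw [← e2, e1]
      exact MulAction.mem_orbit_self y'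
    · simp only [Sum.elim_inr] at hab; subst hab; rfl
  have := hpos y'
  omega

/-- an equivariant section -/
theorem equiv_section {H Y Z : Type*} [Group H] [Finite H] [MulAction H Y] [MulAction H Z]
    (π : Y → Z) (hπ : ∀ (h : H) (y : Y), π (h • y) = h • π y)
    (h3 : ∀ z, Nat.card {y // π y = z} = 3) (hH : (Nat.card H).Coprime 3) :
    ∃ s : Z → Y, (∀ z, π (s z) = z) ∧ ∀ (h : H) (z : Z), s (h • z) = h • s z := by
  classical
  -- a fixed point in each fibre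
  have key : ∀ z : Z, ∃ y : Y, π y = z ∧ ∀ h : H, h • z = z → h • y = y := by
    intro z
    let _ : MulAction (MulAction.stabilizer H z) {y // π y = z} :=
      { smul := fun h y => ⟨h.1 • y.1, by
          rw [hπ, y.2]; exact h.2⟩
        one_smul := fun y => Subtype.ext (one_smul H y.1)
        mul_smul := fun a b y => Subtype.ext (mul_smul a.1 b.1 y.1) }
    obtain ⟨y, hy⟩ := fixed_of_three (H := MulAction.stabilizer H z) (h3 z)
      (Nat.Coprime.coprime_dvd_left (Subgroup.card_subgroup_dvd_card _) hH)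
    exact ⟨y.1, y.2, fun h hh => congrArg Subtype.val (hy ⟨h, hh⟩)⟩
  choose y₀ hy₀ hfix using key
  -- representatives
  let _ : Setoid Z := MulAction.orbitRel H Z
  let r : Z → Z := fun z => Quotient.out (Quotient.mk (MulAction.orbitRel H Z) z)
  have hr : ∀ z, ∃ h : H, h • r z = z := by
    intro z
    have h1 : MulAction.orbitRel H Z z (r z) :=
      Setoid.symm (Quotient.exact (Quotient.out_eq (Quotient.mk (MulAction.orbitRel H Z) z)))
    exact h1
  have hr' : ∀ (h : H) z, r (h • z) = r z := by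
    intro h z
    have h1 : (Quotient.mk (MulAction.orbitRel H Z) (h • z)) =
        Quotient.mk (MulAction.orbitRel H Z) z :=
      Quotient.sound (s := MulAction.orbitRel H Z) ⟨h, rfl⟩
    change Quotient.out _ = Quotient.out _
    rw [h1]
  choose t ht using hr
  refine ⟨fun z => t z • y₀ (r z), fun z => ?_, fun h z => ?_⟩
  · rw [hπ, hy₀, ht]
  · change t (h • z) • y₀ (r (h • z)) = h • t z • y₀ (r z)
    rw [hr', smul_smul]
    have h1 : ((h * t z)⁻¹ * t (h • z)) • y₀ (r z) = y₀ (r z) := by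
      apply hfix
      rw [mul_smul]
      have := ht (h • z)
      rw [hr'] at this
      rw [this, inv_smul_eq_iff, mul_smul, ht]
    rw [mul_smul, inv_smul_eq_iff] at h1
    exact h1

end Cfsg.Agent.H578
end

-- part: H578/QF2
section
/-!
# The field with three elements: families of quaternion planes (helper578)
-/

set_option autoImplicit false
set_option linter.unusedSectionVars false

universe u

namespace Cfsg.Agent.H578

variable {V : Type u} [AddCommGroup V]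

namespace Dat

variable {G : Subgroup (AU V)}

/-- commuting with a family -/
def Cen {k : ℕ} (P : Fin k → Bool → AU V) (x : AU V) : Prop := ∀ i b, x * P i b = P i b * x

/-- a family of commuting quaternion pairs -/
structure QF (D : Dat G) {k : ℕ} (P : Fin k → Bool → AU V) (v : V) : Prop where
  qp : ∀ i, D.QP (P i false) (P i true)
  comm : ∀ i j b b', i ≠ j → P i b * P j b' = P j b' * P i b
  hv : v ≠ 0
  tv : ∀ i, (P i false).1 v + (P i true).1 v = v

theorem QP.neg {D : Dat G} (hN : (-1 : AU V) ∈ D.E) {y z : AU V} (hq : D.QP y z) :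
    D.QP (-y) (-z) := by
  refine ⟨?_, ?_, ?_, ?_, ?_⟩
  · rw [← neg_one_mul]; exact D.E.mul_mem hN hq.yE
  · rw [← neg_one_mul]; exact D.E.mul_mem hN hq.zE
  · rw [neg_mul_neg, hq.yy]
  · rw [neg_mul_neg, hq.zz]
  · rw [neg_mul_neg, neg_mul_neg, hq.yz]

theorem neg_one_mem (D : Dat G) : (-1 : AU V) ∈ D.E := D.KE _ (D.K.neg_mem D.K.one_mem)

/-- extension of a family -/
theorem QF.ext {D : Dat G} (h3 : ∀ x : V, x + x = -x) {k : ℕ} {P : Fin k → Bool → AU V} {v : V}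
    (h : D.QF P v) {y z : AU V} (hq : D.QP y z) (hy : Cen P y) (hz : Cen P z) :
    ∃ (P' : Fin (k + 1) → Bool → AU V) (v' : V), D.QF P' v' := by
  -- construction
  have key : ∀ y z : AU V, D.QP y z → Cen P y → Cen P z → ∀ v' : V, v' ≠ 0 →
      (∀ i, (P i false).1 v' + (P i true).1 v' = v') → y.1 v' + z.1 v' = v' →
      ∃ (P' : Fin (k + 1) → Bool → AU V) (v' : V), D.QF P' v' := by
    intro y z hq hy hz v' hv' h1 h2
    refine ⟨Fin.cons (fun b => cond b z y) P, v', ⟨?_, ?_, hv', ?_⟩⟩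
    · intro i
      refine Fin.cases ?_ (fun i => ?_) i
      · exact hq
      · exact h.qp i
    · intro i j b b'
      refine Fin.cases ?_ (fun i => ?_) i <;> refine Fin.cases ?_ (fun j => ?_) j
      · intro hij; exact absurd rfl hij
      · intro _
        cases b
        · exact hy j b'
        · exact hz j b'
      · intro _
        cases b'
        · exact (hy i b).symm
        · exact (hz i b).symm
      · intro hij
        exact h.comm i j b b' (fun hij' => hij (by rw [hij']))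
    · intro i
      refine Fin.cases ?_ (fun i => ?_) i
      · exact h2
      · exact h1 i
  have yzx : ∀ x : V, y.1 (z.1 x) = -(z.1 (y.1 x)) := fun x => by
    rw [← au_mul_apply, hq.yz, au_neg_apply, au_mul_apply]
  have yyx : ∀ x : V, y.1 (y.1 x) = -x := fun x => by rw [← au_mul_apply, hq.yy]; rfl
  have zzx : ∀ x : V, z.1 (z.1 x) = -x := fun x => by rw [← au_mul_apply, hq.zz]; rfl
  by_cases h0 : v + (y.1 v + z.1 v) = 0
  · refine key (-y) (-z) (hq.neg D.neg_one_mem) (fun i b => ?_) (fun i b => ?_) v h.hv h.tv ?_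
    · rw [neg_mul, mul_neg, hy i b]
    · rw [neg_mul, mul_neg, hz i b]
    · rw [au_neg_apply, au_neg_apply, ← neg_add]
      exact neg_eq_of_add_eq_zero_left h0
  · refine key y z hq hy hz (v + (y.1 v + z.1 v)) h0 (fun i => ?_) ?_
    · have e1 : ∀ b, (P i b).1 (v + (y.1 v + z.1 v)) =
          (P i b).1 v + (y.1 ((P i b).1 v) + z.1 ((P i b).1 v)) := by
        intro b
        rw [map_add, map_add, ← au_mul_apply _ y, ← hy i b, ← au_mul_apply _ z, ← hz i b,
          au_mul_apply, au_mul_apply]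
      rw [e1, e1]
      have e2 := h.tv i
      have e3 : (P i false).1 v + (y.1 ((P i false).1 v) + z.1 ((P i false).1 v)) +
          ((P i true).1 v + (y.1 ((P i true).1 v) + z.1 ((P i true).1 v))) =
          ((P i false).1 v + (P i true).1 v) + (y.1 ((P i false).1 v + (P i true).1 v) +
            z.1 ((P i false).1 v + (P i true).1 v)) := by
        rw [map_add, map_add]; abel
      rw [e3, e2]
    · rw [map_add, map_add, map_add, map_add, yyx, zzx, yzx]
      have : y.1 v + (-v + -(z.1 (y.1 v))) + (z.1 v + (z.1 (y.1 v) + -v)) =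
        y.1 v + z.1 v + -(v + v) := by abel
      rw [this, h3, neg_neg]
      abel

variable [Nontrivial V] [Finite V]

/-- a maximal family -/
theorem exists_QF (D : Dat G) (h3 : ∀ x : V, x + x = -x) (two : (1 : AU V) ≠ -1) :
    ∃ (k : ℕ) (P : Fin k → Bool → AU V) (v : V), D.QF P v ∧
      ∀ y z, D.QP y z → Cen P y → Cen P z → False := by
  by_contra hcon
  push Not at hcon
  have hfe : Finite (AU V) := by
    have : Finite (AddMonoid.End V) := finite_end
    infer_instance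
  have h1 : ∀ k : ℕ, ∃ (P : Fin k → Bool → AU V) (v : V), D.QF P v := by
    intro k
    induction k with
    | zero =>
      obtain ⟨v, hv⟩ := exists_ne (0 : V)
      exact ⟨fun i => i.elim0, v, ⟨fun i => i.elim0, fun i => i.elim0, hv, fun i => i.elim0⟩⟩
    | succ k ih =>
      obtain ⟨P, v, h⟩ := ih
      obtain ⟨y, z, hq, hy, hz, -⟩ := hcon k P v h
      exact h.ext h3 hq hy hz
  obtain ⟨P, v, h⟩ := h1 (Nat.card (AU V) + 1)
  have hinj : Function.Injective (fun i => P i false) := by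
    intro i j hij
    by_contra hne
    simp only at hij
    have e1 := h.comm i j true false hne
    rw [← hij] at e1
    have e2 := (h.qp i).yz
    rw [e1] at e2
    have e3 : (P i true * P i false) * 1 = (P i true * P i false) * (-1) := by
      rw [mul_one, mul_neg_one]
      rw [e1]
      nth_rewrite 1 [e2]
      rfl
    exact two (mul_left_cancel e3)
  have := Nat.card_le_card_of_injective _ hinj
  rw [Nat.card_fin] at this
  omega

section family

variable {D : Dat G} {k : ℕ} {P : Fin k → Bool → AU V} {v : V} (h : D.QF P v)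
  (h3 : ∀ x : V, x + x = -x) (hE2 : ∀ x ∈ D.E, (x ^ 2).1 ∈ D.K)
include h h3 hE2

/-- adjusting -/
theorem QF.adj (x : AU V) (hx : x ∈ D.E) : ∃ p ∈ D.E, (∀ u : AU V, Cen P u → u * p = p * u) ∧
    Cen P (p⁻¹ * x) := by
  have key : ∀ s : Finset (Fin k), ∃ p ∈ D.E, (∀ u : AU V, Cen P u → u * p = p * u) ∧
      ∀ i ∈ s, ∀ b, (p⁻¹ * x) * P i b = P i b * (p⁻¹ * x) := by
    intro s
    induction s using Finset.induction_on with
    | empty => exact ⟨1, D.E.one_mem, fun u _ => by rw [mul_one, one_mul], by simp⟩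
    | insert i s his ih =>
      obtain ⟨p, hp, h1, h2⟩ := ih
      obtain ⟨t, c, hc, hcy, hcz, e⟩ := (h.qp i).cls hE2
        (D.E.mul_mem (D.E.inv_mem hp) hx)
      have htE : pt (P i false) (P i true) t ∈ D.E := by
        fin_cases t
        · exact D.E.one_mem
        · exact (h.qp i).yE
        · exact (h.qp i).zE
        · exact D.E.mul_mem (h.qp i).yE (h.qp i).zE
      have htc : ∀ u : AU V, u * P i false = P i false * u → u * P i true = P i true * u →
          u * pt (P i false) (P i true) t = pt (P i false) (P i true) t * u := by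
        intro u e1 e2
        fin_cases t
        · change u * 1 = 1 * u; rw [mul_one, one_mul]
        · exact e1
        · exact e2
        · change u * (P i false * P i true) = P i false * P i true * u
          rw [← mul_assoc, e1, mul_assoc, e2, mul_assoc]
      have ec : (p * pt (P i false) (P i true) t)⁻¹ * x = c := by
        rw [mul_inv_rev, mul_assoc, e, inv_mul_cancel_left]
      refine ⟨p * pt (P i false) (P i true) t, D.E.mul_mem hp htE, fun u hu => ?_, ?_⟩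
      · rw [← mul_assoc, h1 u hu, mul_assoc, htc u (hu i false) (hu i true), mul_assoc]
      · intro j hj b
        rw [ec]
        rcases Finset.mem_insert.mp hj with rfl | hj
        · cases b
          · exact hcy
          · exact hcz
        · have hij : j ≠ i := fun hji => his (hji ▸ hj)
          have e3 := h2 j hj b
          have e4 := htc (P j b) (h.comm j i b false hij) (h.comm j i b true hij)
          rw [e] at e3
          apply mul_left_cancel (a := pt (P i false) (P i true) t)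
          rw [← mul_assoc, e3, ← mul_assoc, ← mul_assoc, e4]
  obtain ⟨p, hp, h1, h2⟩ := key Finset.univ
  exact ⟨p, hp, h1, fun i b => h2 i (Finset.mem_univ i) b⟩

/-- the centre of the centraliser of the family -/
theorem QF.cen_center {x : AU V} (hx : x ∈ D.E) (hxc : Cen P x) (hxK : x.1 ∉ D.K) :
    ∃ y ∈ D.E, Cen P y ∧ x * y = -(y * x) := by
  obtain ⟨y₀, hy₀, hxy⟩ : ∃ y ∈ D.E, x * y ≠ y * x := by
    by_contra hcon
    push Not at hcon
    exact hxK (D.center x hx hcon)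
  obtain ⟨p, hp, h1, h2⟩ := h.adj h3 hE2 y₀ hy₀
  have hyE := D.E.mul_mem (D.E.inv_mem hp) hy₀
  refine ⟨p⁻¹ * y₀, hyE, h2, (mul_pm hE2 hx hyE).resolve_left ?_⟩
  intro e
  apply hxy
  have e1 := h1 x hxc
  calc x * y₀ = (x * p) * (p⁻¹ * y₀) := by group
    _ = p * (x * (p⁻¹ * y₀)) := by rw [e1, mul_assoc]
    _ = p * (p⁻¹ * y₀ * x) := by rw [e]
    _ = y₀ * x := by group

variable (hK : ∀ c : AU V, c.1 ∈ D.K → c = 1 ∨ c = -1)
  (hmax : ∀ y z, D.QP y z → Cen P y → Cen P z → False)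
include hK hmax

/-- the residual part -/
theorem QF.resid : (∀ x ∈ D.E, Cen P x → x.1 ∈ D.K) ∨ ∃ a ∈ D.E, ∃ f ∈ D.E, Cen P a ∧ Cen P f ∧
    a * a = 1 ∧ f * f = 1 ∧ a * f = -(f * a) ∧
    ∀ x ∈ D.E, Cen P x → x * a = a * x → x * f = f * x → x.1 ∈ D.K := by
  have hsq : ∀ x ∈ D.E, x * x = 1 ∨ x * x = -1 := fun x hx => by
    rw [← pow_two]; exact hK _ (hE2 x hx)
  have cmul : ∀ {x y : AU V}, Cen P x → Cen P y → Cen P (x * y) := by
    intro x y hx hy i b
    rw [mul_assoc, hy i b, ← mul_assoc, hx i b, mul_assoc]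
  by_cases hA : ∀ x ∈ D.E, Cen P x → x.1 ∈ D.K
  · exact Or.inl hA
  right
  push Not at hA
  obtain ⟨x, hx, hxc, hxK⟩ := hA
  obtain ⟨y, hy, hyc, hxy⟩ := h.cen_center h3 hE2 hx hxc hxK
  have hyx : y * x = -(x * y) := by rw [hxy, neg_neg]
  obtain ⟨a, ha, f, hf, hac, hfc, haa, hff, haf⟩ : ∃ a ∈ D.E, ∃ f ∈ D.E, Cen P a ∧ Cen P f ∧
      a * a = 1 ∧ f * f = 1 ∧ a * f = -(f * a) := by
    have hxyE := D.E.mul_mem hx hy
    have hxysq : (x * y) * (x * y) = -((x * x) * (y * y)) := by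
      calc (x * y) * (x * y) = x * (y * x) * y := by simp only [mul_assoc]
        _ = x * (-(x * y)) * y := by rw [hyx]
        _ = _ := by rw [mul_neg, neg_mul]; simp only [mul_assoc]
    rcases hsq x hx with h1 | h1 <;> rcases hsq y hy with h2 | h2
    · exact ⟨x, hx, y, hy, hxc, hyc, h1, h2, hxy⟩
    · refine ⟨x, hx, x * y, hxyE, hxc, cmul hxc hyc, h1, ?_, ?_⟩
      · rw [hxysq, h1, h2, one_mul, neg_neg]
      · rw [mul_assoc, hyx, mul_neg, neg_neg]
    · refine ⟨y, hy, x * y, hxyE, hyc, cmul hxc hyc, h2, ?_, ?_⟩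
      · rw [hxysq, h1, h2, mul_one, neg_neg]
      · rw [← mul_assoc, hyx, neg_mul]
    · exact absurd (hmax x y ⟨hx, hy, h1, h2, hxy⟩ hxc hyc) (fun h => h)
  refine ⟨a, ha, f, hf, hac, hfc, haa, hff, haf, fun u hu huc hua huf => ?_⟩
  by_contra huK
  have hfa : f * a = -(a * f) := by rw [haf, neg_neg]
  -- `w² = -1` in the centraliser
  have key : ∀ w ∈ D.E, Cen P w → w * a = a * w → w * f = f * w → w * w = -1 → False := by
    intro w hw hwc hwa hwf hww
    apply hmax (a * f) (a * w) ?_ (cmul hac hfc) (cmul hac hwc)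
    refine ⟨D.E.mul_mem ha hf, D.E.mul_mem ha hw, ?_, ?_, ?_⟩
    · calc a * f * (a * f) = a * (f * a) * f := by simp only [mul_assoc]
        _ = -((a * a) * (f * f)) := by rw [hfa, mul_neg, neg_mul]; simp only [mul_assoc]
        _ = -1 := by rw [haa, hff, one_mul]
    · calc a * w * (a * w) = a * (w * a) * w := by simp only [mul_assoc]
        _ = (a * a) * (w * w) := by rw [hwa]; simp only [mul_assoc]
        _ = -1 := by rw [haa, hww, one_mul]
    · calc a * f * (a * w) = a * (f * a) * w := by simp only [mul_assoc]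
        _ = -(a * a * (f * w)) := by rw [hfa, mul_neg, neg_mul]; simp only [mul_assoc]
        _ = -(a * a * (w * f)) := by rw [hwf]
        _ = -(a * (w * a) * f) := by rw [hwa]; simp only [mul_assoc]
        _ = _ := by simp only [mul_assoc]
  obtain ⟨u₀, hu₀, hu₀c, huu₀⟩ := h.cen_center h3 hE2 hu huc huK
  -- adjust `u₀`
  obtain ⟨u₁, hu₁, hu₁c, h4, h5⟩ : ∃ u₁ ∈ D.E, Cen P u₁ ∧ u * u₁ = -(u₁ * u) ∧
      u₁ * a = a * u₁ := by
    rcases mul_pm hE2 hu₀ ha with h6 | h6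
    · exact ⟨u₀, hu₀, hu₀c, huu₀, h6⟩
    · refine ⟨f * u₀, D.E.mul_mem hf hu₀, cmul hfc hu₀c, ?_, ?_⟩
      · rw [← mul_assoc, huf, mul_assoc, huu₀, mul_neg, mul_assoc]
      · rw [mul_assoc, h6, mul_neg, ← mul_assoc, hfa, neg_mul, neg_neg, mul_assoc]
  obtain ⟨u₂, hu₂, hu₂c, h6, h7, h8⟩ : ∃ u₂ ∈ D.E, Cen P u₂ ∧ u * u₂ = -(u₂ * u) ∧
      u₂ * a = a * u₂ ∧ u₂ * f = f * u₂ := by
    rcases mul_pm hE2 hu₁ hf with h6 | h6
    · exact ⟨u₁, hu₁, hu₁c, h4, h5, h6⟩
    · refine ⟨a * u₁, D.E.mul_mem ha hu₁, cmul hac hu₁c, ?_, ?_, ?_⟩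
      · rw [← mul_assoc, hua, mul_assoc, h4, mul_neg, mul_assoc]
      · rw [mul_assoc, h5]
      · rw [mul_assoc, h6, mul_neg, ← mul_assoc, haf, neg_mul, neg_neg, mul_assoc]
  have hu₂u : u₂ * u = -(u * u₂) := by rw [h6, neg_neg]
  rcases hsq u hu with g1 | g1
  · rcases hsq u₂ hu₂ with g2 | g2
    · apply key (u * u₂) (D.E.mul_mem hu hu₂) (cmul huc hu₂c)
      · rw [mul_assoc, h7, ← mul_assoc, hua, mul_assoc]
      · rw [mul_assoc, h8, ← mul_assoc, huf, mul_assoc]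
      · calc u * u₂ * (u * u₂) = u * (u₂ * u) * u₂ := by simp only [mul_assoc]
          _ = -((u * u) * (u₂ * u₂)) := by rw [hu₂u, mul_neg, neg_mul]; simp only [mul_assoc]
          _ = -1 := by rw [g1, g2, one_mul]
    · exact key u₂ hu₂ hu₂c h7 h8 g2
  · exact key u hu huc hua huf g1

end family

end Dat

end Cfsg.Agent.H578
end

-- part: H578/QF3
section
/-!
# The field with three elements: the invariant transversal (helper578)
-/

set_option autoImplicit false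
set_option linter.unusedSectionVars false

universe u

namespace Cfsg.Agent.H578

variable {V : Type u} [AddCommGroup V]

theorem dvd_of_zsmul {m : ℤ} {v : V} (h3 : ∀ x : V, x + x = -x) (hv : v ≠ 0) (e : m • v = 0) :
    (3 : ℤ) ∣ m := by
  have h30 : (3 : ℤ) • v = 0 := by
    have : (3 : ℤ) = 1 + 1 + 1 := by norm_num
    rw [this, add_zsmul, add_zsmul, one_zsmul, h3, neg_add_cancel]
  have : Fact (Nat.Prime 3) := ⟨by norm_num⟩
  have h1 : addOrderOf v = 3 := by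
    apply addOrderOf_eq_prime _ hv
    rw [← natCast_zsmul]; exact h30
  have h2 := addOrderOf_dvd_iff_zsmul_eq_zero.mpr e
  rw [h1] at h2
  exact h2

namespace Dat

variable {G : Subgroup (AU V)}

theorem pt_mul (y z : AU V) (yy : y * y = -1) (zz : z * z = -1) (yz : y * z = -(z * y)) :
    ∀ t t' : Fin 4, t ≠ 0 → t' ≠ 0 → t ≠ t' → ∃ s : Fin 4, s ≠ 0 ∧
      (pt y z t * pt y z t' = pt y z s ∨ pt y z t * pt y z t' = -(pt y z s)) := by
  have zy : z * y = -(y * z) := by rw [yz, neg_neg]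
  have e12 : pt y z 1 * pt y z 2 = pt y z 3 := rfl
  have e21 : pt y z 2 * pt y z 1 = -(pt y z 3) := zy
  have e13 : pt y z 1 * pt y z 3 = -(pt y z 2) := by
    change y * (y * z) = -z
    rw [← mul_assoc, yy, neg_one_mul]
  have e31 : pt y z 3 * pt y z 1 = pt y z 2 := by
    change y * z * y = z
    rw [mul_assoc, zy, mul_neg, ← mul_assoc, yy, neg_one_mul, neg_neg]
  have e23 : pt y z 2 * pt y z 3 = pt y z 1 := by
    change z * (y * z) = y
    rw [yz, mul_neg, ← mul_assoc, zz, neg_one_mul, neg_neg]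
  have e32 : pt y z 3 * pt y z 2 = -(pt y z 1) := by
    change y * z * z = -y
    rw [mul_assoc, zz, mul_neg_one]
  intro t t' ht ht' htt
  fin_cases t <;> fin_cases t' <;> first
    | exact absurd rfl ht
    | exact absurd rfl ht'
    | exact absurd rfl htt
    | exact ⟨3, by decide, Or.inl e12⟩
    | exact ⟨3, by decide, Or.inr e21⟩
    | exact ⟨2, by decide, Or.inr e13⟩
    | exact ⟨2, by decide, Or.inl e31⟩
    | exact ⟨1, by decide, Or.inl e23⟩
    | exact ⟨1, by decide, Or.inr e32⟩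

theorem pt_comm {y z : AU V} {u : AU V} (h1 : u * y = y * u) (h2 : u * z = z * u) (t : Fin 4) :
    u * pt y z t = pt y z t * u := by
  fin_cases t
  · change u * 1 = 1 * u; rw [mul_one, one_mul]
  · exact h1
  · exact h2
  · change u * (y * z) = y * z * u
    rw [← mul_assoc, h1, mul_assoc, h2, mul_assoc]

theorem pt_mem {D : Dat G} {y z : AU V} (hq : D.QP y z) (t : Fin 4) : pt y z t ∈ D.E := by
  fin_cases t
  · exact D.E.one_mem
  · exact hq.yE
  · exact hq.zE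
  · exact D.E.mul_mem hq.yE hq.zE

section family

variable [Nontrivial V] [Finite V] {D : Dat G} {k : ℕ} {P : Fin k → Bool → AU V} {v : V}
  (h : D.QF P v) (h3 : ∀ x : V, x + x = -x) (hE2 : ∀ x ∈ D.E, (x ^ 2).1 ∈ D.K)
include h h3 hE2

/-- the vectors -/
def ev {k : ℕ} (P : Fin k → Bool → AU V) (v : V) (y : Fin k × Fin 3) : V :=
  (pt (P y.1 false) (P y.1 true) y.2.succ).1 v

theorem QF.fx_other {i j : Fin k} (hij : i ≠ j) (t : Fin 4) {u : V}
    (hu : (P i false).1 u + (P i true).1 u = u) :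
    (P i false).1 ((pt (P j false) (P j true) t).1 u) +
      (P i true).1 ((pt (P j false) (P j true) t).1 u) = (pt (P j false) (P j true) t).1 u := by
  apply (h.qp i).fx_comm hu
  · exact (pt_comm (h.comm i j false false hij) (h.comm i j false true hij) t).symm
  · exact (pt_comm (h.comm i j true false hij) (h.comm i j true true hij) t).symm

theorem QF.ev_inj {y y' : Fin k × Fin 3} (e : PM (ev P v y) (ev P v y')) : y = y' := by
  obtain ⟨i, c⟩ := y
  obtain ⟨j, d⟩ := y'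
  have hbs : ∀ c : Fin 3, be c.succ * be c.succ = 1 := by decide
  have fz : ∀ (n : ℤ) {u : V}, (P i false).1 u + (P i true).1 u = u →
      (P i false).1 (n • u) + (P i true).1 (n • u) = n • u := by
    intro n u hu
    rw [map_zsmul, map_zsmul, ← zsmul_add, hu]
  have fa : ∀ {u w : V}, (P i false).1 u + (P i true).1 u = u →
      (P i false).1 w + (P i true).1 w = w →
      (P i false).1 (u + w) + (P i true).1 (u + w) = u + w := by
    intro u w hu hw
    calc (P i false).1 (u + w) + (P i true).1 (u + w) =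
        ((P i false).1 u + (P i true).1 u) + ((P i false).1 w + (P i true).1 w) := by
          rw [map_add, map_add]; abel
      _ = u + w := by rw [hu, hw]
  have hs : ∃ s : ℤ, (s = 1 ∨ s = -1) ∧ ev P v (i, c) = s • ev P v (j, d) := by
    rcases e with e | e
    · exact ⟨1, Or.inl rfl, by rw [one_zsmul]; exact e⟩
    · exact ⟨-1, Or.inr rfl, by rw [neg_one_zsmul]; exact e⟩
  obtain ⟨s, hs, e⟩ := hs
  have e1 : ev P v (i, c) = al c.succ • v + (P i false).1 (be c.succ • v) :=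
    (h.qp i).pt_apply (h.tv i) c.succ
  rw [e1] at e
  by_cases hij : i = j
  · subst hij
    have e2 : ev P v (i, d) = al d.succ • v + (P i false).1 (be d.succ • v) :=
      (h.qp i).pt_apply (h.tv i) d.succ
    rw [e2] at e
    obtain ⟨eA, eB⟩ := (h.qp i).ind h3 (A := (al c.succ - s * al d.succ) • v)
      (B := (be c.succ - s * be d.succ) • v) (fz _ (h.tv i)) (fz _ (h.tv i)) (by
        rw [sub_zsmul, sub_zsmul, mul_zsmul, mul_zsmul, map_add (P i false).1, map_neg,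
          map_zsmul (P i false).1 s]
        rw [zsmul_add] at e
        have : al c.succ • v + -(s • al d.succ • v) + ((P i false).1 (be c.succ • v) +
            -(s • (P i false).1 (be d.succ • v))) =
          (al c.succ • v + (P i false).1 (be c.succ • v)) -
          (s • al d.succ • v + s • (P i false).1 (be d.succ • v)) := by abel
        rw [this, e, sub_self])
    have dA := dvd_of_zsmul h3 h.hv eA
    have dB := dvd_of_zsmul h3 h.hv eB
    have : ∀ (c d : Fin 3) (s : ℤ), (s = 1 ∨ s = -1) → (3 : ℤ) ∣ al c.succ - s * al d.succ →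
        (3 : ℤ) ∣ be c.succ - s * be d.succ → c = d := by
      intro c d s hs
      rcases hs with rfl | rfl
      · revert c d; decide
      · revert c d; decide
    rw [this c d s hs dA dB]
  · exfalso
    have hfx : (P i false).1 (ev P v (j, d)) + (P i true).1 (ev P v (j, d)) = ev P v (j, d) :=
      h.fx_other h3 hE2 hij d.succ (h.tv i)
    obtain ⟨-, eB⟩ := (h.qp i).ind h3 (A := al c.succ • v + (-s) • ev P v (j, d))
      (B := be c.succ • v) (fa (fz _ (h.tv i)) (fz _ hfx)) (fz _ (h.tv i)) (by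
        rw [neg_zsmul, ← e]; abel)
    have := congrArg (fun u => be c.succ • u) eB
    simp only [zsmul_zero] at this
    rw [← mul_zsmul, hbs, one_zsmul] at this
    exact h.hv this

variable (hmax : ∀ y z, D.QP y z → Cen P y → Cen P z → False)
include hmax

theorem QF.ev_map {g : AU V} (hg : g ∈ G) (hgv : g.1 v = v) (i : Fin k) :
    ∃ j : Fin k, ∀ c : Fin 3, ∃ d : Fin 3, PM (g.1 (ev P v (i, c))) (ev P v (j, d)) := by
  have hq := h.qp i
  obtain ⟨y', hy'⟩ : ∃ y', y' = g * P i false * g⁻¹ := ⟨_, rfl⟩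
  obtain ⟨z', hz'⟩ : ∃ z', z' = g * P i true * g⁻¹ := ⟨_, rfl⟩
  have ey : g.1 ((P i false).1 v) = y'.1 v := by
    rw [hy', au_mul_apply, au_mul_apply, inv_fix hgv]
  have ez : g.1 ((P i true).1 v) = z'.1 v := by
    rw [hz', au_mul_apply, au_mul_apply, inv_fix hgv]
  have eyz : g.1 ((P i false * P i true).1 v) = (y' * z').1 v := by
    have : y' * z' = g * (P i false * P i true) * g⁻¹ := by rw [hy', hz']; group
    rw [this, au_mul_apply (g * (P i false * P i true)) g⁻¹, inv_fix hgv, au_mul_apply g]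
  have hq' : D.QP y' z' := by
    refine ⟨?_, ?_, ?_, ?_, ?_⟩
    · rw [hy']; exact D.GE g hg _ hq.yE
    · rw [hz']; exact D.GE g hg _ hq.zE
    · rw [hy']
      calc g * P i false * g⁻¹ * (g * P i false * g⁻¹) = g * (P i false * P i false) * g⁻¹ := by
            group
        _ = -1 := by rw [hq.yy, mul_neg, mul_one, neg_mul, mul_inv_cancel]
    · rw [hz']
      calc g * P i true * g⁻¹ * (g * P i true * g⁻¹) = g * (P i true * P i true) * g⁻¹ := by
            group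
        _ = -1 := by rw [hq.zz, mul_neg, mul_one, neg_mul, mul_inv_cancel]
    · rw [hy', hz']
      calc g * P i false * g⁻¹ * (g * P i true * g⁻¹) = g * (P i false * P i true) * g⁻¹ := by
            group
        _ = -(g * (P i true * P i false) * g⁻¹) := by rw [hq.yz, mul_neg, neg_mul]
        _ = _ := by congr 1; group
  have hv' : y'.1 v + z'.1 v = v := by
    rw [← ey, ← ez, ← map_add, h.tv i, hgv]
  have hj : ∃ j, ¬ ((y' * P j false = P j false * y' ∧ y' * P j true = P j true * y') ∧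
      (z' * P j false = P j false * z' ∧ z' * P j true = P j true * z')) := by
    by_contra hcon
    push Not at hcon
    have hcon' : ∀ j, (y' * P j false = P j false * y' ∧ y' * P j true = P j true * y') ∧
      (z' * P j false = P j false * z' ∧ z' * P j true = P j true * z') := by
      intro j
      by_contra hc
      exact hc (by
        by_contra hc'
        exact absurd (hcon j) (by tauto))
    apply hmax y' z' hq'
    · intro j b; cases b
      · exact (hcon' j).1.1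
      · exact (hcon' j).1.2
    · intro j b; cases b
      · exact (hcon' j).2.1
      · exact (hcon' j).2.2
  obtain ⟨j, hj⟩ := hj
  refine ⟨j, ?_⟩
  rcases (h.qp j).pair h3 hE2 h.hv (h.tv j) hq'.yE hq'.zE hv' with h1 | h1
  · exact absurd h1 hj
  obtain ⟨t, t', ht, ht', htt, c, hc, c', hc', ⟨hcy, hcz⟩, ⟨hcy', hcz'⟩, p1, p2, e1, e2⟩ := h1
  have hsucc : ∀ t : Fin 4, t ≠ 0 → ∃ d : Fin 3, d.succ = t := by decide
  have htriv : ∀ s : Fin 4, s ≠ 0 → ∀ {u : V}, PM u ((pt (P j false) (P j true) s).1 v) →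
      ∃ d : Fin 3, PM u (ev P v (j, d)) := by
    intro s hs u hu
    obtain ⟨d, hd⟩ := hsucc s hs
    refine ⟨d, ?_⟩
    unfold ev
    rw [hd]
    exact hu
  have r1 : PM (y'.1 v) ((pt (P j false) (P j true) t).1 v) := by
    rw [e1, au_mul_apply]; exact p1.map _
  have r2 : PM (z'.1 v) ((pt (P j false) (P j true) t').1 v) := by
    rw [e2, au_mul_apply]; exact p2.map _
  obtain ⟨s, hs, hts⟩ := pt_mul (P j false) (P j true) (h.qp j).yy (h.qp j).zz (h.qp j).yz
    t t' ht ht' htt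
  have r3 : PM ((y' * z').1 v) ((pt (P j false) (P j true) s).1 v) := by
    have e3 : (y' * z').1 v = (pt (P j false) (P j true) t).1
        ((pt (P j false) (P j true) t').1 (c.1 (c'.1 v))) := by
      rw [e1, e2, au_mul_apply, au_mul_apply, au_mul_apply]
      congr 1
      rw [← au_mul_apply c, pt_comm hcy hcz t', au_mul_apply]
    rw [e3, ← au_mul_apply (pt (P j false) (P j true) t)]
    have p3 : PM (c.1 (c'.1 v)) v := (p2.map c).trans p1
    rcases hts with e4 | e4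
    · rw [e4]; exact p3.map _
    · rw [e4, au_neg_apply]; exact (p3.map _).neg_left
  intro c
  fin_cases c
  · change ∃ d : Fin 3, PM (g.1 ((P i false).1 v)) (ev P v (j, d))
    rw [ey]; exact htriv t ht r1
  · change ∃ d : Fin 3, PM (g.1 ((P i true).1 v)) (ev P v (j, d))
    rw [ez]; exact htriv t' ht' r2
  · change ∃ d : Fin 3, PM (g.1 ((P i false * P i true).1 v)) (ev P v (j, d))
    rw [eyz]; exact htriv s hs r3

/-- **The invariant transversal.** -/
theorem QF.transversal (hN : (Nat.card G).Coprime 3) : ∃ t : Fin k → Fin 4, (∀ i, t i ≠ 0) ∧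
    ∀ g ∈ G, g.1 v = v → ∃ π : Fin k → Fin k, Function.Injective π ∧ ∀ i,
      PM (g.1 ((pt (P i false) (P i true) (t i)).1 v))
        ((pt (P (π i) false) (P (π i) true) (t (π i))).1 v) := by
  classical
  have hfe : Finite (AU V) := by
    have : Finite (AddMonoid.End V) := finite_end
    infer_instance
  let H : Subgroup (AU V) :=
    { carrier := {g | g ∈ G ∧ g.1 v = v}
      one_mem' := ⟨G.one_mem, rfl⟩
      mul_mem' := fun {a b} ha hb => ⟨G.mul_mem ha.1 hb.1, by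
        rw [au_mul_apply, hb.2, ha.2]⟩
      inv_mem' := fun {a} ha => ⟨G.inv_mem ha.1, inv_fix ha.2⟩ }
  have hH : (Nat.card H).Coprime 3 := by
    refine Nat.Coprime.coprime_dvd_left ?_ hN
    exact Subgroup.card_dvd_of_le (fun x hx => hx.1)
  have key : ∀ (g : H) (y : Fin k × Fin 3), ∃ y' : Fin k × Fin 3,
      PM (g.1.1 (ev P v y)) (ev P v y') := by
    rintro g ⟨i, c⟩
    obtain ⟨j, hj⟩ := h.ev_map h3 hE2 hmax g.2.1 g.2.2 i
    obtain ⟨d, hd⟩ := hj c
    exact ⟨(j, d), hd⟩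
  choose ρ hρ using key
  have huniq : ∀ (g : H) (y y' : Fin k × Fin 3), PM (g.1.1 (ev P v y)) (ev P v y') → ρ g y = y' :=
    fun g y y' e => h.ev_inj h3 hE2 ((hρ g y).symm.trans e)
  have hone : ∀ y, ρ 1 y = y := fun y => huniq 1 y y (PM.refl _)
  have hmul : ∀ (a b : H) y, ρ (a * b) y = ρ a (ρ b y) := fun a b y => by
    apply huniq
    have e1 := (hρ b y).map a.1
    exact e1.trans (hρ a (ρ b y))
  have hblock : ∀ (g : H) (i : Fin k) (c d : Fin 3), (ρ g (i, c)).1 = (ρ g (i, d)).1 := by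
    intro g i c d
    obtain ⟨j, hj⟩ := h.ev_map h3 hE2 hmax g.2.1 g.2.2 i
    obtain ⟨c', hc'⟩ := hj c
    obtain ⟨d', hd'⟩ := hj d
    rw [huniq g _ _ hc', huniq g _ _ hd']
  let _ : MulAction H (Fin k × Fin 3) :=
    { smul := ρ
      one_smul := hone
      mul_smul := hmul }
  let _ : MulAction H (Fin k) :=
    { smul := fun g i => (ρ g (i, 0)).1
      one_smul := fun i => by
        change (ρ 1 (i, 0)).1 = i
        rw [hone]
      mul_smul := fun a b i => by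
        change (ρ (a * b) (i, 0)).1 = (ρ a ((ρ b (i, 0)).1, 0)).1
        rw [hmul, ← hblock a (ρ b (i, 0)).1 (ρ b (i, 0)).2 0] }
  obtain ⟨s, hs1, hs2⟩ := equiv_section (H := H) (Y := Fin k × Fin 3) (Z := Fin k) Prod.fst
    (fun g y => by
      obtain ⟨i, c⟩ := y
      exact hblock g i c 0)
    (fun i => by
      have e : {y : Fin k × Fin 3 // y.1 = i} ≃ Fin 3 :=
        { toFun := fun y => y.1.2
          invFun := fun c => ⟨(i, c), rfl⟩
          left_inv := by rintro ⟨⟨j, c⟩, rfl⟩; rfl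
          right_inv := fun c => rfl }
      rw [Nat.card_congr e, Nat.card_fin]) hH
  have hsi : ∀ i, s i = (i, (s i).2) := fun i => Prod.ext (hs1 i) rfl
  refine ⟨fun i => (s i).2.succ, fun i => Fin.succ_ne_zero _, fun g hg hgv => ?_⟩
  refine ⟨fun i => ((⟨g, hg, hgv⟩ : H) • i : Fin k), ?_, fun i => ?_⟩
  · exact MulAction.injective (⟨g, hg, hgv⟩ : H)
  · have e1 := hρ (⟨g, hg, hgv⟩ : H) (s i)
    have e2 : ρ (⟨g, hg, hgv⟩ : H) (s i) = s ((⟨g, hg, hgv⟩ : H) • i) := (hs2 _ i).symm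
    rw [e2, hsi i, hsi ((⟨g, hg, hgv⟩ : H) • i)] at e1
    exact e1

end family

end Dat

end Cfsg.Agent.H578
end

-- part: H578/QF4
section
/-!
# The field with three elements: the base (helper578)
-/

set_option autoImplicit false
set_option linter.unusedSectionVars false

universe u

namespace Cfsg.Agent.H578

variable {V : Type u} [AddCommGroup V]

namespace Dat

variable {G : Subgroup (AU V)}

/-- the products over subsets -/
noncomputable def XP {k : ℕ} (x : Fin k → AU V) (hx : ∀ i j, Commute (x i) (x j))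
    (S : Finset (Fin k)) : AU V := S.noncommProd x (fun i _ j _ _ => hx i j)

theorem XP_empty {k : ℕ} (x : Fin k → AU V) (hx : ∀ i j, Commute (x i) (x j)) :
    XP x hx ∅ = 1 := Finset.noncommProd_empty _ _

theorem XP_insert {k : ℕ} (x : Fin k → AU V) (hx : ∀ i j, Commute (x i) (x j)) {i : Fin k}
    {S : Finset (Fin k)} (hi : i ∉ S) : XP x hx (insert i S) = x i * XP x hx S :=
  Finset.noncommProd_insert_of_notMem _ _ _ _ hi

section family

variable [Nontrivial V] [Finite V] {D : Dat G} {k : ℕ} {P : Fin k → Bool → AU V} {v : V}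
  (h : D.QF P v) (h3 : ∀ x : V, x + x = -x) (hE2 : ∀ x ∈ D.E, (x ^ 2).1 ∈ D.K)
  {t : Fin k → Fin 4} (ht : ∀ i, t i ≠ 0)
include h h3 hE2 ht

omit h3 hE2 ht in
theorem QF.xcomm (i j : Fin k) : Commute (pt (P i false) (P i true) (t i))
    (pt (P j false) (P j true) (t j)) := by
  by_cases hij : i = j
  · subst hij; exact Commute.refl _
  · apply pt_comm
    · exact (pt_comm (h.comm j i false false (Ne.symm hij)) (h.comm j i false true (Ne.symm hij))
        (t i)).symm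
    · exact (pt_comm (h.comm j i true false (Ne.symm hij)) (h.comm j i true true (Ne.symm hij))
        (t i)).symm

theorem QF.bb (i : Fin k) : be (t i) * be (t i) = 1 := by
  have : ∀ s : Fin 4, s ≠ 0 → be s * be s = 1 := by decide
  exact this _ (ht i)

theorem QF.XPE (S : Finset (Fin k)) :
    XP (fun i => pt (P i false) (P i true) (t i)) h.xcomm S ∈ D.E := by
  classical
  induction S using Finset.induction_on with
  | empty => rw [XP_empty]; exact D.E.one_mem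
  | insert i S hi ih => rw [XP_insert _ _ hi]; exact D.E.mul_mem (pt_mem (h.qp i) _) ih

theorem QF.XPc (S : Finset (Fin k)) {u : AU V} (hu : ∀ i ∈ S, ∀ b, u * P i b = P i b * u) :
    u * XP (fun i => pt (P i false) (P i true) (t i)) h.xcomm S =
      XP (fun i => pt (P i false) (P i true) (t i)) h.xcomm S * u := by
  classical
  induction S using Finset.induction_on with
  | empty => rw [XP_empty, mul_one, one_mul]
  | insert i S hi ih =>
    rw [XP_insert _ _ hi, ← mul_assoc, pt_comm (hu i (Finset.mem_insert_self i S) false)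
      (hu i (Finset.mem_insert_self i S) true), mul_assoc,
      ih (fun j hj => hu j (Finset.mem_insert_of_mem hj)), mul_assoc]

/-- the vectors attached to subsets -/
noncomputable def QF.X (h : D.QF P v) (t : Fin k → Fin 4) (S : Finset (Fin k)) : V :=
  (XP (fun i => pt (P i false) (P i true) (t i)) h.xcomm S).1 v

theorem QF.X_ne (S : Finset (Fin k)) : h.X t S ≠ 0 := fun h0 =>
  h.hv (au_injective (XP (fun i => pt (P i false) (P i true) (t i)) h.xcomm S) (by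
    rw [map_zero]; exact h0))

theorem QF.X_insert {i : Fin k} {S : Finset (Fin k)} (hi : i ∉ S) :
    h.X t (insert i S) = (pt (P i false) (P i true) (t i)).1 (h.X t S) := by
  unfold QF.X
  rw [XP_insert _ _ hi, au_mul_apply]

theorem QF.X_empty : h.X t ∅ = v := by
  unfold QF.X
  rw [XP_empty]; rfl

theorem QF.X_fx {i : Fin k} {S : Finset (Fin k)} (hi : i ∉ S) :
    (P i false).1 (h.X t S) + (P i true).1 (h.X t S) = h.X t S := by
  unfold QF.X
  apply (h.qp i).fx_comm (h.tv i)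
  · refine (h.XPc h3 hE2 ht S (u := P i false) fun j hj b => ?_).symm
    exact h.comm i j false b (fun hij => hi (hij ▸ hj))
  · refine (h.XPc h3 hE2 ht S (u := P i true) fun j hj b => ?_).symm
    exact h.comm i j true b (fun hij => hi (hij ▸ hj))

/-- linear independence -/
theorem QF.LI (U : Finset (Fin k)) : ∀ c : Finset (Fin k) → ℤ,
    ∑ S ∈ U.powerset, c S • h.X t S = 0 → ∀ S ∈ U.powerset, c S • h.X t S = 0 := by
  classical
  induction U using Finset.induction_on with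
  | empty =>
    intro c hc S hS
    rw [Finset.powerset_empty] at hc hS
    rw [Finset.mem_singleton] at hS
    subst hS
    rw [Finset.sum_singleton] at hc
    exact hc
  | insert i U hi ih =>
    intro c hc
    rw [Finset.sum_powerset_insert hi] at hc
    have hiS : ∀ S ∈ U.powerset, i ∉ S := fun S hS h => hi (Finset.mem_powerset.mp hS h)
    have e1 : ∑ S ∈ U.powerset, c (insert i S) • h.X t (insert i S) =
        (pt (P i false) (P i true) (t i)).1 (∑ S ∈ U.powerset, c (insert i S) • h.X t S) := by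
      rw [map_sum]
      refine Finset.sum_congr rfl fun S hS => ?_
      rw [h.X_insert h3 hE2 ht (hiS S hS), map_zsmul]
    rw [e1] at hc
    have fz : ∀ (n : ℤ) {u : V}, (P i false).1 u + (P i true).1 u = u →
        (P i false).1 (n • u) + (P i true).1 (n • u) = n • u := by
      intro n u hu
      rw [map_zsmul, map_zsmul, ← zsmul_add, hu]
    have fa : ∀ {u w : V}, (P i false).1 u + (P i true).1 u = u →
        (P i false).1 w + (P i true).1 w = w →
        (P i false).1 (u + w) + (P i true).1 (u + w) = u + w := by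
      intro u w hu hw
      calc (P i false).1 (u + w) + (P i true).1 (u + w) =
          ((P i false).1 u + (P i true).1 u) + ((P i false).1 w + (P i true).1 w) := by
            rw [map_add, map_add]; abel
        _ = u + w := by rw [hu, hw]
    have fs : ∀ d : Finset (Fin k) → ℤ,
        (P i false).1 (∑ S ∈ U.powerset, d S • h.X t S) +
          (P i true).1 (∑ S ∈ U.powerset, d S • h.X t S) = ∑ S ∈ U.powerset, d S • h.X t S := by
      intro d
      rw [map_sum, map_sum, ← Finset.sum_add_distrib]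
      exact Finset.sum_congr rfl fun S hS => fz _ (h.X_fx h3 hE2 ht (hiS S hS))
    have fB := fs (fun S => c (insert i S))
    have fA := fs c
    rw [(h.qp i).pt_apply fB (t i), ← add_assoc] at hc
    obtain ⟨eA, eB⟩ := (h.qp i).ind h3 (fa fA (fz _ fB)) (fz _ fB) hc
    have eB' : ∑ S ∈ U.powerset, c (insert i S) • h.X t S = 0 := by
      have := congrArg (fun u => be (t i) • u) eB
      simp only [zsmul_zero] at this
      rw [← mul_zsmul, h.bb h3 hE2 ht i, one_zsmul] at this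
      exact this
    rw [eB', zsmul_zero, add_zero] at eA
    have r1 := ih c eA
    have r2 := ih (fun S => c (insert i S)) eB'
    intro S hS
    rw [Finset.powerset_insert, Finset.mem_union] at hS
    rcases hS with hS | hS
    · exact r1 S hS
    · obtain ⟨S', hS', rfl⟩ := Finset.mem_image.mp hS
      have := r2 S' hS'
      rw [h.X_insert h3 hE2 ht (hiS S' hS'), ← map_zsmul, this, map_zero]

/-- images of the vectors -/
theorem QF.X_map {g : AU V} (hg : g ∈ G) (hgv : g.1 v = v) {π : Fin k → Fin k}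
    (hπ : Function.Injective π) (hπx : ∀ i, PM (g.1 ((pt (P i false) (P i true) (t i)).1 v))
        ((pt (P (π i) false) (P (π i) true) (t (π i))).1 v)) (S : Finset (Fin k)) :
    PM (g.1 (h.X t S)) (h.X t (S.image π)) := by
  classical
  induction S using Finset.induction_on with
  | empty =>
    rw [Finset.image_empty, h.X_empty h3 hE2 ht, hgv]
    exact PM.refl _
  | insert i S hi ih =>
    have hi' : π i ∉ S.image π := by
      rw [Finset.mem_image]
      rintro ⟨j, hj, hij⟩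
      exact hi (hπ hij ▸ hj)
    rw [Finset.image_insert, h.X_insert h3 hE2 ht hi, h.X_insert h3 hE2 ht hi']
    obtain ⟨xi, hxi⟩ : ∃ xi, xi = pt (P i false) (P i true) (t i) := ⟨_, rfl⟩
    obtain ⟨xp, hxp⟩ : ∃ xp, xp = pt (P (π i) false) (P (π i) true) (t (π i)) := ⟨_, rfl⟩
    have e0 := hπx i
    rw [← hxi, ← hxp] at e0 ⊢
    have hxpE : xp ∈ D.E := by rw [hxp]; exact pt_mem (h.qp _) _
    have hxiE : xi ∈ D.E := by rw [hxi]; exact pt_mem (h.qp _) _
    obtain ⟨c, hc⟩ : ∃ c, c = xp⁻¹ * (g * xi * g⁻¹) := ⟨_, rfl⟩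
    have hcE : c ∈ D.E := by rw [hc]; exact D.E.mul_mem (D.E.inv_mem hxpE) (D.GE g hg _ hxiE)
    have e1 : ∀ u, g.1 (xi.1 u) = xp.1 (c.1 (g.1 u)) := by
      intro u
      rw [hc, ← au_mul_apply xp, ← au_mul_apply _ g, ← au_mul_apply g]
      congr 2; group
    have hcv : PM (c.1 v) v := by
      have e2 := e1 v
      rw [hgv] at e2
      rw [e2] at e0
      have := e0.map xp⁻¹
      rwa [au_inv_apply, au_inv_apply] at this
    have hcX : PM (c.1 (h.X t (S.image π))) (h.X t (S.image π)) := by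
      unfold QF.X
      have hXE := h.XPE h3 hE2 ht (S.image π)
      rcases mul_pm hE2 hcE hXE with e2 | e2
      · rw [← au_mul_apply, e2, au_mul_apply]; exact hcv.map _
      · rw [← au_mul_apply, e2, au_neg_apply, au_mul_apply]; exact (hcv.map _).neg_left
    rw [e1]
    exact ((ih.map c).trans hcX).map xp

/-- the chain is rigid -/
theorem QF.chain {g : AU V} (hg : g ∈ G) (hgv : g.1 v = v) {π : Fin k → Fin k}
    (hπ : Function.Injective π) (hπx : ∀ i, PM (g.1 ((pt (P i false) (P i true) (t i)).1 v))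
        ((pt (P (π i) false) (P (π i) true) (t (π i))).1 v))
    (hgw : g.1 (∑ j : Fin k, h.X t (Finset.Iic j)) = ∑ j : Fin k, h.X t (Finset.Iic j)) :
    (∀ i, π i = i) ∧ ∀ j, g.1 (h.X t (Finset.Iic j)) = h.X t (Finset.Iic j) := by
  classical
  have hs : ∀ j : Fin k, ∃ s : ℤ, (s = 1 ∨ s = -1) ∧
      g.1 (h.X t (Finset.Iic j)) = s • h.X t ((Finset.Iic j).image π) := by
    intro j
    rcases h.X_map h3 hE2 ht hg hgv hπ hπx (Finset.Iic j) with e | e
    · exact ⟨1, Or.inl rfl, by rw [one_zsmul]; exact e⟩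
    · exact ⟨-1, Or.inr rfl, by rw [neg_one_zsmul]; exact e⟩
  choose s hs1 hs2 using hs
  let c : Finset (Fin k) → ℤ := fun S =>
    (∑ j : Fin k, if S = (Finset.Iic j).image π then s j else 0) -
      ∑ j : Fin k, if S = Finset.Iic j then 1 else 0
  have hsum : ∑ S ∈ (Finset.univ : Finset (Fin k)).powerset, c S • h.X t S = 0 := by
    have e1 : ∀ S, c S • h.X t S =
        (∑ j : Fin k, if S = (Finset.Iic j).image π then s j • h.X t S else 0) -
          ∑ j : Fin k, if S = Finset.Iic j then h.X t S else 0 := by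
      intro S
      change ((∑ j : Fin k, if S = (Finset.Iic j).image π then s j else 0) -
        ∑ j : Fin k, if S = Finset.Iic j then (1 : ℤ) else 0) • h.X t S = _
      rw [sub_zsmul, ← sub_eq_add_neg, Finset.sum_smul, Finset.sum_smul]
      congr 1
      · refine Finset.sum_congr rfl fun j _ => ?_
        split_ifs
        · rfl
        · exact zero_zsmul _
      · refine Finset.sum_congr rfl fun j _ => ?_
        split_ifs
        · exact one_zsmul _
        · exact zero_zsmul _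
    have e2 : ∑ S : Finset (Fin k), (∑ j : Fin k,
        if S = (Finset.Iic j).image π then s j • h.X t S else 0) =
        ∑ j : Fin k, s j • h.X t ((Finset.Iic j).image π) := by
      rw [Finset.sum_comm]
      refine Finset.sum_congr rfl fun j _ => ?_
      rw [Finset.sum_ite_eq', if_pos (Finset.mem_univ _)]
    have e3 : ∑ S : Finset (Fin k), (∑ j : Fin k,
        if S = Finset.Iic j then h.X t S else 0) = ∑ j : Fin k, h.X t (Finset.Iic j) := by
      rw [Finset.sum_comm]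
      refine Finset.sum_congr rfl fun j _ => ?_
      rw [Finset.sum_ite_eq', if_pos (Finset.mem_univ _)]
    rw [Finset.powerset_univ, Finset.sum_congr rfl (fun S _ => e1 S), Finset.sum_sub_distrib,
      e2, e3, ← hgw, map_sum, Finset.sum_congr rfl (fun j _ => hs2 j), sub_self]
  have hLI := h.LI h3 hE2 ht Finset.univ c hsum
  have hcard : ∀ j : Fin k, ((Finset.Iic j).image π).card = j.val + 1 := by
    intro j
    rw [Finset.card_image_of_injective _ hπ, Fin.card_Iic]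
  have hcard' : ∀ j : Fin k, (Finset.Iic j).card = j.val + 1 := fun j => Fin.card_Iic j
  have key : ∀ m : Fin k, Finset.Iic m = (Finset.Iic m).image π ∧ s m = 1 := by
    intro m
    have e1 := hLI (Finset.Iic m) (by rw [Finset.powerset_univ]; exact Finset.mem_univ _)
    have e2 := dvd_of_zsmul h3 (h.X_ne h3 hE2 ht (Finset.Iic m)) e1
    have e3 : c (Finset.Iic m) = (if Finset.Iic m = (Finset.Iic m).image π then s m else 0) - 1 := by
      change (∑ j : Fin k, if Finset.Iic m = (Finset.Iic j).image π then s j else 0) -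
        (∑ j : Fin k, if Finset.Iic m = Finset.Iic j then (1 : ℤ) else 0) = _
      congr 1
      · rw [Finset.sum_eq_single m]
        · intro j _ hj
          rw [if_neg]
          intro e
          have := congrArg Finset.card e
          rw [hcard, hcard'] at this
          exact hj (Fin.ext (by omega))
        · intro hm; exact absurd (Finset.mem_univ m) hm
      · rw [Finset.sum_eq_single m]
        · rw [if_pos rfl]
        · intro j _ hj
          rw [if_neg]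
          intro e
          have := congrArg Finset.card e
          rw [hcard', hcard'] at this
          exact hj (Fin.ext (by omega))
        · intro hm; exact absurd (Finset.mem_univ m) hm
    rw [e3] at e2
    by_cases he : Finset.Iic m = (Finset.Iic m).image π
    · refine ⟨he, ?_⟩
      rw [if_pos he] at e2
      rcases hs1 m with h1 | h1
      · exact h1
      · rw [h1] at e2; omega
    · rw [if_neg he] at e2; omega
  have hle : ∀ i, π i ≤ i := by
    intro i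
    have h1 : π i ∈ (Finset.Iic i).image π := Finset.mem_image_of_mem π (Finset.mem_Iic.mpr le_rfl)
    rw [← (key i).1] at h1
    exact Finset.mem_Iic.mp h1
  refine ⟨?_, fun j => ?_⟩
  · have : ∀ n : ℕ, ∀ i : Fin k, i.val = n → π i = i := by
      intro n
      induction n using Nat.strong_induction_on with
      | _ n ih =>
        intro i hi
        rcases lt_or_eq_of_le (hle i) with h1 | h1
        · have h2 := ih (π i).val (by rw [← hi]; exact h1) (π i) rfl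
          exact absurd (hπ h2) (ne_of_lt h1)
        · exact h1
    exact fun i => this i.val i rfl
  · rw [hs2, (key j).2, one_zsmul, ← (key j).1]

/-- the stabiliser of `v` centralises the planes -/
theorem QF.stab_cen {e : AU V} (he : e ∈ D.E) (hev : e.1 v = v) : Cen P e := by
  have key : ∀ i, e * P i false = P i false * e ∧ e * P i true = P i true * e := by
    intro i
    obtain ⟨s, c, hc, hcy, hcz, rfl⟩ := (h.qp i).cls hE2 he
    have hC := (h.qp i).fx_comm (h.tv i) hcy hcz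
    have hCn : c.1 v ≠ 0 := fun h0 => h.hv (au_injective c (by rw [h0, map_zero]))
    rw [au_mul_apply, (h.qp i).pt_apply hC] at hev
    have fz : ∀ (n : ℤ) {u : V}, (P i false).1 u + (P i true).1 u = u →
        (P i false).1 (n • u) + (P i true).1 (n • u) = n • u := by
      intro n u hu
      rw [map_zsmul, map_zsmul, ← zsmul_add, hu]
    have fa : ∀ {u w : V}, (P i false).1 u + (P i true).1 u = u →
        (P i false).1 w + (P i true).1 w = w →
        (P i false).1 (u + w) + (P i true).1 (u + w) = u + w := by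
      intro u w hu hw
      calc (P i false).1 (u + w) + (P i true).1 (u + w) =
          ((P i false).1 u + (P i true).1 u) + ((P i false).1 w + (P i true).1 w) := by
            rw [map_add, map_add]; abel
        _ = u + w := by rw [hu, hw]
    obtain ⟨-, eB⟩ := (h.qp i).ind h3 (A := al s • c.1 v + (-1 : ℤ) • v) (B := be s • c.1 v)
      (fa (fz _ hC) (fz _ (h.tv i))) (fz _ hC) (by
        rw [neg_one_zsmul]
        have : al s • c.1 v + -v + (P i false).1 (be s • c.1 v) =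
          (al s • c.1 v + (P i false).1 (be s • c.1 v)) - v := by abel
        rw [this, hev, sub_self])
    have hb : ∀ s : Fin 4, s = 0 ∨ be s * be s = 1 := by decide
    rcases hb s with rfl | hb
    · have : pt (P i false) (P i true) 0 * c = c := one_mul c
      rw [this]
      exact ⟨hcy, hcz⟩
    · exfalso
      have := congrArg (fun u => be s • u) eB
      simp only [zsmul_zero] at this
      rw [← mul_zsmul, hb, one_zsmul] at this
      exact hCn this
  intro i b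
  cases b
  · exact (key i).1
  · exact (key i).2

/-- conclusion for the planes -/
theorem QF.fix_planes {g : AU V} (hg : g ∈ G) (hgv : g.1 v = v) {π : Fin k → Fin k}
    (hπ : Function.Injective π) (hπx : ∀ i, PM (g.1 ((pt (P i false) (P i true) (t i)).1 v))
        ((pt (P (π i) false) (P (π i) true) (t (π i))).1 v))
    (hgw : g.1 (∑ j : Fin k, h.X t (Finset.Iic j)) = ∑ j : Fin k, h.X t (Finset.Iic j)) :
    ∀ i b, g.1 ((P i b).1 v) = (P i b).1 v := by
  classical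
  obtain ⟨hid, hX⟩ := h.chain h3 hE2 ht hg hgv hπ hπx hgw
  have hX' : ∀ j, g.1 (h.X t (Finset.Iio j)) = h.X t (Finset.Iio j) := by
    intro j
    by_cases hj : j.val = 0
    · have : Finset.Iio j = ∅ := by
        ext i
        simp only [Finset.mem_Iio, Finset.notMem_empty, iff_false, not_lt]
        exact Fin.le_def.mpr (by omega)
      rw [this, h.X_empty h3 hE2 ht, hgv]
    · have : Finset.Iio j = Finset.Iic ⟨j.val - 1, by omega⟩ := by
        ext i
        simp only [Finset.mem_Iio, Finset.mem_Iic, Fin.lt_def, Fin.le_def]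
        omega
      rw [this, hX]
  have hfix : ∀ i, g.1 ((pt (P i false) (P i true) (t i)).1 v) =
      (pt (P i false) (P i true) (t i)).1 v := by
    intro i
    have e0 := hπx i
    rw [hid] at e0
    obtain ⟨xi, hxi⟩ : ∃ xi, xi = pt (P i false) (P i true) (t i) := ⟨_, rfl⟩
    rw [← hxi] at e0 ⊢
    have hxiE : xi ∈ D.E := by rw [hxi]; exact pt_mem (h.qp _) _
    obtain ⟨c, hc⟩ : ∃ c, c = xi⁻¹ * (g * xi * g⁻¹) := ⟨_, rfl⟩
    have hcE : c ∈ D.E := by rw [hc]; exact D.E.mul_mem (D.E.inv_mem hxiE) (D.GE g hg _ hxiE)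
    have e1 : ∀ u, g.1 (xi.1 u) = xi.1 (c.1 (g.1 u)) := by
      intro u
      rw [hc, ← au_mul_apply xi, ← au_mul_apply _ g, ← au_mul_apply g]
      congr 2; group
    rcases e0 with e0 | e0
    · exact e0
    · exfalso
      have hcv : c.1 v = -v := by
        rw [e1, hgv, ← map_neg] at e0
        exact au_injective xi e0
      have hnc : Cen P (-c) := h.stab_cen h3 hE2 ht
        (by rw [← neg_one_mul]; exact D.E.mul_mem D.neg_one_mem hcE)
        (by rw [au_neg_apply, hcv, neg_neg])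
      have hcc : ∀ j b, c * P j b = P j b * c := by
        intro j b
        have := hnc j b
        rw [neg_mul, mul_neg] at this
        exact neg_injective this
      have hins : Finset.Iic i = insert i (Finset.Iio i) := by
        ext j
        simp only [Finset.mem_Iic, Finset.mem_insert, Finset.mem_Iio]
        exact le_iff_eq_or_lt
      have e2 := hX i
      rw [hins, h.X_insert h3 hE2 ht (by simp), ← hxi, e1, hX'] at e2
      have e3 := au_injective xi e2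
      have e4 : c.1 (h.X t (Finset.Iio i)) = -(h.X t (Finset.Iio i)) := by
        unfold QF.X
        rw [← au_mul_apply, h.XPc h3 hE2 ht _ (fun j _ b => hcc j b), au_mul_apply, hcv, map_neg]
      rw [e4] at e3
      exact h.X_ne h3 hE2 ht _ ((h.qp i).neg_self h3 e3.symm)
  intro i b
  have hpa := (h.qp i).pt_apply (h.tv i) (t i)
  have e1 := hfix i
  rw [hpa, map_add, map_zsmul g.1, hgv, map_zsmul (P i false).1, map_zsmul g.1] at e1
  have e2 := add_left_cancel e1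
  have e3 : g.1 ((P i false).1 v) = (P i false).1 v := by
    have := congrArg (fun u => be (t i) • u) e2
    rw [← mul_zsmul, ← mul_zsmul, h.bb h3 hE2 ht i, one_zsmul, one_zsmul] at this
    exact this
  cases b
  · exact e3
  · have e4 : (P i true).1 v = v - (P i false).1 v := by
      rw [eq_sub_iff_add_eq, add_comm]; exact h.tv i
    rw [e4, map_sub, hgv, e3]

end family

end Dat

end Cfsg.Agent.H578
end

-- part: H578/QF5
section
/-!
# The field with three elements: the result (helper578)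
-/

set_option autoImplicit false
set_option linter.unusedSectionVars false

universe u

namespace Cfsg.Agent.H578

variable {V : Type u} [AddCommGroup V]

namespace Dat

variable {G : Subgroup (AU V)}

section family

variable [Nontrivial V] [Finite V] {D : Dat G} {k : ℕ} {P : Fin k → Bool → AU V} {v : V}
  (h : D.QF P v) (h3 : ∀ x : V, x + x = -x) (hE2 : ∀ x ∈ D.E, (x ^ 2).1 ∈ D.K)
include h h3 hE2

/-- centralising everything -/
theorem QF.finish {g : AU V} (hg : g ∈ G) (hgv : g.1 v = v) (hgP : Cen P g)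
    (hq : ∀ q ∈ D.E, Cen P q → g * q = q * g) : g = 1 := by
  have h1 : g.1 ∈ D.K := by
    apply D.cent g hg
    intro x hx
    obtain ⟨p, hp, hp1, hp2⟩ := h.adj h3 hE2 x hx
    have e1 := hp1 g hgP
    have e2 := hq _ (D.E.mul_mem (D.E.inv_mem hp) hx) hp2
    calc g * x = (g * p) * (p⁻¹ * x) := by group
      _ = p * (g * (p⁻¹ * x)) := by rw [e1, mul_assoc]
      _ = p * (p⁻¹ * x * g) := by rw [e2]
      _ = x * g := by group
  exact eq_one_of_fix h.hv h1 hgv

theorem QF.baseA (hN : (Nat.card G).Coprime 3) (hK : ∀ c : AU V, c.1 ∈ D.K → c = 1 ∨ c = -1)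
    (hmax : ∀ y z, D.QP y z → Cen P y → Cen P z → False)
    (hA : ∀ x ∈ D.E, Cen P x → x.1 ∈ D.K) : HasBase (Fin 2) G := by
  obtain ⟨t, ht, htr⟩ := h.transversal h3 hE2 hmax hN
  refine ⟨![v, ∑ j : Fin k, h.X t (Finset.Iic j)], fun g hg hgg => ?_⟩
  have hgv : g.1 v = v := hgg 0
  have hgw : g.1 (∑ j : Fin k, h.X t (Finset.Iic j)) = ∑ j : Fin k, h.X t (Finset.Iic j) := hgg 1
  obtain ⟨π, hπ, hπx⟩ := htr g hg hgv
  have hfix := h.fix_planes h3 hE2 ht hg hgv hπ hπx hgw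
  apply h.finish h3 hE2 hg hgv
  · intro i b
    have hPE : P i b ∈ D.E := by
      cases b
      · exact (h.qp i).yE
      · exact (h.qp i).zE
    obtain ⟨e, he⟩ : ∃ e, e = (P i b)⁻¹ * (g * P i b * g⁻¹) := ⟨_, rfl⟩
    have heE : e ∈ D.E := by rw [he]; exact D.E.mul_mem (D.E.inv_mem hPE) (D.GE g hg _ hPE)
    have hev : e.1 v = v := by
      rw [he]
      have e1 : ((P i b)⁻¹ * (g * P i b * g⁻¹)).1 v = (P i b)⁻¹.1 (g.1 ((P i b).1 v)) := by
        rw [au_mul_apply, au_mul_apply, au_mul_apply, inv_fix hgv]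
      rw [e1, hfix, au_inv_apply]
    have h1 := eq_one_of_fix h.hv (hA e heE (h.stab_cen h3 hE2 ht heE hev)) hev
    rw [h1] at he
    have h2 : g * P i b * g⁻¹ = P i b := (inv_mul_eq_one.mp he.symm).symm
    exact mul_inv_eq_iff_eq_mul.mp h2
  · intro q hqE hqc
    rcases hK q (hA q hqE hqc) with rfl | rfl
    · rw [mul_one, one_mul]
    · rw [mul_neg_one, neg_one_mul]

theorem QF.baseB (hN : (Nat.card G).Coprime 3) (hK : ∀ c : AU V, c.1 ∈ D.K → c = 1 ∨ c = -1)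
    (hmax : ∀ y z, D.QP y z → Cen P y → Cen P z → False) {a f : AU V} (ha : a ∈ D.E)
    (hf : f ∈ D.E) (hac : Cen P a) (hfc : Cen P f) (haa : a * a = 1) (hff : f * f = 1)
    (haf : a * f = -(f * a))
    (hB : ∀ x ∈ D.E, Cen P x → x * a = a * x → x * f = f * x → x.1 ∈ D.K)
    (hav : a.1 v = v) (two : (1 : AU V) ≠ -1) : HasBase (Fin 2) G := by
  obtain ⟨t, ht, htr⟩ := h.transversal h3 hE2 hmax hN
  have hfa : f * a = -(a * f) := by rw [haf, neg_neg]
  have hafv : a.1 (f.1 v) = -(f.1 v) := by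
    rw [← au_mul_apply, haf, au_neg_apply, au_mul_apply, hav]
  have cmul : ∀ {x y : AU V}, Cen P x → Cen P y → Cen P (x * y) := by
    intro x y hx hy i b
    rw [mul_assoc, hy i b, ← mul_assoc, hx i b, mul_assoc]
  -- the stabiliser of `v` in `E`
  have hstab : ∀ e ∈ D.E, e.1 v = v → e = 1 ∨ e = a := by
    intro e he hev
    have hec := h.stab_cen h3 hE2 ht he hev
    have hea : e * a = a * e := by
      rcases mul_pm hE2 he ha with h1 | h1
      · exact h1
      · exfalso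
        have h2 : (e * a).1 v = v := by rw [au_mul_apply, hav, hev]
        rw [h1, au_neg_apply, au_mul_apply, hev, hav] at h2
        exact h.hv (D.two_tors two h2.symm)
    rcases mul_pm hE2 he hf with h1 | h1
    · left; exact eq_one_of_fix h.hv (hB e he hec hea h1) hev
    · right
      have h2 : (a * e).1 ∈ D.K := by
        apply hB _ (D.E.mul_mem ha he) (cmul hac hec)
        · rw [mul_assoc, hea]
        · rw [mul_assoc, h1, mul_neg, ← mul_assoc, haf, neg_mul, neg_neg, mul_assoc]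
      have h3' := eq_one_of_fix h.hv h2 (by rw [au_mul_apply, hev, hav])
      calc e = (a * a) * e := by rw [haa, one_mul]
        _ = a * (a * e) := mul_assoc _ _ _
        _ = a := by rw [h3', mul_one]
  have hX : ∀ S, a.1 (h.X t S) = h.X t S := by
    intro S
    unfold QF.X
    rw [← au_mul_apply, h.XPc h3 hE2 ht S (fun i _ b => hac i b), au_mul_apply, hav]
  refine ⟨![v, ∑ j : Fin k, h.X t (Finset.Iic j) + f.1 v], fun g hg hgg => ?_⟩
  have hgv : g.1 v = v := hgg 0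
  have hgw₀ : g.1 (∑ j : Fin k, h.X t (Finset.Iic j) + f.1 v) =
    ∑ j : Fin k, h.X t (Finset.Iic j) + f.1 v := hgg 1
  have hga : g * a * g⁻¹ = a := by
    have h1 : (g * a * g⁻¹).1 v = v := conj_fix hgv hav
    rcases hstab _ (D.GE g hg a ha) h1 with h2 | h2
    · exfalso
      have h3' : a = 1 := by
        have : a = g⁻¹ * (g * a * g⁻¹) * g := by group
        rw [this, h2]; group
      rw [h3', one_mul, mul_one] at haf
      have h4 : f * 1 = f * (-1) := by rw [mul_one, mul_neg_one]; exact haf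
      exact two (mul_left_cancel h4)
    · exact h2
  have hga' : a * g = g * a := (mul_inv_eq_iff_eq_mul.mp hga).symm
  have hsum : a.1 (∑ j : Fin k, h.X t (Finset.Iic j)) = ∑ j : Fin k, h.X t (Finset.Iic j) := by
    rw [map_sum]; exact Finset.sum_congr rfl fun j _ => hX _
  rw [map_add] at hgw₀
  obtain ⟨hgw, hgf⟩ := comp2' D two (z := a) (by rw [← au_mul_apply, hga', au_mul_apply, hsum])
    (by rw [← au_mul_apply, hga', au_mul_apply, hafv, map_neg]) hsum hafv hgw₀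
  obtain ⟨π, hπ, hπx⟩ := htr g hg hgv
  have hfix := h.fix_planes h3 hE2 ht hg hgv hπ hπx hgw
  have hcls : ∀ x ∈ D.E, g.1 (x.1 v) = x.1 v → g * x * g⁻¹ = x ∨ g * x * g⁻¹ = x * a := by
    intro x hx hgx
    obtain ⟨e, he⟩ : ∃ e, e = x⁻¹ * (g * x * g⁻¹) := ⟨_, rfl⟩
    have heE : e ∈ D.E := by rw [he]; exact D.E.mul_mem (D.E.inv_mem hx) (D.GE g hg _ hx)
    have hev : e.1 v = v := by
      rw [he]
      have e1 : (x⁻¹ * (g * x * g⁻¹)).1 v = x⁻¹.1 (g.1 (x.1 v)) := by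
        rw [au_mul_apply, au_mul_apply, au_mul_apply, inv_fix hgv]
      rw [e1, hgx, au_inv_apply]
    have e2 : g * x * g⁻¹ = x * e := by rw [he]; group
    rcases hstab e heE hev with h1 | h1
    · left; rw [e2, h1, mul_one]
    · right; rw [e2, h1]
  have hnaf : a * f ≠ f * a := by
    intro e
    rw [e] at haf
    have h4 : (f * a) * 1 = (f * a) * (-1) := by rw [mul_one, mul_neg_one]; exact haf
    exact two (mul_left_cancel h4)
  have hgf' : g * f * g⁻¹ = f := by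
    rcases hcls f hf hgf with h1 | h1
    · exact h1
    · exfalso
      have h2 : (g * f * g⁻¹) * (g * f * g⁻¹) = 1 := by
        calc (g * f * g⁻¹) * (g * f * g⁻¹) = g * (f * f) * g⁻¹ := by group
          _ = 1 := by rw [hff]; group
      rw [h1] at h2
      have h3' : f * a * (f * a) = -1 := by
        calc f * a * (f * a) = f * (a * f) * a := by simp only [mul_assoc]
          _ = -((f * f) * (a * a)) := by rw [haf, mul_neg, neg_mul]; simp only [mul_assoc]
          _ = -1 := by rw [hff, haa, one_mul]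
      rw [h3'] at h2
      exact two h2.symm
  apply h.finish h3 hE2 hg hgv
  · intro i b
    have hPE : P i b ∈ D.E := by
      cases b
      · exact (h.qp i).yE
      · exact (h.qp i).zE
    rcases hcls _ hPE (hfix i b) with h1 | h1
    · exact mul_inv_eq_iff_eq_mul.mp h1
    · exfalso
      have h2 : (g * P i b * g⁻¹) * (g * f * g⁻¹) = (g * f * g⁻¹) * (g * P i b * g⁻¹) := by
        calc (g * P i b * g⁻¹) * (g * f * g⁻¹) = g * (P i b * f) * g⁻¹ := by group
          _ = g * (f * P i b) * g⁻¹ := by rw [hfc i b]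
          _ = _ := by group
      rw [h1, hgf'] at h2
      apply hnaf
      apply mul_left_cancel (a := P i b)
      rw [← mul_assoc, h2, ← mul_assoc, hfc i b, mul_assoc]
  · intro q hqE hqc
    have hg_a : g * a = a * g := hga'.symm
    have hg_f : g * f = f * g := mul_inv_eq_iff_eq_mul.mp hgf'
    -- adjust `q`
    have key : ∀ r ∈ D.E, Cen P r → r * a = a * r → r * f = f * r → g * r = r * g := by
      intro r hr hrc h1 h2
      rcases hK r (hB r hr hrc h1 h2) with rfl | rfl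
      · rw [mul_one, one_mul]
      · rw [mul_neg_one, neg_one_mul]
    have canc : ∀ x r : AU V, g * x = x * g → g * (x * r) = (x * r) * g → g * r = r * g := by
      intro x r h1 h2
      apply mul_left_cancel (a := x)
      rw [← mul_assoc, ← h1, mul_assoc, h2, mul_assoc]
    rcases mul_pm hE2 hqE ha with h1 | h1 <;> rcases mul_pm hE2 hqE hf with h2 | h2
    · exact key q hqE hqc h1 h2
    · apply canc a q hg_a
      apply key _ (D.E.mul_mem ha hqE) (cmul hac hqc)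
      · rw [mul_assoc, h1]
      · rw [mul_assoc, h2, mul_neg, ← mul_assoc, haf, neg_mul, neg_neg, mul_assoc]
    · apply canc f q hg_f
      apply key _ (D.E.mul_mem hf hqE) (cmul hfc hqc)
      · rw [mul_assoc, h1, mul_neg, ← mul_assoc, hfa, neg_mul, neg_neg, mul_assoc]
      · rw [mul_assoc, h2]
    · apply canc a q hg_a
      apply canc f (a * q) hg_f
      apply key _ (D.E.mul_mem hf (D.E.mul_mem ha hqE)) (cmul hfc (cmul hac hqc))
      · calc f * (a * q) * a = f * (a * (q * a)) := by simp only [mul_assoc]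
          _ = -((f * a) * (a * q)) := by rw [h1]; simp only [mul_neg, mul_assoc]
          _ = a * (f * (a * q)) := by rw [hfa, neg_mul, neg_neg]; simp only [mul_assoc]
      · calc f * (a * q) * f = f * (a * (q * f)) := by simp only [mul_assoc]
          _ = -(f * ((a * f) * q)) := by rw [h2]; simp only [mul_neg, mul_assoc]
          _ = f * (f * (a * q)) := by
            rw [haf]; simp only [neg_mul, mul_neg, neg_neg, mul_assoc]

end family

variable {D : Dat G} [Nontrivial V] [Finite V]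

/-- **The field with three elements.** -/
theorem prim2_three (hN : (Nat.card G).Coprime 3) (h3 : ∀ x : V, x + x = -x)
    (hK : ∀ c : AU V, c.1 ∈ D.K → c = 1 ∨ c = -1)
    (hE2 : ∀ x ∈ D.E, (x ^ 2).1 ∈ D.K) : HasBase (Fin 2) G := by
  have two : (1 : AU V) ≠ -1 := by
    intro h
    obtain ⟨v, hv⟩ := exists_ne (0 : V)
    have h1 : v = -v := congrArg (fun g : AU V => g.1 v) h
    have h2 := h3 v
    nth_rewrite 2 [h1] at h2
    rw [add_neg_cancel] at h2
    exact hv (neg_eq_zero.mp h2.symm)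
  obtain ⟨k, P, v, h, hmax⟩ := D.exists_QF h3 two
  rcases h.resid h3 hE2 hK hmax with hA | ⟨a, ha, f, hf, hac, hfc, haa, hff, haf, hB⟩
  · exact h.baseA h3 hE2 hN hK hmax hA
  · by_cases h0 : v + a.1 v = 0
    · have hav : (-a).1 v = v := by
        rw [au_neg_apply]
        exact (eq_neg_of_add_eq_zero_left h0).symm
      refine h.baseB h3 hE2 hN hK hmax (a := -a) (f := f)
        (by rw [← neg_one_mul]; exact D.E.mul_mem D.neg_one_mem ha) hf
        (fun i b => by rw [neg_mul, mul_neg, hac i b]) hfc (by rw [neg_mul_neg, haa]) hff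
        (by rw [neg_mul, mul_neg, haf]) (fun x hx hxc h1 h2 => hB x hx hxc ?_ h2) hav two
      rw [mul_neg, neg_mul] at h1
      exact neg_injective h1
    · have h' : D.QF P (v + a.1 v) := by
        refine ⟨h.qp, h.comm, h0, fun i => ?_⟩
        have e1 : ∀ b, (P i b).1 (v + a.1 v) = (P i b).1 v + a.1 ((P i b).1 v) := fun b => by
          rw [map_add, ← au_mul_apply _ a, ← hac i b, au_mul_apply]
        rw [e1, e1]
        calc (P i false).1 v + a.1 ((P i false).1 v) + ((P i true).1 v + a.1 ((P i true).1 v)) =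
            ((P i false).1 v + (P i true).1 v) + a.1 ((P i false).1 v + (P i true).1 v) := by
              rw [map_add]; abel
          _ = _ := by rw [h.tv i]
      exact h'.baseB h3 hE2 hN hK hmax ha hf hac hfc haa hff haf hB (by
        rw [map_add, ← au_mul_apply, haa, add_comm]; rfl) two

end Dat

end Cfsg.Agent.H578
end

-- part: H578/Prim2
section
/-!
# Bases of size two for primitive coprime solvable linear groups (helper578)
-/

set_option autoImplicit false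
set_option linter.unusedSectionVars false

universe u

namespace Cfsg.Agent.H578

variable {V : Type u} [AddCommGroup V]

namespace Dat

variable {G : Subgroup (AU V)} [Nontrivial V] [Finite V]

/-- **Primitive coprime solvable linear groups have bases of size two.** -/
theorem prim2 (D : Dat G) (hcop : (Nat.card G).Coprime (Nat.card V)) : HasBase (Fin 2) G := by
  have hprime : ∀ p : ℕ, p.Prime → ∀ v : V, v ≠ 0 → p • v = 0 → (Nat.card G).Coprime p := by
    intro p hp v hv hpv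
    have : Fact p.Prime := ⟨hp⟩
    have h1 := addOrderOf_eq_prime hpv hv
    refine Nat.Coprime.coprime_dvd_right ?_ hcop
    rw [← h1]
    exact addOrderOf_dvd_natCard v
  obtain ⟨v, hv⟩ := exists_ne (0 : V)
  by_cases htwo : (1 : AU V) = -1
  · apply D.prim2odd
    have h1 : v = -v := congrArg (fun g : AU V => g.1 v) htwo
    have h2 : (2 : ℕ) • v = 0 := by
      rw [two_nsmul]; nth_rewrite 1 [h1]; exact neg_add_cancel v
    have h3 := hprime 2 Nat.prime_two v hv h2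
    exact Nat.coprime_two_right.mp h3
  by_cases hx : ∃ x ∈ D.E, (x ^ 2).1 ∉ D.K
  · exact prim2_odd hx htwo
  push Not at hx
  obtain ⟨θ, hθ, hgen⟩ := D.isF.gen
  by_cases h8 : θ ^ 8 = 1
  swap
  · exact prim2_big hx hcop hθ hgen h8
  have hchar := D.isF.char_of_order hθ hgen
  have hfact2 : Fact (Nat.Prime 2) := ⟨Nat.prime_two⟩
  by_cases h4 : θ ^ 4 = 1
  · by_cases h2 : θ ^ 2 = 1
    · -- `q = 3`
      have h1 : θ ≠ 1 := by
        intro h1
        obtain ⟨n, hn⟩ := hgen (-1) (D.K.neg_mem D.K.one_mem)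
        rw [h1, one_pow] at hn
        exact htwo hn.symm
      have hord : orderOf θ = 2 := orderOf_eq_prime h2 h1
      rw [hord] at hchar
      have h3 : ∀ x : V, x + x = -x := by
        intro x
        have e1 : ((2 + 1 : ℕ) : AddMonoid.End V) x = 0 := by rw [hchar]; rfl
        rw [AddMonoid.End.natCast_apply, succ_nsmul, two_nsmul] at e1
        exact eq_neg_of_add_eq_zero_left e1
      have hK : ∀ c : AU V, c.1 ∈ D.K → c = 1 ∨ c = -1 := by
        intro c hc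
        obtain ⟨n, rfl⟩ := hgen c hc
        have h5 : (θ ^ n) * (θ ^ n) = 1 := by
          rw [← pow_add, ← two_mul, pow_mul, h2, one_pow]
        rcases D.isF.sq_eq_one hc (congrArg Units.val h5) with h | h
        · left; exact Units.ext h
        · right; exact Units.ext h
      refine D.prim2_three (hprime 3 Nat.prime_three v hv ?_) h3 hK hx
      rw [succ_nsmul, two_nsmul, h3, neg_add_cancel]
    · -- `q = 5`
      have hord : orderOf θ = 2 ^ (1 + 1) := orderOf_eq_prime_pow (by simpa using h2)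
        (by simpa using h4)
      have hord' : orderOf θ = 4 := by rw [hord]; norm_num
      rw [hord'] at hchar
      have five : ∀ x : V, (5 : ℕ) • x = 0 := by
        intro x
        have e1 : ((4 + 1 : ℕ) : AddMonoid.End V) x = 0 := by rw [hchar]; rfl
        rw [AddMonoid.End.natCast_apply] at e1
        exact e1
      have hθ2 : θ ^ 2 = -1 := by
        have h5 : (θ ^ 2) * (θ ^ 2) = 1 := by rw [← pow_add, h4]
        have hK2 := D.isF.units.pow_mem (x := θ) hθ 2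
        rcases D.isF.sq_eq_one hK2 (congrArg Units.val h5) with h | h
        · exact absurd (Units.ext h) h2
        · exact Units.ext h
      have h5 : (θ.1 - 2) * (θ.1 + 2) = 0 := by
        have e1 : θ.1 * θ.1 = -1 := by
          rw [← pow_two, ← Units.val_pow_eq_pow_val, hθ2]; rfl
        have e2 : (θ.1 - 2) * (θ.1 + 2) = θ.1 * θ.1 - 4 := by
          have e3 : (2 : AddMonoid.End V) * 2 = 4 := by norm_num
          rw [sub_mul, mul_add, mul_add, mul_two θ.1, two_mul θ.1, e3]; abel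
        rw [e2, e1]
        have e3 : ((4 + 1 : ℕ) : AddMonoid.End V) = 5 := by norm_num
        rw [e3] at hchar
        have : (-1 : AddMonoid.End V) - 4 = -5 := by norm_num
        rw [this, hchar, neg_zero]
      have hint0 : ∀ n : ℕ, ∃ m : Fin 5, ∀ x : V, (n : AddMonoid.End V) x = (m : ℕ) • x := by
        intro n
        refine ⟨⟨n % 5, Nat.mod_lt _ (by norm_num)⟩, fun x => ?_⟩
        rw [AddMonoid.End.natCast_apply]
        conv_lhs => rw [← Nat.div_add_mod n 5]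
        rw [add_nsmul, mul_nsmul, five, nsmul_zero, zero_add]
      have hθn : ∃ n : ℕ, θ.1 = (n : AddMonoid.End V) := by
        have h2K : (2 : AddMonoid.End V) ∈ D.K := by
          have : (2 : AddMonoid.End V) = 1 + 1 := by norm_num
          rw [this]; exact D.K.add_mem D.K.one_mem D.K.one_mem
        rcases D.isF.mul_eq_zero (D.K.sub_mem hθ h2K) h5 with h | h
        · exact ⟨2, by rw [sub_eq_zero.mp h]; norm_num⟩
        · refine ⟨3, ?_⟩
          have e1 : θ.1 = -2 := eq_neg_of_add_eq_zero_left h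
          have e3 : ((4 + 1 : ℕ) : AddMonoid.End V) = 5 := by norm_num
          rw [e3] at hchar
          rw [e1]
          have : (-2 : AddMonoid.End V) = 3 - 5 := by norm_num
          rw [this, hchar, sub_zero]; norm_num
      obtain ⟨n, hn⟩ := hθn
      refine prim2_five hx five fun a ha => ?_
      by_cases ha0 : a = 0
      · exact ⟨0, fun x => by rw [ha0]; exact (zero_nsmul x).symm⟩
      · obtain ⟨k, hk⟩ := D.isF.exists_unit ha ha0
        have hk' : k.1 = a := hk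
        obtain ⟨j, rfl⟩ := hgen k (by rw [hk']; exact ha)
        obtain ⟨m, hm⟩ := hint0 (n ^ j)
        refine ⟨m, fun x => ?_⟩
        rw [← hm, ← hk', Units.val_pow_eq_pow_val, hn, Nat.cast_pow]
  · -- `q = 9`
    have hord : orderOf θ = 2 ^ (2 + 1) := orderOf_eq_prime_pow (by simpa using h4)
      (by simpa using h8)
    have hord' : orderOf θ = 8 := by rw [hord]; norm_num
    rw [hord'] at hchar
    have h3K : (3 : AddMonoid.End V) ∈ D.K := by
      have : (3 : AddMonoid.End V) = 1 + 1 + 1 := by norm_num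
      rw [this]
      exact D.K.add_mem (D.K.add_mem D.K.one_mem D.K.one_mem) D.K.one_mem
    have three : (3 : AddMonoid.End V) = 0 := by
      have e1 : (3 : AddMonoid.End V) * 3 = 0 := by
        have e3 : ((8 + 1 : ℕ) : AddMonoid.End V) = 9 := by norm_num
        rw [e3] at hchar
        have : (3 : AddMonoid.End V) * 3 = 9 := by norm_num
        rw [this, hchar]
      rcases D.isF.mul_eq_zero h3K e1 with h | h <;> exact h
    have hθ4 : θ ^ 4 = -1 := by
      have h5 : (θ ^ 4) * (θ ^ 4) = 1 := by rw [← pow_add, h8]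
      have hK4 := D.isF.units.pow_mem (x := θ) hθ 4
      rcases D.isF.sq_eq_one hK4 (congrArg Units.val h5) with h | h
      · exact absurd (Units.ext h) h4
      · exact Units.ext h
    have hN : (Nat.card G).Coprime 3 := by
      refine hprime 3 Nat.prime_three v hv ?_
      have e1 : (3 : AddMonoid.End V) v = 0 := by rw [three]; rfl
      have e2 : ((3 : ℕ) : AddMonoid.End V) = 3 := by norm_num
      rw [← e2, AddMonoid.End.natCast_apply] at e1
      exact e1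
    have e4 : (θ.1 * θ.1) * (θ.1 * θ.1) = -1 := by
      have : θ ^ 4 = (θ * θ) * (θ * θ) := by
        rw [show 4 = 2 + 2 from rfl, pow_add, pow_two]
      rw [this] at hθ4
      exact congrArg Units.val hθ4
    have h5 : (θ.1 * θ.1 - 1 - θ.1) * (θ.1 * θ.1 - 1 + θ.1) = 0 := by
      have e2 : (θ.1 * θ.1 - 1 - θ.1) * (θ.1 * θ.1 - 1 + θ.1) =
          (θ.1 * θ.1) * (θ.1 * θ.1) - 3 * (θ.1 * θ.1) + 1 := by noncomm_ring
      rw [e2, e4, three, zero_mul, sub_zero, neg_add_cancel]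
    have hθθK : θ.1 * θ.1 - 1 ∈ D.K := D.K.sub_mem (D.K.mul_mem hθ hθ) D.K.one_mem
    rcases D.isF.mul_eq_zero (D.K.sub_mem hθθK hθ) h5 with h | h
    · -- replace `θ` by `-θ`
      have hnK : (-θ).1 ∈ D.K := D.K.neg_mem hθ
      have h6 : (-θ) ^ 5 = θ := by
        have : (5 : ℕ) = 2 * 2 + 1 := by norm_num
        rw [this, pow_succ, pow_mul, neg_sq, ← pow_mul, hθ4, neg_one_mul, neg_neg]
      refine prim2_nine hx hN hnK (fun k hk => ?_) three ?_
      · obtain ⟨n, rfl⟩ := hgen k hk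
        exact ⟨5 * n, by rw [pow_mul, h6]⟩
      · have e5 : θ.1 * θ.1 = 1 + θ.1 := by
          have := sub_eq_zero.mp h
          rw [sub_eq_iff_eq_add] at this
          rw [this, add_comm]
        change (-θ.1) * (-θ.1) = 1 - (-θ.1)
        rw [neg_mul_neg, e5, sub_neg_eq_add]
    · refine prim2_nine hx hN hθ hgen three ?_
      have e6 : θ.1 * θ.1 - 1 = -θ.1 := eq_neg_of_add_eq_zero_left h
      rw [sub_eq_iff_eq_add] at e6
      rw [e6, sub_eq_add_neg, add_comm]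

end Dat

end Cfsg.Agent.H578
end
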