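import Mathlib
import Cfsg.Agent.S0022
import Cfsg.Agent.S0023
import Cfsg.Agent.S0024
import Cfsg.Agent.S0025
import Cfsg.Agent.H578.Base3
import Cfsg.Agent.H578.Prim2
import Cfsg.Agent.H578.Base2Odd
set_option linter.all false

-- part: H578/Marks
section
/-!
# Marks of finite group actions (helper578)
-/

set_option autoImplicit false

universe u v w

namespace Cfsg.Agent.H578.Marks

open MulAction

/-- the number of fixed points -/
noncomputable def Fc (A : Type w) [Group A] (Ω : Type v) [MulAction A Ω] (B : Subgroup A) : ℕ :=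
  Nat.card {ω : Ω // ∀ b ∈ B, b • ω = ω}

theorem le_stab {A : Type w} [Group A] {Ω : Type v} [MulAction A Ω] {B : Subgroup A} {ω : Ω} :
    (∀ b ∈ B, b • ω = ω) ↔ B ≤ stabilizer A ω := Iff.rfl

/-- the number of points with given stabiliser -/
noncomputable def Sc (A : Type w) [Group A] (Ω : Type v) [MulAction A Ω] (B : Subgroup A) : ℕ :=
  Nat.card {ω : Ω // stabilizer A ω = B}

open Classical in
theorem fc_eq_sum {A : Type w} [Group A] [Finite A] [Fintype (Subgroup A)] {Ω : Type v}
    [Finite Ω] [MulAction A Ω] (B : Subgroup A) :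
    Fc A Ω B = ∑ C ∈ Finset.univ.filter (fun C => B ≤ C), Sc A Ω C := by
  have := Fintype.ofFinite Ω
  unfold Fc Sc
  have h1 : Nat.card {ω : Ω // ∀ b ∈ B, b • ω = ω} =
      (Finset.univ.filter (fun ω : Ω => B ≤ stabilizer A ω)).card := by
    rw [Nat.card_eq_fintype_card, Fintype.card_subtype]
    rfl
  rw [h1, Finset.card_eq_sum_card_fiberwise (f := fun ω : Ω => stabilizer A ω)
    (t := Finset.univ.filter (fun C => B ≤ C))]
  · refine Finset.sum_congr rfl fun C hC => ?_
    rw [Nat.card_eq_fintype_card, Fintype.card_subtype]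
    congr 1
    ext ω
    simp only [Finset.mem_filter, Finset.mem_univ, true_and]
    constructor
    · exact fun h => h.2
    · intro h
      refine ⟨?_, h⟩
      rw [h]
      exact (Finset.mem_filter.mp hC).2
  · intro ω hω
    simp only [Finset.coe_filter, Finset.mem_univ, true_and, Set.mem_ofPred_eq] at hω ⊢
    exact hω

/-- **two actions with the same fixed point numbers have the same stabilisers** -/
theorem marks {A : Type w} [Group A] [Finite A] {Ω : Type v} {Ω' : Type u} [Finite Ω] [Finite Ω']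
    [MulAction A Ω] [MulAction A Ω'] (h : ∀ B : Subgroup A, Fc A Ω B = Fc A Ω' B)
    (S : Subgroup A) : Sc A Ω S = Sc A Ω' S := by
  classical
  have := Fintype.ofFinite (Subgroup A)
  induction S using WellFoundedGT.induction with
  | _ S ih =>
  have h1 := h S
  rw [fc_eq_sum, fc_eq_sum] at h1
  have hS : S ∈ Finset.univ.filter (fun C => S ≤ C) := by simp
  rw [← Finset.add_sum_erase _ _ hS, ← Finset.add_sum_erase _ _ hS] at h1
  have h2 : ∑ C ∈ (Finset.univ.filter (fun C => S ≤ C)).erase S, Sc A Ω C =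
      ∑ C ∈ (Finset.univ.filter (fun C => S ≤ C)).erase S, Sc A Ω' C := by
    refine Finset.sum_congr rfl fun C hC => ih C ?_
    simp only [Finset.mem_erase, Finset.mem_filter, Finset.mem_univ, true_and] at hC
    exact lt_of_le_of_ne hC.2 (Ne.symm hC.1)
  rw [h2] at h1
  exact Nat.add_right_cancel h1

/-- functions realised by an action with a point of minimal stabiliser -/
def Mk (A : Type w) [Group A] (f : Subgroup A → ℕ) : Prop :=
  ∃ (Ω : Type v) (_ : Finite Ω) (_ : MulAction A Ω),
    (∃ ω : Ω, ∀ a : A, a • ω = ω → ∀ ω' : Ω, a • ω' = ω') ∧ ∀ B, Fc A Ω B = f B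

theorem Mk.one (A : Type w) [Group A] : Mk.{v, w} A (fun _ => 1) := by
  refine ⟨PUnit, inferInstance,
    { smul := fun _ x => x
      one_smul := fun _ => rfl
      mul_smul := fun _ _ _ => rfl }, ⟨PUnit.unit, fun _ _ _ => rfl⟩, fun B => ?_⟩
  unfold Fc
  rw [Nat.card_eq_one_iff_unique]
  exact ⟨⟨fun a b => Subtype.ext rfl⟩, ⟨⟨PUnit.unit, fun _ _ => rfl⟩⟩⟩

theorem Mk.mul {A : Type w} [Group A] {f g : Subgroup A → ℕ} (hf : Mk.{v, w} A f)
    (hg : Mk.{v, w} A g) : Mk.{v, w} A (fun B => f B * g B) := by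
  obtain ⟨Ω, hΩ, aΩ, ⟨ω, hω⟩, h1⟩ := hf
  obtain ⟨Ω', hΩ', aΩ', ⟨ω', hω'⟩, h2⟩ := hg
  refine ⟨Ω × Ω', inferInstance, inferInstance, ⟨(ω, ω'), fun a ha x => ?_⟩, fun B => ?_⟩
  · exact Prod.ext (hω a (congrArg Prod.fst ha) x.1) (hω' a (congrArg Prod.snd ha) x.2)
  · change Fc A (Ω × Ω') B = f B * g B
    rw [← h1, ← h2]
    unfold Fc
    rw [← Nat.card_prod]
    exact Nat.card_congr
      { toFun := fun x => (⟨x.1.1, fun b hb => congrArg Prod.fst (x.2 b hb)⟩,
          ⟨x.1.2, fun b hb => congrArg Prod.snd (x.2 b hb)⟩)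
        invFun := fun x => ⟨(x.1.1, x.2.1), fun b hb => Prod.ext (x.1.2 b hb) (x.2.2 b hb)⟩
        left_inv := fun _ => rfl
        right_inv := fun _ => rfl }

theorem Mk.prod {A : Type w} [Group A] {ι : Type*} (s : Finset ι) {f : ι → Subgroup A → ℕ}
    (hf : ∀ i ∈ s, Mk.{v, w} A (f i)) : Mk.{v, w} A (fun B => ∏ i ∈ s, f i B) := by
  classical
  induction s using Finset.induction_on with
  | empty => simpa using Mk.one A
  | insert a s ha ih =>
    have h1 := (hf a (Finset.mem_insert_self a s)).mul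
      (ih fun i hi => hf i (Finset.mem_insert_of_mem hi))
    simp only [Finset.prod_insert ha]
    exact h1

/-- transfer of the point of minimal stabiliser -/
theorem Mk.transfer {A : Type w} [Group A] [Finite A] {Ω : Type u} [Finite Ω] [MulAction A Ω]
    (h : Mk.{v, w} A (Fc A Ω)) : ∃ ω : Ω, ∀ a : A, a • ω = ω → ∀ ω' : Ω, a • ω' = ω' := by
  obtain ⟨Ω', hΩ', aΩ', ⟨ω', hω'⟩, h1⟩ := h
  have h2 := marks (A := A) (Ω := Ω) (Ω' := Ω') (fun B => (h1 B).symm) (stabilizer A ω')
  have h3 : 0 < Sc A Ω' (stabilizer A ω') := by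
    unfold Sc
    have : Nonempty {ω : Ω' // stabilizer A ω = stabilizer A ω'} := ⟨⟨ω', rfl⟩⟩
    exact Nat.card_pos
  rw [← h2] at h3
  have h4 : Nonempty {ω : Ω // stabilizer A ω = stabilizer A ω'} := (Nat.card_pos_iff.mp h3).1
  obtain ⟨ω, hω⟩ := h4
  refine ⟨ω, fun a ha => ?_⟩
  have h5 : a ∈ stabilizer A ω' := by rw [← hω]; exact ha
  have h6 := hω' a h5
  -- `a` fixes everything in `Ω`
  have h7 := h1 (Subgroup.zpowers a)
  have h8 := h1 ⊥
  have h9 : Fc A Ω' (Subgroup.zpowers a) = Nat.card Ω' := by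
    unfold Fc
    refine Nat.card_congr (Equiv.subtypeUnivEquiv fun x b hb => ?_)
    have : Subgroup.zpowers a ≤ stabilizer A x := by
      rw [Subgroup.zpowers_le]; exact h6 x
    exact this hb
  have h10 : ∀ (X : Type _) [MulAction A X], Fc A X ⊥ = Nat.card X := by
    intro X _
    unfold Fc
    refine Nat.card_congr (Equiv.subtypeUnivEquiv fun x b hb => ?_)
    rw [Subgroup.mem_bot] at hb
    rw [hb, one_smul]
  have h11 : ∀ (X : Type _) [MulAction A X], Fc A X ⊥ = Nat.card X := by
    intro X _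
    unfold Fc
    refine Nat.card_congr (Equiv.subtypeUnivEquiv fun x b hb => ?_)
    rw [Subgroup.mem_bot] at hb
    rw [hb, one_smul]
  rw [h9, ← h10 Ω', h8, h11 Ω] at h7
  -- counting
  unfold Fc at h7
  intro x
  have h12 : Function.Surjective (Subtype.val : {ω : Ω // ∀ b ∈ Subgroup.zpowers a, b • ω = ω} → Ω) :=
    (Nat.bijective_iff_injective_and_card _).mpr ⟨Subtype.val_injective, h7.symm⟩ |>.2
  obtain ⟨y, hy⟩ := h12 x
  rw [← hy]
  exact y.2 a (Subgroup.mem_zpowers a)

end Cfsg.Agent.H578.Marks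
end

-- part: H578/CopAct
section
/-!
# Coprime actions: invariant Sylow subgroups and fixed points (helper578)
-/

set_option autoImplicit false

universe u v w

namespace Cfsg.Agent.H578.CopAct

open Cfsg.Agent.H578.Marks
open SemidirectProduct

variable {A : Type w} {K : Type v} [Group A] [Group K] [MulDistribMulAction A K]

/-- the semidirect product -/
abbrev SD (A : Type w) (K : Type v) [Group A] [Group K] [MulDistribMulAction A K] :=
  K ⋊[MulDistribMulAction.toMulAut A K] A

/-- the kernel as a subgroup -/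
abbrev KK (A : Type w) (K : Type v) [Group A] [Group K] [MulDistribMulAction A K] :
    Subgroup (SD A K) := (inl : K →* SD A K).range

/-- the complement as a subgroup -/
abbrev AA (K : Type v) [Group K] [MulDistribMulAction A K] (B : Subgroup A) :
    Subgroup (SD A K) := B.map (inr : A →* SD A K)

theorem conj_inl (a : A) (k : K) :
    (inr a * inl k * (inr a)⁻¹ : SD A K) = inl (a • k) := by
  rw [← map_inv, ← SemidirectProduct.inl_aut]; rfl

theorem norm_inl {N : Subgroup K} {B : Subgroup A} (h : ∀ b ∈ B, ∀ n ∈ N, b • n ∈ N) :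
    AA K B ≤ Subgroup.normalizer ((N.map (inl : K →* SD A K) : Subgroup (SD A K)) :
      Set (SD A K)) := by
  rintro _ ⟨b, hb, rfl⟩
  rw [Subgroup.mem_set_normalizer_iff]
  intro x
  constructor
  · rintro ⟨n, hn, rfl⟩
    exact ⟨b • n, h b hb n hn, (conj_inl b n).symm⟩
  · rintro ⟨n, hn, hx⟩
    refine ⟨b⁻¹ • n, h _ (B.inv_mem hb) n hn, ?_⟩
    rw [← conj_inl, map_inv, hx]
    simp only [inv_inv]
    group

theorem norm_KK (B : Subgroup A) :
    AA K B ≤ Subgroup.normalizer ((KK A K : Subgroup (SD A K)) : Set (SD A K)) := by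
  have h := norm_inl (A := A) (K := K) (N := ⊤) (B := B) (fun _ _ _ _ => trivial)
  rw [← MonoidHom.range_eq_map] at h
  exact h

instance finite_SD [Finite A] [Finite K] : Finite (SD A K) :=
  Finite.of_equiv (K × A) SemidirectProduct.equivProd.symm

theorem card_KK : Nat.card (KK A K) = Nat.card K :=
  Nat.card_congr (MonoidHom.ofInjective (inl_injective (φ := MulDistribMulAction.toMulAut A K))).symm.toEquiv

theorem card_AA (B : Subgroup A) : Nat.card (AA K B) = Nat.card B :=
  Nat.card_congr (Subgroup.equivMapOfInjective B _ inr_injective).symm.toEquiv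

theorem cop_AA [Finite A] [Finite K] (hcop : (Nat.card A).Coprime (Nat.card K)) (B : Subgroup A) :
    (Nat.card (AA K B)).Coprime (Nat.card (KK A K)) := by
  rw [card_AA, card_KK]
  exact Nat.Coprime.coprime_dvd_left (Subgroup.card_subgroup_dvd_card B) hcop

theorem sol_AA (hA : Group.IsSolvable A) (B : Subgroup A) : Group.IsSolvable (AA K B) := by
  have h1 : Group.IsSolvable B := inferInstance
  exact Group.isSolvable_of_surjective (f := (Subgroup.equivMapOfInjective B
    (inr : A →* SD A K) inr_injective).toMonoidHom)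
    (Subgroup.equivMapOfInjective B _ inr_injective).surjective

/-- fixed points in fixed cosets -/
theorem fix_coset [Finite A] [Finite K] (hA : Group.IsSolvable A)
    (hcop : (Nat.card A).Coprime (Nat.card K)) (B : Subgroup A) (N : Subgroup K) [hn : N.Normal]
    (hN : ∀ b ∈ B, ∀ n ∈ N, b • n ∈ N) (k : K) (hk : ∀ b ∈ B, k⁻¹ * b • k ∈ N) :
    ∃ c : K, (∀ b ∈ B, b • c = c) ∧ k⁻¹ * c ∈ N := by
  obtain ⟨c, ⟨⟨c, rfl⟩, hc⟩, hkc⟩ := Cfsg.Agent.S0022.result (AA K B) (KK A K) (norm_KK B)
    (cop_AA hcop B) (Or.inl (sol_AA hA B)) (N.map inl) (by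
      rintro _ ⟨n, _, rfl⟩
      exact ⟨n, rfl⟩) (by
      rintro _ ⟨m, rfl⟩
      rw [Subgroup.mem_set_normalizer_iff]
      intro x
      constructor
      · rintro ⟨n, hn', rfl⟩
        exact ⟨m * n * m⁻¹, hn.conj_mem n hn' m, by simp⟩
      · rintro ⟨n, hn', hx⟩
        refine ⟨m⁻¹ * n * m, ?_, ?_⟩
        · have := hn.conj_mem n hn' m⁻¹
          rwa [inv_inv] at this
        · rw [map_mul, map_mul, hx, map_inv]
          group) (norm_inl hN) (inl k) ⟨k, rfl⟩ (by
      rintro _ ⟨b, hb, rfl⟩
      refine ⟨b • k * k⁻¹, ?_, ?_⟩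
      · have := hn.conj_mem _ (hk b hb) k
        rwa [mul_inv_cancel_left] at this
      · rw [map_mul, ← conj_inl, map_inv])
  refine ⟨c, fun b hb => ?_, ?_⟩
  · have h1 := Subgroup.mem_centralizer_iff.mp hc (inr b) ⟨b, hb, rfl⟩
    apply inl_injective (φ := MulDistribMulAction.toMulAut A K)
    rw [← conj_inl, h1, mul_inv_cancel_right]
  · obtain ⟨n, hn', hx⟩ := hkc
    rw [← map_inv, ← map_mul] at hx
    rw [← inl_injective hx]
    exact hn'

/-- the fixed subgroup -/
def fxs (K : Type v) [Group K] [MulDistribMulAction A K] (B : Subgroup A) : Subgroup K where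
  carrier := {k | ∀ b ∈ B, b • k = k}
  one_mem' := fun b _ => smul_one b
  mul_mem' := fun {x y} hx hy b hb => by rw [smul_mul', hx b hb, hy b hb]
  inv_mem' := fun {x} hx b hb => by rw [smul_inv', hx b hb]

theorem fc_eq_card (B : Subgroup A) : Fc A K B = Nat.card (fxs K B) := rfl

/-- **invariant Sylow subgroups and their fixed points** -/
theorem inv_sylow [Finite A] [Finite K] (hA : Group.IsSolvable A)
    (hcop : (Nat.card A).Coprime (Nat.card K)) (p : ℕ) (hp : p.Prime) :
    ∃ P : Subgroup K, (∀ a : A, ∀ x ∈ P, a • x ∈ P) ∧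
      Nat.card P = p ^ (Nat.card K).factorization p ∧
      ∀ B : Subgroup A, Nat.card {x : P // ∀ b ∈ B, b • (x : K) = x} =
        p ^ (Fc A K B).factorization p := by
  classical
  have hfact : Fact p.Prime := ⟨hp⟩
  obtain ⟨P, hP⟩ := Cfsg.Agent.S0023.result (AA K (⊤ : Subgroup A)) (KK A K) (norm_KK ⊤)
    (cop_AA hcop ⊤) (Or.inl (sol_AA hA ⊤)) p
  let P' : Subgroup (SD A K) := (P : Subgroup (KK A K)).map (KK A K).subtype
  let P0 : Subgroup K := P'.comap inl
  have hP0 : ∀ a : A, ∀ x ∈ P0, a • x ∈ P0 := by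
    intro a x hx
    change inl (a • x) ∈ P'
    rw [← conj_inl]
    exact (Subgroup.mem_set_normalizer_iff.mp (hP ⟨a, trivial, rfl⟩) (inl x)).mp hx
  have hcardP : Nat.card P0 = p ^ (Nat.card K).factorization p := by
    have h1 : P0.map (inl : K →* SD A K) = P' := by
      rw [Subgroup.map_comap_eq]
      apply inf_eq_right.mpr
      rintro _ ⟨x, _, rfl⟩
      exact x.2
    have h2 : Nat.card P0 = Nat.card (P0.map (inl : K →* SD A K)) :=
      Nat.card_congr (Subgroup.equivMapOfInjective P0 _ inl_injective).toEquiv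
    have h3 : Nat.card P' = Nat.card P :=
      Nat.card_congr (Subgroup.equivMapOfInjective (P : Subgroup (KK A K)) _
        (KK A K).subtype_injective).symm.toEquiv
    rw [h2, h1, h3, P.card_eq_multiplicity, card_KK]
  refine ⟨P0, hP0, hcardP, fun B => ?_⟩
  -- a Sylow subgroup of the fixed subgroup
  obtain ⟨Q⟩ : Nonempty (Sylow p (fxs K B)) := inferInstance
  let U : Subgroup K := (Q : Subgroup (fxs K B)).map (fxs K B).subtype
  have hUfix : ∀ u ∈ U, ∀ b ∈ B, b • u = u := by
    rintro _ ⟨u, _, rfl⟩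
    exact u.2
  have hcardU : Nat.card U = p ^ (Nat.card (fxs K B)).factorization p := by
    have h3 : Nat.card U = Nat.card Q :=
      Nat.card_congr (Subgroup.equivMapOfInjective (Q : Subgroup (fxs K B)) _
        (fxs K B).subtype_injective).symm.toEquiv
    rw [h3, Q.card_eq_multiplicity]
  have hUp : IsPGroup p U := IsPGroup.of_card hcardU
  obtain ⟨P1, hUP1, hP1⟩ := Cfsg.Agent.S0025.result (AA K B) (KK A K) (norm_KK B)
    (cop_AA hcop B) (Or.inl (sol_AA hA B)) p (U.map inl) (by
      rintro _ ⟨n, _, rfl⟩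
      exact ⟨n, rfl⟩) (hUp.map _) (norm_inl fun b hb u hu => by rw [hUfix u hu b hb]; exact hu)
  have hPB : AA K B ≤ Subgroup.normalizer (P' : Set (SD A K)) :=
    le_trans (Subgroup.map_mono le_top) hP
  obtain ⟨⟨_, c, rfl⟩, hc, hcP⟩ := Cfsg.Agent.S0024.result (AA K B) (KK A K) (norm_KK B)
    (cop_AA hcop B) (Or.inl (sol_AA hA B)) p P1 P hP1 hPB
  have hcfix : ∀ b ∈ B, b • c = c := by
    intro b hb
    have h1 := Subgroup.mem_centralizer_iff.mp hc (inr b) ⟨b, hb, rfl⟩
    apply inl_injective (φ := MulDistribMulAction.toMulAut A K)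
    rw [← conj_inl, h1, mul_inv_cancel_right]
  have hcU : ∀ u ∈ U, c * u * c⁻¹ ∈ P0 := by
    intro u hu
    obtain ⟨x, hx, hxu⟩ := hUP1 ⟨u, hu, rfl⟩
    have h1 : (⟨inl c, ⟨c, rfl⟩⟩ : KK A K) * x * (⟨inl c, ⟨c, rfl⟩⟩ : KK A K)⁻¹ ∈
        (P : Subgroup (KK A K)) := by
      rw [← hcP]
      exact ⟨x, hx, rfl⟩
    refine ⟨_, h1, ?_⟩
    change (inl c : SD A K) * (x : SD A K) * (inl c)⁻¹ = inl (c * u * c⁻¹)
    have h2 : (x : SD A K) = inl u := hxu
    rw [h2, map_mul, map_mul, map_inv]
  have hle : Nat.card U ≤ Nat.card {x : P0 // ∀ b ∈ B, b • (x : K) = x} := by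
    apply Nat.card_le_card_of_injective
      (fun u : U => (⟨⟨c * u * c⁻¹, hcU u u.2⟩, fun b hb => by
        rw [smul_mul', smul_mul', smul_inv', hcfix b hb, hUfix u u.2 b hb]⟩ :
        {x : P0 // ∀ b ∈ B, b • (x : K) = x}))
    intro x y hxy
    have h1 : c * (x : K) * c⁻¹ = c * (y : K) * c⁻¹ :=
      congrArg (fun z : {x : P0 // ∀ b ∈ B, b • (x : K) = x} => (z.1 : K)) hxy
    exact Subtype.ext (by simpa using h1)
  have hinf : Nat.card {x : P0 // ∀ b ∈ B, b • (x : K) = x} =
      Nat.card (P0 ⊓ fxs K B : Subgroup K) :=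
    Nat.card_congr
      { toFun := fun x => ⟨x.1.1, x.1.2, x.2⟩
        invFun := fun x => ⟨⟨x.1, x.2.1⟩, x.2.2⟩
        left_inv := fun _ => rfl
        right_inv := fun _ => rfl }
  have hdvd1 : Nat.card (P0 ⊓ fxs K B : Subgroup K) ∣ p ^ (Nat.card K).factorization p := by
    rw [← hcardP]
    exact Subgroup.card_dvd_of_le inf_le_left
  have hdvd2 : Nat.card (P0 ⊓ fxs K B : Subgroup K) ∣ Nat.card (fxs K B) :=
    Subgroup.card_dvd_of_le inf_le_right
  obtain ⟨j, -, hj⟩ := (Nat.dvd_prime_pow hp).mp hdvd1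
  rw [hcardU, hinf, hj] at hle
  rw [hj] at hdvd2
  have h5 : j ≤ (Nat.card (fxs K B)).factorization p :=
    (hp.pow_dvd_iff_le_factorization Nat.card_pos.ne').mp hdvd2
  have h6 : (Nat.card (fxs K B)).factorization p ≤ j :=
    (Nat.pow_le_pow_iff_right hp.one_lt).mp hle
  rw [hinf, hj, fc_eq_card, le_antisymm h5 h6]

end Cfsg.Agent.H578.CopAct
end

-- part: H578/DeltaA
section
/-!
# Rigid sets for linear groups: odd characteristic at least five (helper578)
-/

set_option autoImplicit false

universe u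

namespace Cfsg.Agent.H578

variable {V : Type u} [AddCommGroup V]

/-- triples -/
abbrev T3 := ℕ × ℕ × ℕ

/-- linear combinations -/
def E3 (e₁ e₂ e₃ : V) (u : T3) : V := u.1 • e₁ + u.2.1 • e₂ + u.2.2 • e₃

def t3a (u w : T3) : T3 := (u.1 + w.1, u.2.1 + w.2.1, u.2.2 + w.2.2)

theorem E3_add (e₁ e₂ e₃ : V) (u w : T3) :
    E3 e₁ e₂ e₃ (t3a u w) = E3 e₁ e₂ e₃ u + E3 e₁ e₂ e₃ w := by
  unfold E3 t3a
  simp only [add_nsmul]
  abel

/-- small triples are determined by their linear combination -/
theorem E3_inj {e₁ e₂ e₃ : V} {r : ℕ} (hr : 5 ≤ r)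
    (hind : ∀ α β γ : ℤ, α • e₁ + β • e₂ + γ • e₃ = 0 →
      (r : ℤ) ∣ α ∧ (r : ℤ) ∣ β ∧ (r : ℤ) ∣ γ) {u w : T3}
    (hu : u.1 ≤ 4 ∧ u.2.1 ≤ 4 ∧ u.2.2 ≤ 4) (hw : w.1 ≤ 4 ∧ w.2.1 ≤ 4 ∧ w.2.2 ≤ 4)
    (h : E3 e₁ e₂ e₃ u = E3 e₁ e₂ e₃ w) : u = w := by
  obtain ⟨h1, h2, h3⟩ := hind ((u.1 : ℤ) - w.1) ((u.2.1 : ℤ) - w.2.1) ((u.2.2 : ℤ) - w.2.2) (by
    unfold E3 at h
    simp only [sub_zsmul, natCast_zsmul]
    rw [← sub_eq_zero] at h
    rw [← h]
    abel)
  have key : ∀ a b : ℕ, a ≤ 4 → b ≤ 4 → (r : ℤ) ∣ (a : ℤ) - b → a = b := by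
    intro a b ha hb hd
    have := Int.eq_zero_of_abs_lt_dvd hd (by rw [abs_lt]; constructor <;> omega)
    omega
  exact Prod.ext (key _ _ hu.1 hw.1 h1) (Prod.ext (key _ _ hu.2.1 hw.2.1 h2)
    (key _ _ hu.2.2 hw.2.2 h3))

/-- independence from minimality -/
theorem ind3_of {e₁ e₂ e₃ : V} {r : ℕ} (hr : r.Prime) (hrV : ∀ x : V, r • x = 0)
    (h1 : e₁ ≠ 0) (h2 : e₂ ∉ AddSubgroup.closure {e₁})
    (h3 : e₃ ∉ AddSubgroup.closure {e₁, e₂}) (α β γ : ℤ)
    (h : α • e₁ + β • e₂ + γ • e₃ = 0) : (r : ℤ) ∣ α ∧ (r : ℤ) ∣ β ∧ (r : ℤ) ∣ γ := by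
  have hrV' : ∀ x : V, (r : ℤ) • x = 0 := fun x => by rw [natCast_zsmul]; exact hrV x
  have key : ∀ (W : AddSubgroup V) (x : V) (n : ℤ), x ∉ W → n • x ∈ W → (r : ℤ) ∣ n := by
    intro W x n hx hn
    by_contra hrn
    have hcop : IsCoprime (r : ℤ) n := (Nat.prime_iff_prime_int.mp hr).coprime_iff_not_dvd.mpr hrn
    obtain ⟨a, b, hab⟩ := hcop
    apply hx
    have : x = b • (n • x) := by
      rw [← mul_zsmul]
      conv_lhs => rw [← one_zsmul x, ← hab, add_zsmul, mul_zsmul, hrV', zsmul_zero, zero_add]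
    rw [this]
    exact W.zsmul_mem hn b
  have r3 : (r : ℤ) ∣ γ := by
    apply key _ _ _ h3
    have : γ • e₃ = -(α • e₁ + β • e₂) := by
      rw [eq_neg_iff_add_eq_zero, add_comm]; exact h
    rw [this]
    refine AddSubgroup.neg_mem _ (AddSubgroup.add_mem _ (AddSubgroup.zsmul_mem _ ?_ _)
      (AddSubgroup.zsmul_mem _ ?_ _))
    · exact AddSubgroup.subset_closure (by simp)
    · exact AddSubgroup.subset_closure (by simp)
  have h' : α • e₁ + β • e₂ = 0 := by
    obtain ⟨q, rfl⟩ := r3
    rw [mul_zsmul, hrV', add_zero] at h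
    exact h
  have r2 : (r : ℤ) ∣ β := by
    apply key _ _ _ h2
    have : β • e₂ = -(α • e₁) := by
      rw [eq_neg_iff_add_eq_zero, add_comm]; exact h'
    rw [this]
    exact AddSubgroup.neg_mem _ (AddSubgroup.zsmul_mem _ (AddSubgroup.subset_closure (by simp)) _)
  have h'' : α • e₁ = 0 := by
    obtain ⟨q, rfl⟩ := r2
    rw [mul_zsmul, hrV', add_zero] at h'
    exact h'
  refine ⟨?_, r2, r3⟩
  apply key ⊥ e₁ _ (by rw [AddSubgroup.mem_bot]; exact h1)
  rw [AddSubgroup.mem_bot]; exact h''

/-- fixing generators -/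
theorem fix_closure {s : Set V} {g : AU V} (h : ∀ x ∈ s, g.1 x = x) {y : V}
    (hy : y ∈ AddSubgroup.closure s) : g.1 y = y := by
  induction hy using AddSubgroup.closure_induction with
  | mem x hx => exact h x hx
  | zero => exact map_zero _
  | add x y _ _ hx hy => rw [map_add, hx, hy]
  | neg x _ hx => rw [map_neg, hx]

set_option maxHeartbeats 1000000 in
/-- **rigid sets, large characteristic** -/
theorem delta5 {r : ℕ} (hr : r.Prime) (hr5 : 5 ≤ r) (hrV : ∀ x : V, r • x = 0)
    (H : Subgroup (AU V)) (hb : HasBase (Fin 3) H) :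
    ∃ Δ : Set V, 0 ∉ Δ ∧ ∀ g ∈ H, (∀ x ∈ Δ, g.1 x ∈ Δ) → g = 1 := by
  classical
  obtain ⟨v, hv⟩ := hb
  have two_ne : ∀ x : V, x ≠ 0 → x + x ≠ 0 := by
    intro x hx h0
    have h1 : addOrderOf x = r := addOrderOf_eq_prime (hp := ⟨hr⟩) (hrV x) hx
    have h2 : (2 : ℕ) • x = 0 := by rw [two_nsmul]; exact h0
    have h3 := addOrderOf_dvd_of_nsmul_eq_zero h2
    rw [h1] at h3
    exact absurd (Nat.le_of_dvd (by norm_num) h3) (by omega)
  have inj : ∀ (g : AU V) {x y : V}, g.1 x = g.1 y → x = y := fun g {x y} h => au_injective g h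
  by_cases hb0 : ∀ g ∈ H, g = 1
  · exact ⟨∅, fun h => h, fun g hg _ => hb0 g hg⟩
  by_cases hb1 : ∃ e₁ : V, ∀ g ∈ H, g.1 e₁ = e₁ → g = 1
  · obtain ⟨e₁, he₁⟩ := hb1
    have h0 : e₁ ≠ 0 := by
      rintro rfl
      exact hb0 fun g hg => he₁ g hg (map_zero _)
    exact ⟨{e₁}, fun h => h0 (Set.mem_singleton_iff.mp h).symm,
      fun g hg h => he₁ g hg (Set.mem_singleton_iff.mp (h e₁ (Set.mem_singleton e₁)))⟩
  by_cases hb2 : ∃ e₁ e₂ : V, ∀ g ∈ H, g.1 e₁ = e₁ → g.1 e₂ = e₂ → g = 1
  · obtain ⟨e₁, e₂, he⟩ := hb2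
    have h1 : e₁ ≠ 0 := by
      rintro rfl
      exact hb1 ⟨e₂, fun g hg h => he g hg (map_zero _) h⟩
    have h2 : e₂ ∉ AddSubgroup.closure {e₁} := by
      intro h
      refine hb1 ⟨e₁, fun g hg hge => he g hg hge (fix_closure (s := {e₁}) ?_ h)⟩
      rintro x rfl; exact hge
    have h20 : e₂ ≠ 0 := fun h => h2 (by rw [h]; exact AddSubgroup.zero_mem _)
    have hm : ∀ n : ℕ, n • e₁ ∈ AddSubgroup.closure {e₁} := fun n =>
      AddSubgroup.nsmul_mem _ (AddSubgroup.subset_closure (Set.mem_singleton e₁)) n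
    have n1 : e₁ ≠ e₂ := fun h => h2 (by rw [← h]; have := hm 1; rwa [one_nsmul] at this)
    have n2 : e₁ + e₁ ≠ e₂ := fun h => h2 (by rw [← h]; have := hm 2; rwa [two_nsmul] at this)
    refine ⟨{e₁, e₁ + e₁, e₂}, ?_, fun g hg h => ?_⟩
    · simp only [Set.mem_insert_iff, Set.mem_singleton_iff, not_or]
      exact ⟨h1.symm, (two_ne _ h1).symm, h20.symm⟩
    · have a1 := h e₁ (by simp)
      have a2 := h (e₁ + e₁) (by simp)
      have a3 := h e₂ (by simp)
      simp only [Set.mem_insert_iff, Set.mem_singleton_iff] at a1 a2 a3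
      rw [map_add] at a2
      have b1 : g.1 e₁ = e₁ := by
        rcases a1 with a1 | a1 | a1
        · exact a1
        · exfalso
          rw [a1] at a2
          rcases a2 with a2 | a2 | a2
          · -- `4 e₁ = e₁`
            have h3 : (3 : ℕ) • e₁ = 0 := by
              have : e₁ + e₁ + (e₁ + e₁) = (3 : ℕ) • e₁ + e₁ := by
                rw [succ_nsmul, two_nsmul]; abel
              rw [this] at a2
              exact add_eq_right.mp a2
            have h4 : addOrderOf e₁ = r := addOrderOf_eq_prime (hp := ⟨hr⟩) (hrV e₁) h1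
            have h5 := addOrderOf_dvd_of_nsmul_eq_zero h3
            rw [h4] at h5
            exact absurd (Nat.le_of_dvd (by norm_num) h5) (by omega)
          · exact two_ne _ h1 (add_eq_left.mp a2)
          · apply h2
            rw [← a2]
            have := hm 4
            rw [show 4 = 2 + 2 from rfl, add_nsmul, two_nsmul] at this
            exact this
        · exfalso
          rw [a1] at a2
          rcases a2 with a2 | a2 | a2
          · -- `2 e₂ = e₁`
            apply h2
            -- `e₂ = ((r+1)/2) e₁`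
            have hodd : r % 2 = 1 := by
              rcases hr.eq_two_or_odd with h | h
              · omega
              · exact h
            have h6 : e₂ = ((r + 1) / 2) • e₁ := by
              rw [← a2, ← two_nsmul, ← mul_nsmul]
              have : 2 * ((r + 1) / 2) = r + 1 := by omega
              rw [this, succ_nsmul, hrV, zero_add]
            rw [h6]
            exact hm _
          · -- `2 e₂ = 2 e₁`
            have h7 : (e₂ - e₁) + (e₂ - e₁) = 0 := by
              have : (e₂ - e₁) + (e₂ - e₁) = (e₂ + e₂) - (e₁ + e₁) := by abel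
              rw [this, a2, sub_self]
            by_cases h8 : e₂ - e₁ = 0
            · exact n1 (sub_eq_zero.mp h8).symm
            · exact two_ne _ h8 h7
          · exact h20 (add_eq_left.mp a2)
      have b2 : g.1 e₂ = e₂ := by
        rcases a3 with a3 | a3 | a3
        · exfalso; rw [← b1] at a3; exact n1 (inj g a3).symm
        · exfalso
          have : g.1 e₂ = g.1 (e₁ + e₁) := by rw [map_add, b1, a3]
          exact n2 (inj g this).symm
        · exact a3
      exact he g hg b1 b2
  · -- three vectors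
    obtain ⟨e₁, he₁⟩ : ∃ e, e = v 0 := ⟨_, rfl⟩
    obtain ⟨e₂, he₂⟩ : ∃ e, e = v 1 := ⟨_, rfl⟩
    obtain ⟨e₃, he₃⟩ : ∃ e, e = v 2 := ⟨_, rfl⟩
    have he : ∀ g ∈ H, g.1 e₁ = e₁ → g.1 e₂ = e₂ → g.1 e₃ = e₃ → g = 1 := by
      intro g hg a1 a2 a3
      apply hv g hg
      intro i
      fin_cases i
      · rw [he₁] at a1; exact a1
      · rw [he₂] at a2; exact a2
      · rw [he₃] at a3; exact a3
    have h1 : e₁ ≠ 0 := by
      intro h0
      exact hb2 ⟨e₂, e₃, fun g hg a b => he g hg (by rw [h0]; exact map_zero _) a b⟩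
    have h2 : e₂ ∉ AddSubgroup.closure {e₁} := by
      intro h
      refine hb2 ⟨e₁, e₃, fun g hg a b => he g hg a (fix_closure (s := {e₁}) ?_ h) b⟩
      rintro x rfl; exact a
    have h3 : e₃ ∉ AddSubgroup.closure {e₁, e₂} := by
      intro h
      refine hb2 ⟨e₁, e₂, fun g hg a b => he g hg a b (fix_closure (s := {e₁, e₂}) ?_ h)⟩
      rintro x (rfl | rfl)
      · exact a
      · exact b
    have hind := ind3_of hr hrV h1 h2 h3
    have hinj : ∀ {u w : T3}, (u.1 ≤ 4 ∧ u.2.1 ≤ 4 ∧ u.2.2 ≤ 4) →
        (w.1 ≤ 4 ∧ w.2.1 ≤ 4 ∧ w.2.2 ≤ 4) → E3 e₁ e₂ e₃ u = E3 e₁ e₂ e₃ w → u = w :=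
      fun {u w} hu hw h => E3_inj hr5 hind hu hw h
    let Dl : List T3 := [(1, 0, 0), (2, 0, 0), (0, 1, 0), (0, 0, 1), (1, 1, 0)]
    have hDl : ∀ u ∈ Dl, u.1 ≤ 4 ∧ u.2.1 ≤ 4 ∧ u.2.2 ≤ 4 := by decide
    have hE : ∀ {x : V}, x ∈ {x | ∃ u ∈ Dl, x = E3 e₁ e₂ e₃ u} ↔ ∃ u ∈ Dl, x = E3 e₁ e₂ e₃ u :=
      Iff.rfl
    have q1 : E3 e₁ e₂ e₃ (1, 0, 0) = e₁ := by unfold E3; simp
    have q2 : E3 e₁ e₂ e₃ (0, 1, 0) = e₂ := by unfold E3; simp
    have q3 : E3 e₁ e₂ e₃ (0, 0, 1) = e₃ := by unfold E3; simp
    have q4 : E3 e₁ e₂ e₃ (2, 0, 0) = e₁ + e₁ := by unfold E3; simp [two_nsmul]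
    have q5 : E3 e₁ e₂ e₃ (1, 1, 0) = e₁ + e₂ := by unfold E3; simp
    refine ⟨{x | ∃ u ∈ Dl, x = E3 e₁ e₂ e₃ u}, ?_, fun g hg h => ?_⟩
    · rintro ⟨u, hu, e⟩
      have h0 : E3 e₁ e₂ e₃ (0, 0, 0) = 0 := by unfold E3; simp
      rw [← h0] at e
      have := hinj (by decide) (hDl u hu) e
      subst this
      revert hu; decide
    · obtain ⟨u₁, hu₁, a1⟩ := h _ ⟨_, (by decide : (1, 0, 0) ∈ Dl), q1.symm⟩
      obtain ⟨u₂, hu₂, a2⟩ := h _ ⟨_, (by decide : (2, 0, 0) ∈ Dl), q4.symm⟩
      obtain ⟨u₃, hu₃, a3⟩ := h _ ⟨_, (by decide : (0, 1, 0) ∈ Dl), q2.symm⟩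
      obtain ⟨u₄, hu₄, a4⟩ := h _ ⟨_, (by decide : (0, 0, 1) ∈ Dl), q3.symm⟩
      obtain ⟨u₅, hu₅, a5⟩ := h _ ⟨_, (by decide : (1, 1, 0) ∈ Dl), q5.symm⟩
      rw [map_add, a1, ← E3_add] at a2
      have box : ∀ u ∈ Dl, (t3a u u).1 ≤ 4 ∧ (t3a u u).2.1 ≤ 4 ∧ (t3a u u).2.2 ≤ 4 := by decide
      have c1 := hinj (box u₁ hu₁) (hDl u₂ hu₂) a2
      have d1 : u₁ = (1, 0, 0) := by
        have : ∀ u ∈ Dl, t3a u u ∈ Dl → u = (1, 0, 0) := by decide
        exact this u₁ hu₁ (by rw [c1]; exact hu₂)
      have b1 : g.1 e₁ = e₁ := by rw [a1, d1, q1]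
      have box2 : ∀ u ∈ Dl, (t3a (1, 0, 0) u).1 ≤ 4 ∧ (t3a (1, 0, 0) u).2.1 ≤ 4 ∧
        (t3a (1, 0, 0) u).2.2 ≤ 4 := by decide
      have a5' : E3 e₁ e₂ e₃ (t3a (1, 0, 0) u₃) = E3 e₁ e₂ e₃ u₅ := by
        rw [E3_add, q1, ← a3, ← a5, map_add, b1]
      have c5 := hinj (box2 u₃ hu₃) (hDl u₅ hu₅) a5'
      have ne31 : u₃ ≠ (1, 0, 0) := by
        intro h
        rw [h, ← d1, ← a1] at a3
        have h5 := inj g a3
        exact absurd (hinj (u := (1, 0, 0)) (w := (0, 1, 0)) (by decide) (by decide)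
          ((q1.trans h5.symm).trans q2.symm)) (by decide)
      have d3 : u₃ = (0, 1, 0) := by
        have : ∀ u ∈ Dl, t3a (1, 0, 0) u ∈ Dl → u ≠ (1, 0, 0) → u = (0, 1, 0) := by decide
        exact this u₃ hu₃ (by rw [c5]; exact hu₅) ne31
      have b2 : g.1 e₂ = e₂ := by rw [a3, d3, q2]
      have ne4 : ∀ u ∈ Dl, u ≠ (0, 0, 1) → u₄ ≠ u := by
        intro u hu hne h4
        -- `g` fixes `E u`
        have hfix : g.1 (E3 e₁ e₂ e₃ u) = E3 e₁ e₂ e₃ u := by
          have : u = (u.1, u.2.1, 0) := by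
            have : ∀ u ∈ Dl, u ≠ (0, 0, 1) → u = (u.1, u.2.1, 0) := by decide
            exact this u hu hne
          rw [this]
          unfold E3
          rw [zero_nsmul, add_zero, map_add, map_nsmul, map_nsmul, b1, b2]
        rw [h4, ← hfix] at a4
        have h5 := inj g a4
        exact hne (hinj (by decide) (hDl u hu) (q3.trans h5)).symm
      have d4 : u₄ = (0, 0, 1) := by
        by_contra hne
        exact ne4 u₄ hu₄ hne rfl
      have b3 : g.1 e₃ = e₃ := by rw [a4, d4, q3]
      exact he g hg b1 b2 b3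

end Cfsg.Agent.H578
end

-- part: H578/DeltaB
section
/-!
# Rigid sets for linear groups: characteristic two (helper578)
-/

set_option autoImplicit false

universe u

namespace Cfsg.Agent.H578.Del2

/-- coordinate vectors over the field with two elements -/
abbrev F3 := Bool × Bool × Bool

def bx (b : Bool) (u : F3) : F3 := (b && u.1, b && u.2.1, b && u.2.2)

def fx (u w : F3) : F3 := (xor u.1 w.1, xor u.2.1 w.2.1, xor u.2.2 w.2.2)

/-- triples of vectors -/
abbrev M3 := F3 × F3 × F3

def mv (m : M3) (u : F3) : F3 := fx (bx u.1 m.1) (fx (bx u.2.1 m.2.1) (bx u.2.2 m.2.2))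

theorem comb3 (N : (F3 → F3) → Prop) (hmul : ∀ f g, N f → N g → N (f ∘ g))
    (h3 : ∀ f, N f → (∀ u, f (f (f u)) = u) → ∀ u, f u = u)
    (hB0 : N (mv ((false, true, false), (true, false, false), (false, false, true))) ∨
      N (mv ((false, false, true), (false, true, false), (true, false, false))) ∨
      N (mv ((true, false, false), (false, false, true), (false, true, false))))
    (hB1 : N (mv ((true, true, false), (false, true, false), (false, false, true))) ∨
      N (mv ((false, false, true), (true, true, true), (true, false, false))) ∨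
      N (mv ((true, false, false), (true, false, true), (true, true, false))))
    (hB2 : N (mv ((true, true, false), (false, true, false), (false, true, true))) ∨
      N (mv ((true, false, true), (false, true, true), (false, false, true))) ∨
      N (mv ((true, false, false), (false, false, true), (false, true, false))))
    (hB3 : N (mv ((true, true, false), (false, true, false), (false, true, true))) ∨
      N (mv ((true, true, true), (false, false, true), (false, true, false))) ∨
      N (mv ((true, false, false), (false, true, true), (false, false, true))))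
    (hB4 : N (mv ((false, true, false), (true, false, false), (true, true, true))) ∨
      N (mv ((true, false, true), (false, true, false), (false, false, true))) ∨
      N (mv ((true, false, false), (true, false, true), (true, true, false))))
    (hB5 : N (mv ((false, true, false), (true, false, false), (false, false, true))) ∨
      N (mv ((true, true, true), (false, true, false), (false, false, true))) ∨
      N (mv ((true, false, false), (true, true, true), (false, false, true))))
    (hB6 : N (mv ((false, true, false), (true, false, false), (true, true, true))) ∨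
      N (mv ((false, true, true), (false, true, false), (true, true, false))) ∨
      N (mv ((true, false, false), (false, true, true), (false, false, true))))
    (hB7 : N (mv ((true, true, false), (false, true, false), (false, false, true))) ∨
      N (mv ((false, true, true), (true, false, true), (false, false, true))) ∨
      N (mv ((true, false, false), (true, true, true), (false, false, true)))) : False := by
  rcases hB0 with k0 | k0 | k0
  · rcases hB1 with k1 | k1 | k1
    · exact absurd (h3 _ (hmul _ _ k0 k1)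
        (by decide +kernel)) (by decide +kernel)
    · rcases hB2 with k2 | k2 | k2
      · exact absurd (h3 _ (hmul _ _ k0 k2)
        (by decide +kernel)) (by decide +kernel)
      · exact absurd (h3 _ (hmul _ _ k1 k2)
        (by decide +kernel)) (by decide +kernel)
      · exact absurd (h3 _ (hmul _ _ k0 k2)
        (by decide +kernel)) (by decide +kernel)
    · rcases hB3 with k2 | k2 | k2
      · exact absurd (h3 _ (hmul _ _ k0 k2)
        (by decide +kernel)) (by decide +kernel)
      · exact absurd (h3 _ (hmul _ _ (hmul _ _ (hmul _ _ k0 k1) k0) k2)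
        (by decide +kernel)) (by decide +kernel)
      · exact absurd (h3 _ (hmul _ _ k1 k2)
        (by decide +kernel)) (by decide +kernel)
  · rcases hB4 with k1 | k1 | k1
    · rcases hB2 with k2 | k2 | k2
      · exact absurd (h3 _ (hmul _ _ k1 k2)
        (by decide +kernel)) (by decide +kernel)
      · exact absurd (h3 _ (hmul _ _ k0 k2)
        (by decide +kernel)) (by decide +kernel)
      · exact absurd (h3 _ (hmul _ _ k0 k2)
        (by decide +kernel)) (by decide +kernel)
    · exact absurd (h3 _ (hmul _ _ k0 k1)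
        (by decide +kernel)) (by decide +kernel)
    · rcases hB5 with k2 | k2 | k2
      · exact absurd (h3 _ (hmul _ _ k0 k2)
        (by decide +kernel)) (by decide +kernel)
      · exact absurd (h3 _ (hmul _ _ k0 k2)
        (by decide +kernel)) (by decide +kernel)
      · exact absurd (h3 _ (hmul _ _ k1 k2)
        (by decide +kernel)) (by decide +kernel)
  · rcases hB6 with k1 | k1 | k1
    · rcases hB7 with k2 | k2 | k2
      · exact absurd (h3 _ (hmul _ _ k1 k2)
        (by decide +kernel)) (by decide +kernel)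
      · exact absurd (h3 _ (hmul _ _ (hmul _ _ (hmul _ _ k0 k1) k0) k2)
        (by decide +kernel)) (by decide +kernel)
      · exact absurd (h3 _ (hmul _ _ k0 k2)
        (by decide +kernel)) (by decide +kernel)
    · rcases hB5 with k2 | k2 | k2
      · exact absurd (h3 _ (hmul _ _ k0 k2)
        (by decide +kernel)) (by decide +kernel)
      · exact absurd (h3 _ (hmul _ _ k1 k2)
        (by decide +kernel)) (by decide +kernel)
      · exact absurd (h3 _ (hmul _ _ k0 k2)
        (by decide +kernel)) (by decide +kernel)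
    · exact absurd (h3 _ (hmul _ _ k0 k1)
        (by decide +kernel)) (by decide +kernel)

variable {V : Type u} [AddCommGroup V]

def bs (b : Bool) (x : V) : V := if b then x else 0

def B3 (e₁ e₂ e₃ : V) (u : F3) : V := bs u.1 e₁ + (bs u.2.1 e₂ + bs u.2.2 e₃)

theorem bs_xor (h2 : ∀ x : V, x + x = 0) (a b : Bool) (x : V) :
    bs (xor a b) x = bs a x + bs b x := by
  cases a <;> cases b <;> simp [bs, h2]

theorem bs_and (a b : Bool) (x : V) : bs (a && b) x = bs a (bs b x) := by
  cases a <;> cases b <;> simp [bs]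

theorem bs_add (a : Bool) (x y : V) : bs a (x + y) = bs a x + bs a y := by
  cases a <;> simp [bs]

theorem bs_map (g : AddMonoid.End V) (a : Bool) (x : V) : g (bs a x) = bs a (g x) := by
  cases a <;> simp [bs]

theorem B3_fx (h2 : ∀ x : V, x + x = 0) (e₁ e₂ e₃ : V) (u w : F3) :
    B3 e₁ e₂ e₃ (fx u w) = B3 e₁ e₂ e₃ u + B3 e₁ e₂ e₃ w := by
  unfold B3 fx
  simp only [bs_xor h2]
  abel

theorem B3_bx (e₁ e₂ e₃ : V) (b : Bool) (u : F3) :
    B3 e₁ e₂ e₃ (bx b u) = bs b (B3 e₁ e₂ e₃ u) := by
  unfold B3 bx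
  simp only [bs_and, bs_add]

theorem B3_mv (h2 : ∀ x : V, x + x = 0) (e₁ e₂ e₃ : V) (m : M3) (c : F3) :
    B3 e₁ e₂ e₃ (mv m c) = bs c.1 (B3 e₁ e₂ e₃ m.1) + (bs c.2.1 (B3 e₁ e₂ e₃ m.2.1) +
      bs c.2.2 (B3 e₁ e₂ e₃ m.2.2)) := by
  unfold mv
  rw [B3_fx h2, B3_fx h2, B3_bx, B3_bx, B3_bx]

theorem act3 (h2 : ∀ x : V, x + x = 0) {e₁ e₂ e₃ : V} {g : AU V} {B B' m : M3}
    (hs : ∀ u, ∃ c, mv B c = u) (hm : ∀ c, mv m (mv B c) = mv B' c)
    (a1 : g.1 (B3 e₁ e₂ e₃ B.1) = B3 e₁ e₂ e₃ B'.1)
    (a2 : g.1 (B3 e₁ e₂ e₃ B.2.1) = B3 e₁ e₂ e₃ B'.2.1)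
    (a3 : g.1 (B3 e₁ e₂ e₃ B.2.2) = B3 e₁ e₂ e₃ B'.2.2) (u : F3) :
    g.1 (B3 e₁ e₂ e₃ u) = B3 e₁ e₂ e₃ (mv m u) := by
  obtain ⟨c, rfl⟩ := hs u
  rw [hm, B3_mv h2, B3_mv h2, map_add, map_add, bs_map, bs_map, bs_map, a1, a2, a3]

def chk (B m12 m13 m23 c1 c2 : M3) : Prop :=
  (∀ u, ∃ c, mv B c = u) ∧
  ((false, false, false) ≠ B.1 ∧ (false, false, false) ≠ B.2.1 ∧ (false, false, false) ≠ B.2.2) ∧
  (B.1 ≠ B.2.1 ∧ B.1 ≠ B.2.2 ∧ B.2.1 ≠ B.2.2) ∧
  (∀ c, mv m12 (mv B c) = mv (B.2.1, B.1, B.2.2) c) ∧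
  (∀ c, mv m13 (mv B c) = mv (B.2.2, B.2.1, B.1) c) ∧
  (∀ c, mv m23 (mv B c) = mv (B.1, B.2.2, B.2.1) c) ∧
  (∀ c, mv c1 (mv B c) = mv (B.2.1, B.2.2, B.1) c) ∧
  (∀ c, mv c2 (mv B c) = mv (B.2.2, B.1, B.2.1) c) ∧
  (∀ u, mv c1 (mv c1 (mv c1 u)) = u) ∧
  (∀ u, mv c2 (mv c2 (mv c2 u)) = u)

set_option synthInstance.maxHeartbeats 400000 in
set_option synthInstance.maxSize 4096 in
instance decChk (B m12 m13 m23 c1 c2 : M3) : Decidable (chk B m12 m13 m23 c1 c2) := by
  unfold chk
  infer_instance

/-- maps realised by elements of `H` -/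
def NN (H : Subgroup (AU V)) (e₁ e₂ e₃ : V) (f : F3 → F3) : Prop :=
  ∃ g ∈ H, ∀ u, g.1 (B3 e₁ e₂ e₃ u) = B3 e₁ e₂ e₃ (f u)

theorem mv_one (u : F3) :
    mv ((true, false, false), (false, true, false), (false, false, true)) u = u := by
  revert u; decide

theorem opt3 (h2 : ∀ x : V, x + x = 0) {H : Subgroup (AU V)} {e₁ e₂ e₃ : V}
    (hcube : ∀ g ∈ H, (∀ u, g.1 (g.1 (g.1 (B3 e₁ e₂ e₃ u))) = B3 e₁ e₂ e₃ u) → g = 1)
    (hinj : Function.Injective (B3 e₁ e₂ e₃))
    (hbad : ∀ Δ : Set V, 0 ∉ Δ → ∃ g ∈ H, g ≠ 1 ∧ ∀ x ∈ Δ, g.1 x ∈ Δ)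
    {B m12 m13 m23 c1 c2 : M3} (hc : chk B m12 m13 m23 c1 c2) :
    NN H e₁ e₂ e₃ (mv m12) ∨ NN H e₁ e₂ e₃ (mv m13) ∨ NN H e₁ e₂ e₃ (mv m23) := by
  obtain ⟨hs, ⟨z1, z2, z3⟩, ⟨n12, n13, n23⟩, h12, h13, h23, k1, k2, q1, q2⟩ := hc
  have h0 : B3 e₁ e₂ e₃ (false, false, false) = 0 := by simp [B3, bs]
  obtain ⟨g, hg, hg1, hΔ⟩ := hbad {B3 e₁ e₂ e₃ B.1, B3 e₁ e₂ e₃ B.2.1, B3 e₁ e₂ e₃ B.2.2} (by
    simp only [Set.mem_insert_iff, Set.mem_singleton_iff, not_or]
    rw [← h0]
    exact ⟨fun h => z1 (hinj h), fun h => z2 (hinj h), fun h => z3 (hinj h)⟩)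
  have a1 := hΔ (B3 e₁ e₂ e₃ B.1) (by simp)
  have a2 := hΔ (B3 e₁ e₂ e₃ B.2.1) (by simp)
  have a3 := hΔ (B3 e₁ e₂ e₃ B.2.2) (by simp)
  simp only [Set.mem_insert_iff, Set.mem_singleton_iff] at a1 a2 a3
  have inj : ∀ {u w x : F3}, g.1 (B3 e₁ e₂ e₃ u) = B3 e₁ e₂ e₃ x →
      g.1 (B3 e₁ e₂ e₃ w) = B3 e₁ e₂ e₃ x → u = w := fun hu hw =>
    hinj (au_injective g (hu.trans hw.symm))
  rcases a1 with a1 | a1 | a1
  · rcases a2 with a2 | a2 | a2
    · exact absurd (inj a1 a2) n12
    · rcases a3 with a3 | a3 | a3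
      · exact absurd (inj a1 a3) n13
      · exact absurd (inj a2 a3) n23
      · exfalso
        apply hg1
        apply hcube g hg
        intro u
        have h := act3 h2 (B := B) (B' := B)
          (m := ((true, false, false), (false, true, false), (false, false, true))) hs
          (fun c => mv_one _) a1 a2 a3
        simp only [mv_one] at h
        rw [h, h, h]
    · rcases a3 with a3 | a3 | a3
      · exact absurd (inj a1 a3) n13
      · exact Or.inr (Or.inr ⟨g, hg, act3 h2 (B' := (B.1, B.2.2, B.2.1)) hs h23 a1 a2 a3⟩)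
      · exact absurd (inj a2 a3) n23
  · rcases a2 with a2 | a2 | a2
    · rcases a3 with a3 | a3 | a3
      · exact absurd (inj a2 a3) n23
      · exact absurd (inj a1 a3) n13
      · exact Or.inl ⟨g, hg, act3 h2 (B' := (B.2.1, B.1, B.2.2)) hs h12 a1 a2 a3⟩
    · exact absurd (inj a1 a2) n12
    · rcases a3 with a3 | a3 | a3
      · exfalso
        apply hg1
        apply hcube g hg
        intro u
        have h := act3 h2 (B' := (B.2.1, B.2.2, B.1)) hs k1 a1 a2 a3
        rw [h, h, h, q1]
      · exact absurd (inj a1 a3) n13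
      · exact absurd (inj a2 a3) n23
  · rcases a2 with a2 | a2 | a2
    · rcases a3 with a3 | a3 | a3
      · exact absurd (inj a2 a3) n23
      · exfalso
        apply hg1
        apply hcube g hg
        intro u
        have h := act3 h2 (B' := (B.2.2, B.1, B.2.1)) hs k2 a1 a2 a3
        rw [h, h, h, q2]
      · exact absurd (inj a1 a3) n13
    · rcases a3 with a3 | a3 | a3
      · exact Or.inr (Or.inl ⟨g, hg, act3 h2 (B' := (B.2.2, B.2.1, B.1)) hs h13 a1 a2 a3⟩)
      · exact absurd (inj a2 a3) n23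
      · exact absurd (inj a1 a3) n13
    · exact absurd (inj a1 a2) n12


/-- three vectors -/
theorem delta2_three (h2 : ∀ x : V, x + x = 0) {H : Subgroup (AU V)} {e₁ e₂ e₃ : V}
    (hcube : ∀ g ∈ H, g ^ 3 = 1 → g = 1)
    (he : ∀ g ∈ H, g.1 e₁ = e₁ → g.1 e₂ = e₂ → g.1 e₃ = e₃ → g = 1)
    (h1 : e₁ ≠ 0) (he2 : e₂ ∉ AddSubgroup.closure {e₁})
    (he3 : e₃ ∉ AddSubgroup.closure {e₁, e₂}) :
    ∃ Δ : Set V, 0 ∉ Δ ∧ ∀ g ∈ H, (∀ x ∈ Δ, g.1 x ∈ Δ) → g = 1 := by
  by_contra hcon
  push Not at hcon
  have hbad : ∀ Δ : Set V, 0 ∉ Δ → ∃ g ∈ H, g ≠ 1 ∧ ∀ x ∈ Δ, g.1 x ∈ Δ := by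
    intro Δ h0
    obtain ⟨g, hg, h3, h4⟩ := hcon Δ h0
    exact ⟨g, hg, h4, h3⟩
  have q1 : B3 e₁ e₂ e₃ (true, false, false) = e₁ := by simp [B3, bs]
  have q2 : B3 e₁ e₂ e₃ (false, true, false) = e₂ := by simp [B3, bs]
  have q3 : B3 e₁ e₂ e₃ (false, false, true) = e₃ := by simp [B3, bs]
  have h0 : B3 e₁ e₂ e₃ (false, false, false) = 0 := by simp [B3, bs]
  have hinj : Function.Injective (B3 e₁ e₂ e₃) := by
    have m1 : e₁ ∈ AddSubgroup.closure {e₁, e₂} := AddSubgroup.subset_closure (by simp)
    have m2 : e₂ ∈ AddSubgroup.closure {e₁, e₂} := AddSubgroup.subset_closure (by simp)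
    have m3 : e₁ ∈ AddSubgroup.closure {e₁} := AddSubgroup.subset_closure (Set.mem_singleton e₁)
    have key : ∀ u : F3, B3 e₁ e₂ e₃ u = 0 → u = (false, false, false) := by
      rintro ⟨a, b, c⟩ h
      unfold B3 at h
      have hc : c = false := by
        cases c
        · rfl
        · exfalso
          apply he3
          have h5 : e₃ = bs a e₁ + bs b e₂ := by
            have : bs a e₁ + (bs b e₂ + e₃) = 0 := h
            rw [← add_assoc] at this
            have h6 := h2 e₃
            rw [← this] at h6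
            exact add_right_cancel h6
          rw [h5]
          refine AddSubgroup.add_mem _ ?_ ?_
          · cases a
            · exact AddSubgroup.zero_mem _
            · exact m1
          · cases b
            · exact AddSubgroup.zero_mem _
            · exact m2
      subst hc
      have hb : b = false := by
        cases b
        · rfl
        · exfalso
          apply he2
          have h5 : e₂ = bs a e₁ := by
            have : bs a e₁ + (e₂ + 0) = 0 := h
            rw [add_zero] at this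
            have h6 := h2 e₂
            rw [← this] at h6
            exact add_right_cancel h6
          rw [h5]
          cases a
          · exact AddSubgroup.zero_mem _
          · exact m3
      subst hb
      cases a
      · rfl
      · exfalso
        apply h1
        have : e₁ + (0 + 0) = 0 := h
        rwa [add_zero, add_zero] at this
    intro u w h
    have h5 : B3 e₁ e₂ e₃ (fx u w) = 0 := by rw [B3_fx h2, h, h2]
    have h6 := key _ h5
    have h7 : ∀ u w : F3, fx u w = (false, false, false) → u = w := by decide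
    exact h7 u w h6
  have hall : ∀ g ∈ H, (∀ u, g.1 (B3 e₁ e₂ e₃ u) = B3 e₁ e₂ e₃ u) → g = 1 := by
    intro g hg h
    refine he g hg ?_ ?_ ?_
    · have := h (true, false, false); rwa [q1] at this
    · have := h (false, true, false); rwa [q2] at this
    · have := h (false, false, true); rwa [q3] at this
  have hcube' : ∀ g ∈ H, (∀ u, g.1 (g.1 (g.1 (B3 e₁ e₂ e₃ u))) = B3 e₁ e₂ e₃ u) → g = 1 := by
    intro g hg h
    apply hcube g hg
    apply hall _ (H.pow_mem hg 3)
    intro u
    have : (g ^ 3).1 (B3 e₁ e₂ e₃ u) = g.1 (g.1 (g.1 (B3 e₁ e₂ e₃ u))) := by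
      rw [pow_succ, pow_two]; rfl
    rw [this, h]
  refine comb3 (NN H e₁ e₂ e₃) ?_ ?_
    (opt3 h2 hcube' hinj hbad (B := ((true, false, false), (false, true, false), (false, false, true)))
      (m12 := ((false, true, false), (true, false, false), (false, false, true)))
      (m13 := ((false, false, true), (false, true, false), (true, false, false)))
      (m23 := ((true, false, false), (false, false, true), (false, true, false)))
      (c1 := ((false, true, false), (false, false, true), (true, false, false)))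
      (c2 := ((false, false, true), (true, false, false), (false, true, false))) (by decide +kernel))
    (opt3 h2 hcube' hinj hbad (B := ((true, false, false), (true, true, false), (false, false, true)))
      (m12 := ((true, true, false), (false, true, false), (false, false, true)))
      (m13 := ((false, false, true), (true, true, true), (true, false, false)))
      (m23 := ((true, false, false), (true, false, true), (true, true, false)))
      (c1 := ((true, true, false), (true, true, true), (true, false, false)))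
      (c2 := ((false, false, true), (true, false, true), (true, true, false))) (by decide +kernel))
    (opt3 h2 hcube' hinj hbad (B := ((true, false, false), (true, true, false), (true, false, true)))
      (m12 := ((true, true, false), (false, true, false), (false, true, true)))
      (m13 := ((true, false, true), (false, true, true), (false, false, true)))
      (m23 := ((true, false, false), (false, false, true), (false, true, false)))
      (c1 := ((true, true, false), (false, true, true), (false, true, false)))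
      (c2 := ((true, false, true), (false, false, true), (false, true, true))) (by decide +kernel))
    (opt3 h2 hcube' hinj hbad (B := ((true, false, false), (true, true, false), (true, true, true)))
      (m12 := ((true, true, false), (false, true, false), (false, true, true)))
      (m13 := ((true, true, true), (false, false, true), (false, true, false)))
      (m23 := ((true, false, false), (false, true, true), (false, false, true)))
      (c1 := ((true, true, false), (false, false, true), (false, true, true)))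
      (c2 := ((true, true, true), (false, true, true), (false, true, false))) (by decide +kernel))
    (opt3 h2 hcube' hinj hbad (B := ((true, false, false), (false, true, false), (true, false, true)))
      (m12 := ((false, true, false), (true, false, false), (true, true, true)))
      (m13 := ((true, false, true), (false, true, false), (false, false, true)))
      (m23 := ((true, false, false), (true, false, true), (true, true, false)))
      (c1 := ((false, true, false), (true, false, true), (true, true, false)))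
      (c2 := ((true, false, true), (true, false, false), (true, true, true))) (by decide +kernel))
    (opt3 h2 hcube' hinj hbad (B := ((true, false, false), (false, true, false), (true, true, true)))
      (m12 := ((false, true, false), (true, false, false), (false, false, true)))
      (m13 := ((true, true, true), (false, true, false), (false, false, true)))
      (m23 := ((true, false, false), (true, true, true), (false, false, true)))
      (c1 := ((false, true, false), (true, true, true), (false, false, true)))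
      (c2 := ((true, true, true), (true, false, false), (false, false, true))) (by decide +kernel))
    (opt3 h2 hcube' hinj hbad (B := ((true, false, false), (false, true, false), (false, true, true)))
      (m12 := ((false, true, false), (true, false, false), (true, true, true)))
      (m13 := ((false, true, true), (false, true, false), (true, true, false)))
      (m23 := ((true, false, false), (false, true, true), (false, false, true)))
      (c1 := ((false, true, false), (false, true, true), (true, true, true)))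
      (c2 := ((false, true, true), (true, false, false), (true, true, false))) (by decide +kernel))
    (opt3 h2 hcube' hinj hbad (B := ((true, false, false), (true, true, false), (false, true, true)))
      (m12 := ((true, true, false), (false, true, false), (false, false, true)))
      (m13 := ((false, true, true), (true, false, true), (false, false, true)))
      (m23 := ((true, false, false), (true, true, true), (false, false, true)))
      (c1 := ((true, true, false), (true, false, true), (false, false, true)))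
      (c2 := ((false, true, true), (true, true, true), (false, false, true))) (by decide +kernel))
  · rintro f f' ⟨g, hg, hf⟩ ⟨g', hg', hf'⟩
    refine ⟨g * g', H.mul_mem hg hg', fun u => ?_⟩
    rw [au_mul_apply, hf', hf]
    rfl
  · rintro f ⟨g, hg, hf⟩ h3 u
    have : g = 1 := hcube' g hg (fun u => by rw [hf, hf, hf, h3])
    have h5 := hf u
    rw [this] at h5
    exact (hinj h5).symm

/-- **rigid sets, characteristic two** -/
theorem delta2 (h2 : ∀ x : V, x + x = 0) (H : Subgroup (AU V))
    (hcube : ∀ g ∈ H, g ^ 3 = 1 → g = 1) (hb : HasBase (Fin 3) H) :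
    ∃ Δ : Set V, 0 ∉ Δ ∧ ∀ g ∈ H, (∀ x ∈ Δ, g.1 x ∈ Δ) → g = 1 := by
  classical
  obtain ⟨v, hv⟩ := hb
  have inj : ∀ (g : AU V) {x y : V}, g.1 x = g.1 y → x = y := fun g {x y} h => au_injective g h
  by_cases hb0 : ∀ g ∈ H, g = 1
  · exact ⟨∅, fun h => h, fun g hg _ => hb0 g hg⟩
  by_cases hb1 : ∃ e₁ : V, ∀ g ∈ H, g.1 e₁ = e₁ → g = 1
  · obtain ⟨e₁, he₁⟩ := hb1
    have h0 : e₁ ≠ 0 := by
      rintro rfl
      exact hb0 fun g hg => he₁ g hg (map_zero _)
    exact ⟨{e₁}, fun h => h0 (Set.mem_singleton_iff.mp h).symm,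
      fun g hg h => he₁ g hg (Set.mem_singleton_iff.mp (h e₁ (Set.mem_singleton e₁)))⟩
  by_cases hb2 : ∃ e₁ e₂ : V, ∀ g ∈ H, g.1 e₁ = e₁ → g.1 e₂ = e₂ → g = 1
  · obtain ⟨e₁, e₂, he⟩ := hb2
    have h1 : e₁ ≠ 0 := by
      rintro rfl
      exact hb1 ⟨e₂, fun g hg h => he g hg (map_zero _) h⟩
    have h20 : e₂ ≠ 0 := by
      rintro rfl
      exact hb1 ⟨e₁, fun g hg h => he g hg h (map_zero _)⟩
    have n1 : e₁ ≠ e₂ := by
      rintro rfl
      exact hb1 ⟨e₁, fun g hg h => he g hg h h⟩
    have h12 : e₁ + e₂ ≠ 0 := by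
      intro h
      apply n1
      have := h2 e₂
      rw [← h] at this
      exact (add_right_cancel this).symm
    -- the set `{x, y}`
    have pair : ∀ x y : V, x ≠ 0 → y ≠ 0 → x ≠ y →
        (∀ g ∈ H, g.1 x = x → g.1 y = y → g = 1) →
        (¬ ∃ Δ : Set V, 0 ∉ Δ ∧ ∀ g ∈ H, (∀ x ∈ Δ, g.1 x ∈ Δ) → g = 1) →
        ∃ g ∈ H, g.1 x = y ∧ g.1 y = x := by
      intro x y hx hy hxy hfix hno
      by_contra hcon
      push Not at hcon
      apply hno
      refine ⟨{x, y}, ?_, fun g hg h => ?_⟩
      · simp only [Set.mem_insert_iff, Set.mem_singleton_iff, not_or]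
        exact ⟨hx.symm, hy.symm⟩
      · have a1 := h x (by simp)
        have a2 := h y (by simp)
        simp only [Set.mem_insert_iff, Set.mem_singleton_iff] at a1 a2
        rcases a1 with a1 | a1
        · rcases a2 with a2 | a2
          · exact absurd (inj g (a1.trans a2.symm)) hxy
          · exact hfix g hg a1 a2
        · rcases a2 with a2 | a2
          · exact absurd a2 (hcon g hg a1)
          · exact absurd (inj g (a1.trans a2.symm)) hxy
    by_contra hno
    obtain ⟨g, hg, g1, g2⟩ := pair e₁ e₂ h1 h20 n1 he hno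
    obtain ⟨k, hk, k1, k2⟩ := pair (e₁ + e₂) e₂ h12 h20 (fun h => h1 (add_eq_right.mp h)) (by
      intro g hg a b
      rw [map_add, b] at a
      exact he g hg (add_right_cancel a) b) hno
    have k3 : k.1 e₁ = e₁ := by
      rw [map_add, k2] at k1
      have : k.1 e₁ = k.1 e₁ + (e₁ + e₂) + (e₁ + e₂) := by
        rw [add_assoc, h2, add_zero]
      rw [this, k1, add_comm e₁ e₂, ← add_assoc, h2, zero_add]
    have s1 : (g * k).1 e₁ = e₂ := by rw [au_mul_apply, k3, g1]
    have s2 : (g * k).1 e₂ = e₁ + e₂ := by rw [au_mul_apply, k2, map_add, g1, g2, add_comm]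
    have s3 : (g * k).1 (e₁ + e₂) = e₁ := by rw [au_mul_apply, k1, g2]
    have hs : g * k = 1 := by
      apply hcube _ (H.mul_mem hg hk)
      have h3 : ∀ x : V, ((g * k) ^ 3).1 x = (g * k).1 ((g * k).1 ((g * k).1 x)) := by
        intro x
        rw [pow_succ, pow_two]; rfl
      apply he _ (H.pow_mem (H.mul_mem hg hk) 3)
      · rw [h3, s1, s2, s3]
      · rw [h3, s2, s3, s1]
    rw [hs] at s1
    exact n1 s1
  · -- three vectors
    obtain ⟨e₁, he₁⟩ : ∃ e, e = v 0 := ⟨_, rfl⟩
    obtain ⟨e₂, he₂⟩ : ∃ e, e = v 1 := ⟨_, rfl⟩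
    obtain ⟨e₃, he₃⟩ : ∃ e, e = v 2 := ⟨_, rfl⟩
    have he : ∀ g ∈ H, g.1 e₁ = e₁ → g.1 e₂ = e₂ → g.1 e₃ = e₃ → g = 1 := by
      intro g hg a1 a2 a3
      apply hv g hg
      intro i
      fin_cases i
      · rw [he₁] at a1; exact a1
      · rw [he₂] at a2; exact a2
      · rw [he₃] at a3; exact a3
    have h1 : e₁ ≠ 0 := by
      intro h0
      exact hb2 ⟨e₂, e₃, fun g hg a b => he g hg (by rw [h0]; exact map_zero _) a b⟩
    have h2' : e₂ ∉ AddSubgroup.closure {e₁} := by
      intro h
      refine hb2 ⟨e₁, e₃, fun g hg a b => he g hg a (fix_closure (s := {e₁}) ?_ h) b⟩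
      rintro x rfl; exact a
    have h3 : e₃ ∉ AddSubgroup.closure {e₁, e₂} := by
      intro h
      refine hb2 ⟨e₁, e₂, fun g hg a b => he g hg a b (fix_closure (s := {e₁, e₂}) ?_ h)⟩
      rintro x (rfl | rfl)
      · exact a
      · exact b
    exact delta2_three h2 hcube he h1 h2' h3

end Cfsg.Agent.H578.Del2
end

-- part: H578/Cop
section
/-!
# Bases of size two for irreducible coprime solvable linear groups (helper578)
-/

set_option autoImplicit false

universe u w

namespace Cfsg.Agent.H578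

open MulAction

theorem irr_prime {V : Type u} [AddCommGroup V] [Finite V] [Nontrivial V] {G : Subgroup (AU V)}
    (hirr : Irr G) : ∃ p : ℕ, p.Prime ∧ ∀ x : V, p • x = 0 := by
  obtain ⟨x, hx⟩ := exists_ne (0 : V)
  have h1 : addOrderOf x ≠ 1 := by
    rw [Ne, AddMonoid.addOrderOf_eq_one_iff]; exact hx
  obtain ⟨p, hp, hpx⟩ := Nat.exists_prime_and_dvd h1
  refine ⟨p, hp, ?_⟩
  let U : AddSubgroup V :=
    { carrier := {x | p • x = 0}
      zero_mem' := nsmul_zero p
      add_mem' := fun {a b} ha hb => by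
        change p • (a + b) = 0
        rw [nsmul_add, ha, hb, add_zero]
      neg_mem' := fun {a} ha => by
        change p • (-a) = 0
        rw [smul_neg, ha, neg_zero] }
  have hU : ∀ g ∈ G, ∀ u ∈ U, g.1 u ∈ U := by
    intro g _ u hu
    change p • g.1 u = 0
    rw [← map_nsmul, hu, map_zero]
  rcases hirr U hU with h | h
  · exfalso
    obtain ⟨k, hk⟩ := hpx
    have hpos : 0 < addOrderOf x := addOrderOf_pos x
    have h2 : k • x ∈ U := by
      change p • (k • x) = 0
      rw [← mul_nsmul', ← hk]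
      exact addOrderOf_nsmul_eq_zero x
    rw [h, AddSubgroup.mem_bot] at h2
    have h3 := addOrderOf_dvd_of_nsmul_eq_zero h2
    have hk0 : 0 < k := by
      rcases Nat.eq_zero_or_pos k with h0 | h0
      · rw [h0, mul_zero] at hk; omega
      · exact h0
    have h4 := Nat.le_of_dvd hk0 h3
    rw [hk] at h4
    have := hp.two_le
    nlinarith
  · intro x
    have : x ∈ U := by rw [h]; trivial
    exact this

/-- rigid sets for solvable irreducible groups of order prime to three -/
theorem delta3 {V : Type u} [AddCommGroup V] [Finite V] [Nontrivial V] (H : Subgroup (AU V))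
    (hsol : Group.IsSolvable H) (hirr : Irr H) (hH : (Nat.card H).Coprime 3)
    (hV : (Nat.card V).Coprime 3) :
    ∃ Δ : Set V, 0 ∉ Δ ∧ ∀ g ∈ H, (∀ x ∈ Δ, g.1 x ∈ Δ) → g = 1 := by
  obtain ⟨r, hr, hrV⟩ := irr_prime hirr
  have hb := irr3 H hsol hirr
  by_cases h2 : r = 2
  · subst h2
    refine Del2.delta2 (fun x => by rw [← two_nsmul]; exact hrV x) H (fun g hg hg3 => ?_) hb
    have h4 := card_pow_eq_one hg
    have h5 : orderOf g ∣ Nat.gcd (Nat.card H) 3 :=
      Nat.dvd_gcd (orderOf_dvd_of_pow_eq_one h4) (orderOf_dvd_of_pow_eq_one hg3)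
    rw [hH] at h5
    exact orderOf_eq_one_iff.mp (Nat.dvd_one.mp h5)
  · have h3 : r ≠ 3 := by
      rintro rfl
      obtain ⟨x, hx⟩ := exists_ne (0 : V)
      have : Fact (Nat.Prime 3) := ⟨hr⟩
      have h1 := addOrderOf_eq_prime (hrV x) hx
      have h2 : addOrderOf x ∣ Nat.card V := addOrderOf_dvd_natCard x
      rw [h1] at h2
      have h3 := Nat.dvd_gcd h2 (dvd_refl 3)
      rw [hV] at h3
      omega
    have h5 : 5 ≤ r := by
      have := hr.two_le
      by_contra hlt
      have h4 : r = 4 := by omega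
      rw [h4] at hr
      exact absurd hr (by norm_num)
    exact delta5 hr h5 hrV H hb

end Cfsg.Agent.H578

namespace Cfsg.Agent.H578.PermCol

open MulAction
open Cfsg.Agent.SolvableStructure.MinimalNormal
open Cfsg.Agent.SolvableStructure.PrimitiveSolvable

/-- reduction to faithful actions -/
theorem prim_reduce {G : Type u} {Ω : Type w} [Group G] [Finite G] [Group.IsSolvable G]
    [MulAction G Ω] (hprim : IsPreprimitive G Ω) {C : Type*} [Nonempty C] (Q : ℕ → Prop)
    (hQ : ∀ a b, a ∣ b → Q b → Q a) (hQG : Q (Nat.card G))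
    (hf : ∀ (S : Type u) [Group S] [Finite S] [Group.IsSolvable S] [MulAction S Ω]
      [FaithfulSMul S Ω], IsPreprimitive S Ω → Nontrivial S → Q (Nat.card S) →
      ∃ κ : Ω → C, ∀ g : S, (∀ ω, κ (g • ω) = κ ω) → g = 1) :
    ∃ κ : Ω → C, ∀ g : G, (∀ ω, κ (g • ω) = κ ω) → ∀ ω : Ω, g • ω = ω := by
  classical
  -- the faithful quotient
  let N : Subgroup G := (toPermHom G Ω).ker
  have hN : ∀ g, g ∈ N ↔ ∀ ω : Ω, g • ω = ω := by
    intro g
    rw [MonoidHom.mem_ker, Equiv.Perm.ext_iff]
    rfl
  let act : MulAction (G ⧸ N) Ω :=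
    { smul := fun s ω => QuotientGroup.lift N (toPermHom G Ω) (fun g hg => hg) s ω
      one_smul := fun ω => by
        change QuotientGroup.lift N (toPermHom G Ω) _ 1 ω = ω
        rw [map_one]; rfl
      mul_smul := fun a b ω => by
        change QuotientGroup.lift N (toPermHom G Ω) _ (a * b) ω = _
        rw [map_mul]; rfl }
  have hsm : ∀ (g : G) (ω : Ω), ((g : G ⧸ N)) • ω = g • ω := fun g ω => rfl
  have hfaith : FaithfulSMul (G ⧸ N) Ω := by
    refine ⟨fun {a b} hab => ?_⟩
    obtain ⟨a, rfl⟩ := QuotientGroup.mk_surjective a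
    obtain ⟨b, rfl⟩ := QuotientGroup.mk_surjective b
    rw [QuotientGroup.eq, hN]
    intro ω
    have h1 := hab ω
    rw [hsm, hsm] at h1
    rw [mul_smul, ← h1, inv_smul_smul]
  have hprim' : IsPreprimitive (G ⧸ N) Ω := by
    let f : Ω →ₑ[(QuotientGroup.mk : G → G ⧸ N)] Ω :=
      { toFun := id
        map_smul' := fun g ω => rfl }
    exact IsPreprimitive.of_surjective (f := f) (fun ω => ⟨ω, rfl⟩)
  have hsol : Group.IsSolvable (G ⧸ N) := inferInstance
  by_cases hnt : Nontrivial (G ⧸ N)
  · obtain ⟨κ, hκ⟩ := hf (G ⧸ N) hprim' hnt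
      (hQ _ _ (Subgroup.card_quotient_dvd_card N) hQG)
    refine ⟨κ, fun g hg ω => ?_⟩
    have h1 := hκ (g : G ⧸ N) (fun ω => hg ω)
    rw [← hsm, h1, one_smul]
  · rw [not_nontrivial_iff_subsingleton] at hnt
    refine ⟨fun _ => Classical.arbitrary C, fun g _ ω => ?_⟩
    have h1 : (g : G ⧸ N) = 1 := Subsingleton.elim _ _
    rw [← hsm, h1, one_smul]

theorem prim_faithful3 {S : Type u} {Ω : Type w} [Group S] [Finite S] [Group.IsSolvable S]
    [MulAction S Ω] [FaithfulSMul S Ω] (hprim : IsPreprimitive S Ω) (hS : Nontrivial S)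
    (h3 : (Nat.card S).Coprime 3) :
    ∃ κ : Ω → Fin 3, ∀ g : S, (∀ ω, κ (g • ω) = κ ω) → g = 1 := by
  classical
  rcases isEmpty_or_nonempty Ω with hΩ | ⟨⟨ω0⟩⟩
  · exact ⟨fun _ => 0, fun g _ => FaithfulSMul.eq_of_smul_eq_smul (α := Ω) fun ω => hΩ.elim ω⟩
  -- a minimal normal subgroup
  obtain ⟨M, ⟨hMn, hM⟩, hmin⟩ := Set.Finite.exists_minimal
    (s := {M : Subgroup S | M.Normal ∧ M ≠ ⊥}) (Set.toFinite _) ⟨⊤, inferInstance, top_ne_bot⟩
  have hmin' : ∀ K : Subgroup S, K.Normal → K ≤ M → K = ⊥ ∨ K = M := by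
    intro K hK hKM
    by_cases h : K = ⊥
    · exact Or.inl h
    · exact Or.inr (le_antisymm hKM (hmin ⟨hK, h⟩ hKM))
  have htrans := isPretransitive_of_normal hprim M hM
  have hcomm := comm_of_minimal_normal M hM hmin'
  have hstab := stabilizer_eq_bot_of_comm (Ω := Ω) M hcomm ω0
  let _ : CommGroup M :=
    { (inferInstance : Group M) with
      mul_comm := fun a b => Subtype.ext (hcomm a a.2 b b.2) }
  -- the bijection `M → Ω`
  have hinj : ∀ a b : M, a • ω0 = b • ω0 → a = b := by
    intro a b hab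
    have : b⁻¹ * a ∈ stabilizer M ω0 := by
      rw [mem_stabilizer_iff, mul_smul, hab, inv_smul_smul]
    rw [hstab, Subgroup.mem_bot] at this
    exact (inv_mul_eq_one.mp this).symm
  choose f hf using fun ω : Ω => MulAction.exists_smul_eq M ω0 ω
  have hff : ∀ m : M, f (m • ω0) = m := fun m => hinj _ _ (hf (m • ω0))
  -- the point stabiliser acting on `M`
  let φ : stabilizer S ω0 →* AU (Additive M) := MonoidHom.toHomUnits
    { toFun := fun g => MonoidHom.toAdditive (MulAut.conjNormal g.1 : M ≃* M).toMonoidHom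
      map_one' := by
        apply AddMonoidHom.ext
        intro x
        change Additive.ofMul ((MulAut.conjNormal (1 : S) : M ≃* M) (Additive.toMul x)) = x
        rw [map_one]; rfl
      map_mul' := fun a b => by
        apply AddMonoidHom.ext
        intro x
        change Additive.ofMul ((MulAut.conjNormal (a.1 * b.1) : M ≃* M) (Additive.toMul x)) = _
        rw [map_mul]; rfl }
  have hφ : ∀ (g : stabilizer S ω0) (x : Additive M),
      ((Additive.toMul ((φ g).1 x) : M) : S) = g.1 * (Additive.toMul x : M) * (g.1)⁻¹ := by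
    intro g x
    exact MulAut.conjNormal_apply g.1 (Additive.toMul x)
  have hsol : Group.IsSolvable φ.range :=
    Group.isSolvable_of_surjective (f := φ.rangeRestrict) φ.rangeRestrict_surjective
  have hirr : Irr φ.range := by
    intro U hU
    let U' : Subgroup S := (AddSubgroup.toSubgroup' U).map M.subtype
    have hU' : U'.Normal := by
      refine ⟨?_⟩
      rintro _ ⟨m, hm, rfl⟩ g
      -- write `g = t p`
      obtain ⟨t, ht⟩ := MulAction.exists_smul_eq M ω0 (g • ω0)
      have hp : (t : S)⁻¹ * g ∈ stabilizer S ω0 := by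
        rw [mem_stabilizer_iff, mul_smul, ← ht]
        change (t : S)⁻¹ • ((t : S) • ω0) = ω0
        rw [inv_smul_smul]
      have h1 := hU _ ⟨⟨_, hp⟩, rfl⟩ (Additive.ofMul m) hm
      refine ⟨Additive.toMul ((φ ⟨_, hp⟩).1 (Additive.ofMul m)), h1, ?_⟩
      change ((Additive.toMul ((φ ⟨_, hp⟩).1 (Additive.ofMul m)) : M) : S) = g * (m : S) * g⁻¹
      have h2 := hφ ⟨_, hp⟩ (Additive.ofMul m)
      have h3 := hcomm t t.2 _ (Additive.toMul ((φ ⟨_, hp⟩).1 (Additive.ofMul m))).2
      have h4 : ((Additive.toMul ((φ ⟨_, hp⟩).1 (Additive.ofMul m)) : M) : S) =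
          t * ((Additive.toMul ((φ ⟨_, hp⟩).1 (Additive.ofMul m)) : M) : S) * (t : S)⁻¹ := by
        rw [h3, mul_inv_cancel_right]
      rw [h4, h2]
      change (t : S) * ((t : S)⁻¹ * g * (m : S) * ((t : S)⁻¹ * g)⁻¹) * (t : S)⁻¹ = _
      group
    rcases hmin' U' hU' (by rintro _ ⟨m, _, rfl⟩; exact m.2) with h | h
    · left
      rw [eq_bot_iff]
      intro x hx
      have h1 : ((Additive.toMul x : M) : S) ∈ U' := ⟨Additive.toMul x, hx, rfl⟩
      rw [h, Subgroup.mem_bot] at h1
      have h2 : (Additive.toMul x : M) = 1 := Subtype.ext h1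
      exact h2
    · right
      rw [eq_top_iff]
      intro x _
      have h1 : ((Additive.toMul x : M) : S) ∈ U' := by rw [h]; exact (Additive.toMul x).2
      obtain ⟨y, hy, hyx⟩ := h1
      have : y = Additive.toMul x := Subtype.ext hyx
      rw [this] at hy
      exact hy
  have hnt : Nontrivial (Additive M) := by
    have h1 : Nontrivial M := (Subgroup.nontrivial_iff_ne_bot M).mpr hM
    exact inferInstance
  have hcH : (Nat.card φ.range).Coprime 3 :=
    Nat.Coprime.coprime_dvd_left ((Subgroup.card_range_dvd φ).trans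
      (Subgroup.card_subgroup_dvd_card _)) h3
  have hcV : (Nat.card (Additive M)).Coprime 3 :=
    Nat.Coprime.coprime_dvd_left (Subgroup.card_subgroup_dvd_card M) h3
  obtain ⟨Δ, hΔ0, hΔ⟩ := delta3 φ.range hsol hirr hcH hcV
  refine ⟨fun ω => if f ω = 1 then 0 else if Additive.ofMul (f ω) ∈ Δ then 1 else 2,
    fun g hg => ?_⟩
  have hf1 : f ω0 = 1 := by
    have := hff 1
    rwa [one_smul] at this
  have hg0 : g • ω0 = ω0 := by
    have h := hg ω0
    have h4 : f (g • ω0) = 1 := by
      by_contra hne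
      simp only [if_neg hne, if_pos hf1] at h
      split_ifs at h
      all_goals exact absurd h (by decide)
    have h5 := hf (g • ω0)
    rw [h4, one_smul] at h5
    exact h5.symm
  let p : stabilizer S ω0 := ⟨g, hg0⟩
  have hact : ∀ m : M, f (g • (m • ω0)) = Additive.toMul ((φ p).1 (Additive.ofMul m)) := by
    intro m
    rw [← hff (Additive.toMul ((φ p).1 (Additive.ofMul m)))]
    congr 1
    change g • ((m : S) • ω0) =
      ((Additive.toMul ((φ p).1 (Additive.ofMul m)) : M) : S) • ω0
    rw [hφ]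
    change g • ((m : S) • ω0) = (g * (m : S) * g⁻¹) • ω0
    rw [mul_smul, mul_smul]
    congr 2
    rw [eq_inv_smul_iff]; exact hg0
  have hp1 : φ p = 1 := by
    apply hΔ _ ⟨p, rfl⟩
    intro x hx
    have hx0 : Additive.toMul x ≠ 1 := by
      intro h
      apply hΔ0
      have : x = 0 := h
      rw [← this]; exact hx
    have h := hg ((Additive.toMul x : M) • ω0)
    beta_reduce at h
    rw [hact, hff] at h
    rw [if_neg hx0, ofMul_toMul, if_pos hx] at h
    by_contra hne
    split_ifs at h with h6 h7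
    · exact absurd h (by decide)
    · exact hne h7
    · exact absurd h (by decide)
  apply FaithfulSMul.eq_of_smul_eq_smul (α := Ω)
  intro ω
  rw [one_smul, ← hf ω]
  apply_fun f using (fun a b hab => by rw [← hf a, ← hf b, hab])
  rw [hact, hff, hp1]
  rfl

/-- **Three colours for a primitive solvable group of order prime to three.** -/
theorem prim_color3 {G : Type u} {Ω : Type w} [Group G] [Finite G] [Group.IsSolvable G]
    [MulAction G Ω] (h3 : (Nat.card G).Coprime 3) (hprim : IsPreprimitive G Ω) :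
    ∃ κ : Ω → Fin 3, ∀ g : G, (∀ ω, κ (g • ω) = κ ω) → ∀ ω : Ω, g • ω = ω :=
  prim_reduce hprim (fun n => n.Coprime 3) (fun _ _ h h' => Nat.Coprime.coprime_dvd_left h h') h3
    (fun _ _ _ _ _ _ hp hnt hc => prim_faithful3 hp hnt hc)

end Cfsg.Agent.H578.PermCol

namespace Cfsg.Agent.H578

/-- the numerical condition used in the induction -/
def QC (p a b : ℕ) : Prop := a.Coprime p ∧ ∀ q : ℕ, q.Prime → q ∣ b → q = p

theorem QC.mono {p a b c d : ℕ} (h1 : a ∣ c) (h2 : b ∣ d) (h : QC p c d) : QC p a b :=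
  ⟨Nat.Coprime.coprime_dvd_left h1 h.1, fun q hq hqb => h.2 q hq (hqb.trans h2)⟩

theorem QC.cop {p a b : ℕ} (h : QC p a b) : a.Coprime b := by
  apply Nat.coprime_of_dvd
  intro q hq hqa hqb
  have h1 := h.2 q hq hqb
  subst h1
  have h2 := Nat.dvd_gcd hqa (dvd_refl q)
  rw [h.1] at h2
  exact hq.one_lt.ne' (Nat.dvd_one.mp h2)

theorem QC.exp {p a : ℕ} {W : Type u} [AddCommGroup W] [Finite W] [Nontrivial W]
    {H : Subgroup (AU W)} (hirr : Irr H) (h : QC p a (Nat.card W)) : ∀ x : W, p • x = 0 := by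
  obtain ⟨r, hr, hrW⟩ := irr_prime hirr
  obtain ⟨x, hx⟩ := exists_ne (0 : W)
  have : Fact r.Prime := ⟨hr⟩
  have h1 := addOrderOf_eq_prime (hrW x) hx
  have h2 : addOrderOf x ∣ Nat.card W := addOrderOf_dvd_natCard x
  rw [h1] at h2
  rw [← h.2 r hr h2]
  exact hrW

/-- **Irreducible coprime solvable linear groups have bases of size two.** -/
theorem irr2cop {V : Type u} [AddCommGroup V] [Finite V] [Nontrivial V] (G : Subgroup (AU V))
    (hG : Group.IsSolvable G) (hcop : (Nat.card G).Coprime (Nat.card V)) (hirr : Irr G) :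
    HasBase (Fin 2) G := by
  obtain ⟨p, hp, hpV⟩ := irr_prime hirr
  have hfact : Fact p.Prime := ⟨hp⟩
  obtain ⟨x, hx⟩ := exists_ne (0 : V)
  have hpc : p ∣ Nat.card V := by
    rw [← addOrderOf_eq_prime (hpV x) hx]
    exact addOrderOf_dvd_natCard x
  have hQ : QC p (Nat.card G) (Nat.card V) := by
    refine ⟨Nat.Coprime.coprime_dvd_right hpc hcop, fun q hq hqV => ?_⟩
    have : Fact q.Prime := ⟨hq⟩
    obtain ⟨y, hy⟩ := exists_prime_addOrderOf_dvd_card' q hqV
    have h1 := addOrderOf_dvd_of_nsmul_eq_zero (hpV y)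
    rw [hy] at h1
    exact (Nat.prime_dvd_prime_iff_eq hq hp).mp h1
  by_cases h2 : p = 2
  · subst h2
    exact irr2odd G hG (Nat.coprime_two_right.mp hQ.1) hirr
  by_cases h3 : p = 3
  · subst h3
    refine induct (Fin 2) (QC 3) (fun _ _ _ _ h1 h2 h => h.mono h1 h2) 3 ?_ ?_ ?_ (Nat.card V)
      V G rfl hG hQ hirr
    · intro W _ _ _ H _ hQH hH hb
      exact regp H hp hQH.1 (hQH.exp hH) hb
    · intro G Ω _ _ _ _ _ hQG hpr
      exact PermCol.prim_color3 hQG.1 hpr
    · intro V _ _ _ G hG hQ hirr hprim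
      obtain ⟨D⟩ := exists_dat hirr hprim hG
      exact D.prim2 hQ.cop
  · have h5 : 5 ≤ p := by
      have := hp.two_le
      by_contra hlt
      have h4 : p = 4 := by omega
      rw [h4] at hp
      exact absurd hp (by norm_num)
    refine induct (Fin 2) (QC p) (fun _ _ _ _ h1 h2 h => h.mono h1 h2) 5 ?_ ?_ ?_ (Nat.card V)
      V G rfl hG hQ hirr
    · intro W _ _ _ H _ hQH hH hb
      obtain ⟨x, hx1, hx2⟩ := regp H hp hQH.1 (hQH.exp hH) hb
      exact ⟨fun c => x (Fin.castLE h5 c), fun c => hx1 _, fun c c' h hh hc =>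
        Fin.castLE_injective h5 (hx2 _ _ h hh hc)⟩
    · intro G Ω _ _ _ _ _ _ hpr
      exact PermCol.prim5 hpr
    · intro V _ _ _ G hG hQ hirr hprim
      obtain ⟨D⟩ := exists_dat hirr hprim hG
      exact D.prim2 hQ.cop

end Cfsg.Agent.H578
end

-- part: H578/BaseTwo
section
/-!
# Coprime actions of solvable groups have bases of size two (helper578)
-/

set_option autoImplicit false

universe u v w

namespace Cfsg.Agent.H578.CopAct

open Cfsg.Agent.H578.Marks

variable {A : Type w} {K : Type v} [Group A] [Group K] [MulDistribMulAction A K]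

/-- the action on an invariant subgroup -/
@[reducible] def subAct (N : Subgroup K) (hN : ∀ (a : A), ∀ n ∈ N, a • n ∈ N) :
    MulDistribMulAction A N where
  smul a n := ⟨a • (n : K), hN a n n.2⟩
  one_smul n := Subtype.ext (one_smul A (n : K))
  mul_smul a b n := Subtype.ext (mul_smul a b (n : K))
  smul_one a := Subtype.ext (smul_one a)
  smul_mul a m n := Subtype.ext (smul_mul' a (m : K) (n : K))

/-- the action on the quotient by an invariant normal subgroup -/
@[reducible] def quoAct (N : Subgroup K) [N.Normal] (hN : ∀ (a : A), ∀ n ∈ N, a • n ∈ N) :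
    MulDistribMulAction A (K ⧸ N) where
  smul a x := QuotientGroup.map N N (MulDistribMulAction.toMonoidHom K a)
    (fun n hn => hN a n hn) x
  one_smul x := by
    obtain ⟨k, rfl⟩ := QuotientGroup.mk_surjective x
    change (((1 : A) • k : K) : K ⧸ N) = (k : K ⧸ N)
    rw [one_smul]
  mul_smul a b x := by
    obtain ⟨k, rfl⟩ := QuotientGroup.mk_surjective x
    change (((a * b) • k : K) : K ⧸ N) = ((a • b • k : K) : K ⧸ N)
    rw [mul_smul]
  smul_one a := map_one _
  smul_mul a x y := map_mul _ x y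

/-- the numbers of fixed points multiply -/
theorem fc_mul [Finite A] [Finite K] (hA : Group.IsSolvable A)
    (hcop : (Nat.card A).Coprime (Nat.card K)) (N : Subgroup K) [N.Normal]
    (hN : ∀ (a : A), ∀ n ∈ N, a • n ∈ N) (B : Subgroup A) :
    Fc A K B = (letI := subAct N hN; Fc A N B) * (letI := quoAct N hN; Fc A (K ⧸ N) B) := by
  letI i1 := subAct N hN
  letI i2 := quoAct N hN
  change Nat.card (fxs K B) = Nat.card (fxs N B) * Nat.card (fxs (K ⧸ N) B)
  let π : fxs K B →* K ⧸ N := (QuotientGroup.mk' N).comp (fxs K B).subtype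
  have hker : Nat.card π.ker = Nat.card (fxs N B) :=
    Nat.card_congr
      { toFun := fun x => ⟨⟨x.1.1, (QuotientGroup.eq_one_iff _).mp x.2⟩, fun b hb =>
          Subtype.ext (x.1.2 b hb)⟩
        invFun := fun x => ⟨⟨x.1.1, fun b hb => congrArg Subtype.val (x.2 b hb)⟩,
          (QuotientGroup.eq_one_iff _).mpr x.1.2⟩
        left_inv := fun _ => rfl
        right_inv := fun _ => rfl }
  have hrange : π.range = fxs (K ⧸ N) B := by
    ext x
    constructor
    · rintro ⟨k, rfl⟩ b hb
      change (((b • (k : K)) : K) : K ⧸ N) = ((k : K) : K ⧸ N)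
      rw [k.2 b hb]
    · intro hx
      obtain ⟨k, rfl⟩ := QuotientGroup.mk_surjective x
      obtain ⟨c, hc, hkc⟩ := fix_coset hA hcop B N (fun b _ => hN b) k (fun b hb => by
        have h1 : (((b • k : K)) : K ⧸ N) = (k : K ⧸ N) := hx b hb
        exact QuotientGroup.eq.mp h1.symm)
      exact ⟨⟨c, hc⟩, (QuotientGroup.eq.mpr hkc).symm⟩
  rw [Subgroup.card_eq_card_quotient_mul_card_subgroup π.ker, hker, ← hrange, mul_comm]
  congr 1
  exact Nat.card_congr (QuotientGroup.quotientKerEquivRange π).toEquiv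

/-- the case of an irreducible abelian group -/
theorem mk_irr [Finite A] [Finite K] (hA : Group.IsSolvable A)
    (hcop : (Nat.card A).Coprime (Nat.card K)) (hcomm : ∀ x y : K, x * y = y * x)
    (hirr : ∀ N : Subgroup K, (∀ (a : A), ∀ n ∈ N, a • n ∈ N) → N = ⊥ ∨ N = ⊤)
    (hnt : Nontrivial K) : Mk.{v, w} A (fun B => Fc A K B * Fc A K B) := by
  let _ : CommGroup K := { (inferInstance : Group K) with mul_comm := hcomm }
  let φ : A →* AU (Additive K) := MonoidHom.toHomUnits
    { toFun := fun a => MonoidHom.toAdditive (MulDistribMulAction.toMonoidHom K a)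
      map_one' := by
        apply AddMonoidHom.ext
        intro x
        exact one_smul A (Additive.toMul x)
      map_mul' := fun a b => by
        apply AddMonoidHom.ext
        intro x
        exact mul_smul a b (Additive.toMul x) }
  have hφ : ∀ (a : A) (x : Additive K), (φ a).1 x = Additive.ofMul (a • (Additive.toMul x : K)) :=
    fun _ _ => rfl
  have hsol : Group.IsSolvable φ.range :=
    Group.isSolvable_of_surjective (f := φ.rangeRestrict) φ.rangeRestrict_surjective
  have hirr' : Irr φ.range := by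
    intro U hU
    rcases hirr (AddSubgroup.toSubgroup' U) (fun a n hn => hU _ ⟨a, rfl⟩ (Additive.ofMul n) hn)
      with h | h
    · left
      rw [eq_bot_iff]
      intro x hx
      have h1 : (Additive.toMul x : K) ∈ AddSubgroup.toSubgroup' U := hx
      rw [h, Subgroup.mem_bot] at h1
      exact h1
    · right
      rw [eq_top_iff]
      intro x _
      have h1 : (Additive.toMul x : K) ∈ AddSubgroup.toSubgroup' U := by rw [h]; trivial
      exact h1
  have hnt' : Nontrivial (Additive K) := inferInstance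
  have hc : (Nat.card φ.range).Coprime (Nat.card (Additive K)) :=
    Nat.Coprime.coprime_dvd_left (Subgroup.card_range_dvd φ) hcop
  obtain ⟨v, hv⟩ := irr2cop φ.range hsol hc hirr'
  refine ⟨K × K, inferInstance, inferInstance,
    ⟨(Additive.toMul (v 0), Additive.toMul (v 1)), fun a ha x => ?_⟩, fun B => ?_⟩
  · have h1 : φ a = 1 := by
      apply hv _ ⟨a, rfl⟩
      intro i
      fin_cases i
      · exact congrArg Prod.fst ha
      · exact congrArg Prod.snd ha
    have h2 : ∀ y : K, a • y = y := by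
      intro y
      have h3 := hφ a (Additive.ofMul y)
      rw [h1] at h3
      exact h3.symm
    exact Prod.ext (h2 _) (h2 _)
  · change Nat.card _ = Nat.card _ * Nat.card _
    rw [← Nat.card_prod]
    exact Nat.card_congr
      { toFun := fun x => (⟨x.1.1, fun b hb => congrArg Prod.fst (x.2 b hb)⟩,
          ⟨x.1.2, fun b hb => congrArg Prod.snd (x.2 b hb)⟩)
        invFun := fun x => ⟨(x.1.1, x.2.1), fun b hb => Prod.ext (x.1.2 b hb) (x.2.2 b hb)⟩
        left_inv := fun _ => rfl
        right_inv := fun _ => rfl }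

/-- **the squares of the fixed point numbers are marks with a regular point** -/
theorem mk_sq (A : Type w) [Group A] [Finite A] (hA : Group.IsSolvable A) (n : ℕ) :
    ∀ (K : Type v) [Group K] [Finite K] [MulDistribMulAction A K], Nat.card K = n →
      (Nat.card A).Coprime (Nat.card K) → Mk.{v, w} A (fun B => Fc A K B * Fc A K B) := by
  induction n using Nat.strong_induction_on with
  | _ n ih =>
  intro K _ _ _ hn hcop
  classical
  by_cases hpp : ∃ p k : ℕ, p.Prime ∧ Nat.card K = p ^ k
  · obtain ⟨p, k, hp, hk⟩ := hpp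
    have hfact : Fact p.Prime := ⟨hp⟩
    by_cases htriv : Subsingleton K
    · have h1 : (fun B : Subgroup A => Fc A K B * Fc A K B) = fun _ => 1 := by
        funext B
        have : Fc A K B = 1 := by
          unfold Fc
          rw [Nat.card_eq_one_iff_unique]
          exact ⟨inferInstance, ⟨⟨1, fun b _ => smul_one b⟩⟩⟩
        rw [this]
      rw [h1]
      exact Mk.one A
    rw [not_subsingleton_iff_nontrivial] at htriv
    by_cases hN : ∃ N : Subgroup K, N.Normal ∧ (∀ (a : A), ∀ n ∈ N, a • n ∈ N) ∧ N ≠ ⊥ ∧ N ≠ ⊤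
    · obtain ⟨N, hNn, hNinv, hN0, hN1⟩ := hN
      have h1 : Nat.card N < n := by
        rw [← hn]
        refine lt_of_le_of_ne (Nat.card_le_card_of_injective _ Subtype.val_injective) fun h => ?_
        exact hN1 (Subgroup.eq_top_of_card_eq _ h)
      have h2 : Nat.card (K ⧸ N) < n := by
        have h3 := Subgroup.card_eq_card_quotient_mul_card_subgroup N
        rw [hn] at h3
        have h4 : 1 < Nat.card N := (Subgroup.one_lt_card_iff_ne_bot N).mpr hN0
        have h5 : 0 < Nat.card (K ⧸ N) := Nat.card_pos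
        rw [h3]
        nlinarith
      have h3 := @ih _ h1 N _ _ (subAct N hNinv) rfl
        (Nat.Coprime.coprime_dvd_right (Subgroup.card_subgroup_dvd_card N) hcop)
      have h4 := @ih _ h2 (K ⧸ N) _ _ (quoAct N hNinv) rfl
        (Nat.Coprime.coprime_dvd_right (Subgroup.card_quotient_dvd_card N) hcop)
      have h5 := h3.mul h4
      have h6 : (fun B : Subgroup A => Fc A K B * Fc A K B) = fun B =>
          ((letI := subAct N hNinv; Fc A N B) * (letI := subAct N hNinv; Fc A N B)) *
          ((letI := quoAct N hNinv; Fc A (K ⧸ N) B) *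
            (letI := quoAct N hNinv; Fc A (K ⧸ N) B)) := by
        funext B
        rw [fc_mul hA hcop N hNinv B]
        ring
      rw [h6]
      exact h5
    · push Not at hN
      have hab : ∀ x y : K, x * y = y * x := by
        have h1 : commutator K ≠ ⊤ := by
          have h2 : IsPGroup p K := IsPGroup.of_card hk
          have h3 : Group.IsNilpotent K := h2.isNilpotent
          have h4 : Group.IsSolvable K := inferInstance
          intro h5
          have h6 : (⊤ : Subgroup K) ≠ ⊥ := top_ne_bot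
          have h7 := Group.IsSolvable.commutator_lt_of_ne_bot h6
          exact h7.ne h5
        have h2 : commutator K = ⊥ := by
          by_contra hne
          refine h1 (hN (commutator K) inferInstance (fun a n hn => ?_) hne)
          have h3 : (commutator K).map (MulDistribMulAction.toMonoidHom K a) ≤ commutator K := by
            rw [commutator_def, Subgroup.map_commutator]
            exact Subgroup.commutator_mono le_top le_top
          exact h3 ⟨n, hn, rfl⟩
        intro x y
        have h3 : x * y * x⁻¹ * y⁻¹ ∈ commutator K :=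
          Subgroup.commutator_mem_commutator (Subgroup.mem_top x) (Subgroup.mem_top y)
        rw [h2, Subgroup.mem_bot, mul_inv_eq_one, mul_inv_eq_iff_eq_mul] at h3
        exact h3
      refine mk_irr hA hcop hab (fun N hNinv => ?_) htriv
      by_cases h0 : N = ⊥
      · exact Or.inl h0
      · right
        have hNn : N.Normal := ⟨fun n hn g => by
          rw [hab g n, mul_inv_cancel_right]; exact hn⟩
        exact hN N hNn hNinv h0
  · -- several primes
    push Not at hpp
    choose P hPinv hPcard hPfix using fun p : {p : ℕ // p.Prime} =>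
      inv_sylow (A := A) (K := K) hA hcop p.1 p.2
    have hlt : ∀ p : {p : ℕ // p.Prime}, Nat.card (P p) < n := by
      intro p
      rw [← hn]
      refine lt_of_le_of_ne (Nat.card_le_card_of_injective _ Subtype.val_injective) fun h => ?_
      exact hpp p.1 _ p.2 (h.symm.trans (hPcard p))
    have h1 : ∀ p : {p : ℕ // p.Prime}, Mk.{v, w} A
        (fun B => p.1 ^ (Fc A K B).factorization p.1 * p.1 ^ (Fc A K B).factorization p.1) := by
      intro p
      have h2 := @ih _ (hlt p) (P p) _ _ (subAct (P p) (hPinv p)) rfl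
        (Nat.Coprime.coprime_dvd_right (Subgroup.card_subgroup_dvd_card _) hcop)
      have h3 : ∀ B : Subgroup A, (letI := subAct (P p) (hPinv p); Fc A (P p) B) =
          p.1 ^ (Fc A K B).factorization p.1 := by
        intro B
        rw [← hPfix p B]
        exact Nat.card_congr (Equiv.subtypeEquivRight fun x =>
          ⟨fun h b hb => congrArg Subtype.val (h b hb), fun h b hb => Subtype.ext (h b hb)⟩)
      have h4 : (fun B : Subgroup A =>
          p.1 ^ (Fc A K B).factorization p.1 * p.1 ^ (Fc A K B).factorization p.1) =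
          fun B => (letI := subAct (P p) (hPinv p); Fc A (P p) B) *
            (letI := subAct (P p) (hPinv p); Fc A (P p) B) := by
        funext B
        rw [h3]
      rw [h4]
      exact h2
    have h2 := Mk.prod (A := A) (Nat.card K).primeFactors
      (f := fun p B => p ^ (Fc A K B).factorization p * p ^ (Fc A K B).factorization p)
      (fun p hp => h1 ⟨p, Nat.prime_of_mem_primeFactors hp⟩)
    have h3 : (fun B : Subgroup A => Fc A K B * Fc A K B) = fun B =>
        ∏ p ∈ (Nat.card K).primeFactors,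
          (p ^ (Fc A K B).factorization p * p ^ (Fc A K B).factorization p) := by
      funext B
      rw [Finset.prod_mul_distrib]
      have h4 : Fc A K B = ∏ p ∈ (Nat.card K).primeFactors,
          p ^ (Fc A K B).factorization p := by
        have h5 : Fc A K B ∣ Nat.card K := Subgroup.card_subgroup_dvd_card (fxs K B)
        have h6 : Fc A K B ≠ 0 := Nat.card_pos (α := fxs K B) |>.ne'
        have h7 : (Fc A K B).primeFactors ⊆ (Nat.card K).primeFactors :=
          Nat.primeFactors_mono h5 Nat.card_pos.ne'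
        conv_lhs => rw [← Nat.prod_factorization_pow_eq_self h6]
        rw [Finsupp.prod_of_support_subset _ h7 _ (fun _ _ => pow_zero _)]
      rw [← h4]
    rw [h3]
    exact h2

/-- **Base size two for coprime actions of solvable groups.** -/
theorem base_two {A : Type w} {K : Type v} [Group A] [Finite A] [Group K] [Finite K]
    [MulDistribMulAction A K] (hA : Group.IsSolvable A)
    (hcop : (Nat.card A).Coprime (Nat.card K)) :
    ∃ x y : K, ∀ a : A, a • x = x → a • y = y → ∀ z : K, a • z = z := by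
  have h1 := mk_sq A hA _ K rfl hcop
  have h2 : (fun B : Subgroup A => Fc A K B * Fc A K B) = Fc A (K × K) := by
    funext B
    symm
    change Nat.card _ = Nat.card _ * Nat.card _
    rw [← Nat.card_prod]
    exact Nat.card_congr
      { toFun := fun x => (⟨x.1.1, fun b hb => congrArg Prod.fst (x.2 b hb)⟩,
          ⟨x.1.2, fun b hb => congrArg Prod.snd (x.2 b hb)⟩)
        invFun := fun x => ⟨(x.1.1, x.2.1), fun b hb => Prod.ext (x.1.2 b hb) (x.2.2 b hb)⟩
        left_inv := fun _ => rfl
        right_inv := fun _ => rfl }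
  rw [h2] at h1
  obtain ⟨⟨x, y⟩, hxy⟩ := h1.transfer
  exact ⟨x, y, fun a hx hy z => congrArg Prod.fst (hxy a (Prod.ext hx hy) (z, z))⟩

end Cfsg.Agent.H578.CopAct
end
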